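import Cfsg.Agent.H5.V3
import Cfsg.Agent.H5.Infl
import Cfsg.Agent.H5.Prin2

set_option autoImplicit false
set_option linter.style.haveILetI false
set_option linter.unusedVariables false
set_option linter.unusedSectionVars false
set_option linter.unusedSimpArgs false

/-! Blocks of quotients. -/

namespace Cfsg.Agent.H5

open Cfsg
open scoped ComplexConjugate

universe u v w

section quot
variable {G : Type u} [Group G] [Fintype G] {p : ℕ} {M : Ideal AlgInt}

theorem pushQ_memLocR [hM' : M.IsPrime] (N : Subgroup G) [N.Normal] {z : G → ℂ} (hz : ∀ g, MemLocalRing M (z g)) (c : G ⧸ N) :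
    MemLocalRing M (pushQ N z c) := by
  classical
  unfold pushQ
  apply memLocR_sum
  intro g _
  split_ifs
  · exact hz g
  · exact memLocR_zero

/-- If every integral central element of the quotient comes from one upstairs. -/
theorem sameBlock_of_lift [hM' : M.IsPrime] {N : Subgroup G} [hN : N.Normal] {χ ψ : IrrCharacter (G ⧸ N)}
    (hlift : ∀ β : G ⧸ N → ℂ, IsClassFunction (G ⧸ N) β → (∀ q, MemLocalRing M (β q)) →
      (∀ q, β q = blockCoeff (blockOf M (χ : G ⧸ N → ℂ)) q) →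
      ∃ z : G → ℂ, IsClassFunction G z ∧ (∀ g, MemLocalRing M (z g)) ∧ pushQ N z = β)
    (h : SameBlock M ((χ : G ⧸ N → ℂ) ∘ QuotientGroup.mk) ((ψ : G ⧸ N → ℂ) ∘ QuotientGroup.mk)) :
    SameBlock M (χ : G ⧸ N → ℂ) (ψ : G ⧸ N → ℂ) := by
  classical
  haveI := Fintype.ofFinite (G ⧸ N)
  have hB := isPBlock_blockOf (M := M) χ
  obtain ⟨z, hz, hR, hp⟩ := hlift (blockCoeff (blockOf M (χ : G ⧸ N → ℂ))) (blockCoeff_classFun _)
    (fun q => blockCoeff_memLocR hB q) (fun q => rfl)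
  have h1 := omega_congr (M := M) hz hR (χ := ⟨_, irr_inflate χ⟩) (ψ := ⟨_, irr_inflate ψ⟩) h
  have h2 := omega_pushQ N z (χ : G ⧸ N → ℂ)
  have h3 := omega_pushQ N z (ψ : G ⧸ N → ℂ)
  change MemLocalIdeal M (omega ((χ : G ⧸ N → ℂ) ∘ QuotientGroup.mk) z - omega ((ψ : G ⧸ N → ℂ) ∘ QuotientGroup.mk) z) at h1
  rw [← h2, ← h3, hp] at h1
  have h4 := omega_fB (blockOf M (χ : G ⧸ N → ℂ)) χ
  have h5 := omega_fB (blockOf M (χ : G ⧸ N → ℂ)) ψ
  rw [h4, h5, ind1_mem (mem_blockOf_self χ)] at h1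
  by_contra h6
  rw [ind1_not_mem (show ψ ∉ blockOf M (χ : G ⧸ N → ℂ) from h6), sub_zero] at h1
  exact memLocI_one h1

theorem sameBlock_inflate [hM' : M.IsPrime] {N : Subgroup G} [hN : N.Normal] {χ ψ : IrrCharacter (G ⧸ N)}
    (h : SameBlock M (χ : G ⧸ N → ℂ) (ψ : G ⧸ N → ℂ)) :
    SameBlock M ((χ : G ⧸ N → ℂ) ∘ QuotientGroup.mk) ((ψ : G ⧸ N → ℂ) ∘ QuotientGroup.mk) := by
  classical
  haveI := Fintype.ofFinite (G ⧸ N)
  intro g
  have h0 : ∀ θ : IrrCharacter (G ⧸ N), centralChar ((θ : G ⧸ N → ℂ) ∘ QuotientGroup.mk) g = omega (θ : G ⧸ N → ℂ) (pushQ N (cind g)) := by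
    intro θ
    rw [omega_pushQ, centralChar_eq_omega (irr_classFun ⟨_, irr_inflate θ⟩)]
  rw [h0, h0]
  apply omega_congr (pushQ_classFun N (cind_classFun g)) (pushQ_memLocR N _) h
  intro x
  by_cases hx : IsConj g x
  · rw [cind_pos hx]; exact memLocR_one
  · rw [cind_neg hx]; exact memLocR_zero

/-- `p'`-kernels. -/
theorem sameBlock_deflate (hM : IsPModular p M) {N : Subgroup G} [hN : N.Normal] (hNp : ¬ p ∣ Nat.card N) {χ ψ : IrrCharacter (G ⧸ N)}
    (h : SameBlock M ((χ : G ⧸ N → ℂ) ∘ QuotientGroup.mk) ((ψ : G ⧸ N → ℂ) ∘ QuotientGroup.mk)) :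
    SameBlock M (χ : G ⧸ N → ℂ) (ψ : G ⧸ N → ℂ) := by
  classical
  haveI := isPrime_of_isPModular hM
  apply sameBlock_of_lift _ h
  intro β hβ hR hβ2
  refine ⟨fun g => (Nat.card N : ℂ)⁻¹ * β (QuotientGroup.mk g), ?_, ?_, ?_⟩
  · intro a b
    show (Nat.card N : ℂ)⁻¹ * β _ = (Nat.card N : ℂ)⁻¹ * β _
    congr 1
    exact hβ (QuotientGroup.mk a) (QuotientGroup.mk b)
  · intro g
    exact memLocR_mul (memLocR_inv_natCast hM hNp) (hR _)
  · funext c
    obtain ⟨x, rfl⟩ := QuotientGroup.mk_surjective c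
    unfold pushQ
    rw [← Finset.sum_filter]
    have h1 : ∀ g ∈ Finset.univ.filter (fun g : G => (QuotientGroup.mk g : G ⧸ N) = QuotientGroup.mk x),
        (Nat.card N : ℂ)⁻¹ * β (QuotientGroup.mk g) = (Nat.card N : ℂ)⁻¹ * β (QuotientGroup.mk x) := by
      intro g hg
      rw [(Finset.mem_filter.mp hg).2]
    rw [Finset.sum_congr rfl h1, Finset.sum_const, nsmul_eq_mul]
    have h2 : (Finset.univ.filter (fun g : G => (QuotientGroup.mk g : G ⧸ N) = QuotientGroup.mk x)).card = Nat.card N := by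
      rw [← Fintype.card_coe, ← Nat.card_eq_fintype_card]
      apply Nat.card_congr
      refine ⟨fun g => ⟨x⁻¹ * (g : G), ?_⟩, fun n => ⟨x * (n : G), ?_⟩, ?_, ?_⟩
      · have := (Finset.mem_filter.mp g.2).2
        exact QuotientGroup.eq.mp this.symm
      · rw [Finset.mem_filter]
        refine ⟨Finset.mem_univ _, ?_⟩
        symm
        rw [QuotientGroup.eq]
        simp
      · intro g; apply Subtype.ext; simp
      · intro n; apply Subtype.ext; simp
    rw [h2]
    have hne : (Nat.card N : ℂ) ≠ 0 := by exact_mod_cast Nat.card_pos.ne'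
    field_simp

theorem mem_ker_of_over_one (hM : IsPModular p M) {N : Subgroup G} [hN : N.Normal] (hNp : ¬ p ∣ Nat.card N)
    {χ ψ : IrrCharacter G} (hχ : ∀ n ∈ N, (χ : G → ℂ) n = (χ : G → ℂ) 1) (h : SameBlock M (χ : G → ℂ) (ψ : G → ℂ)) :
    ∀ n ∈ N, (ψ : G → ℂ) n = (ψ : G → ℂ) 1 := by
  haveI := isPrime_of_isPModular hM
  haveI : Fintype N := Fintype.ofFinite _
  have h1 : classInner (fun n : N => (χ : G → ℂ) n) (fun _ : N => (1 : ℂ)) ≠ 0 := by
    have h2 : (fun n : N => (χ : G → ℂ) n) = (χ : G → ℂ) 1 • (fun _ : N => (1 : ℂ)) := by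
      funext n
      rw [hχ n n.2]; simp
    have h3 := classInner_irr_self (⟨_, isIrrCharacter_trivial⟩ : IrrCharacter N)
    change classInner (fun _ : N => (1 : ℂ)) (fun _ : N => (1 : ℂ)) = 1 at h3
    rw [h2, classInner_smul_left, h3, mul_one]
    exact IsIrr.one_ne_zero χ.2
  have h2 := under_iff_of_preg hM hNp h (θ := ⟨_, isIrrCharacter_trivial⟩) h1
  change classInner (fun n : N => (ψ : G → ℂ) n) (fun _ : N => (1 : ℂ)) ≠ 0 at h2
  have h3 := H4.clifford_restrict hN (ψ : G → ℂ) ψ.2 (fun _ : N => (1 : ℂ)) isIrrCharacter_trivial h2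
  have h4 : {φ : N → ℂ | ∃ g : G, φ = H4.conjBy hN g (fun _ : N => (1 : ℂ))} = {fun _ : N => (1 : ℂ)} := by
    ext φ
    constructor
    · rintro ⟨g, rfl⟩; rfl
    · rintro rfl; exact ⟨1, rfl⟩
  rw [h4, finsum_mem_singleton] at h3
  intro n hn
  have h5 := congrFun h3 ⟨n, hn⟩
  have h6 := congrFun h3 1
  change (ψ : G → ℂ) n = _ at h5
  change (ψ : G → ℂ) 1 = _ at h6
  rw [h5, h6]
  rfl

theorem blockCoeff_one_ne' [hM' : M.IsPrime] {B : Set (IrrCharacter G)} (hB : IsPBlock M B) : blockCoeff B 1 ≠ 0 := by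
  classical
  obtain ⟨χ0, hχ0⟩ := IsPBlock.nonempty' hB
  unfold blockCoeff
  rw [finsum_mem_bF]
  apply mul_ne_zero
  · exact inv_ne_zero (by exact_mod_cast Nat.card_pos.ne')
  · intro h
    have h1 : ∀ χ : IrrCharacter G, (χ : G → ℂ) 1 * conj ((χ : G → ℂ) 1) = ((Complex.normSq ((χ : G → ℂ) 1) : ℝ) : ℂ) := by
      intro χ; rw [Complex.mul_conj]
    simp only [h1] at h
    rw [← Complex.ofReal_sum] at h
    have h2 := Complex.ofReal_eq_zero.mp h
    rw [Finset.sum_eq_zero_iff_of_nonneg (fun χ _ => Complex.normSq_nonneg _)] at h2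
    have h3 := h2 χ0 (mem_bF.mpr hχ0)
    exact IsIrr.one_ne_zero χ0.2 (Complex.normSq_eq_zero.mp h3)

theorem exists_regular_mk (hp : p.Prime) {N : Subgroup G} [hN : N.Normal] {c : G ⧸ N} (hc : ¬ p ∣ orderOf c) :
    ∃ x : G, ¬ p ∣ orderOf x ∧ (QuotientGroup.mk x : G ⧸ N) = c := by
  obtain ⟨y, rfl⟩ := QuotientGroup.mk_surjective c
  have hpos : 0 < orderOf y := orderOf_pos y
  obtain ⟨a, m, hm, hy⟩ := Nat.exists_eq_pow_mul_and_not_dvd hpos.ne' p hp.ne_one
  have hcop : Nat.Coprime (p ^ a) (orderOf (QuotientGroup.mk y : G ⧸ N)) :=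
    Nat.Coprime.pow_left a ((Nat.Prime.coprime_iff_not_dvd hp).mpr hc)
  obtain ⟨k, hk1, hk2⟩ := Nat.chineseRemainder hcop 0 1
  refine ⟨y ^ k, ?_, ?_⟩
  · intro hd
    have h1 : (y ^ k) ^ m = 1 := by
      rw [← pow_mul, ← orderOf_dvd_iff_pow_eq_one, hy]
      exact mul_dvd_mul ((Nat.modEq_zero_iff_dvd).mp hk1) dvd_rfl
    exact hm (hd.trans (orderOf_dvd_of_pow_eq_one h1))
  · show (QuotientGroup.mk y : G ⧸ N) ^ k = QuotientGroup.mk y
    conv_rhs => rw [← pow_one (QuotientGroup.mk y : G ⧸ N)]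
    rw [pow_eq_pow_iff_modEq]
    exact hk2

/-- Normal `p`-subgroups: a block contains an inflated character. -/
theorem exists_inflated (hM : IsPModular p M) {P : Subgroup G} [hP' : P.Normal] (hP : IsPGroup p P) {B : Set (IrrCharacter G)}
    (hB : IsPBlock M B) : ∃ χ : IrrCharacter (G ⧸ P), ∃ θ ∈ B, (θ : G → ℂ) = (χ : G ⧸ P → ℂ) ∘ QuotientGroup.mk := by
  classical
  haveI := isPrime_of_isPModular hM
  haveI := Fintype.ofFinite (G ⧸ P)
  by_contra hcon
  push Not at hcon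
  have h1 : pushQ P (fun g => blockCoeff B g) = 0 := by
    have h2 := cen_omega (pushQ_classFun P (blockCoeff_classFun B))
    have h3 : (fun χ : IrrCharacter (G ⧸ P) => omega (χ : G ⧸ P → ℂ) (pushQ P (blockCoeff B))) = fun _ => 0 := by
      funext χ
      rw [omega_pushQ]
      have h4 := omega_fB B ⟨_, irr_inflate χ⟩
      change omega ((χ : G ⧸ P → ℂ) ∘ QuotientGroup.mk) (blockCoeff B) = _ at h4
      rw [h4, ind1_not_mem]
      intro h5
      exact hcon χ _ h5 rfl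
    rw [h3] at h2
    have h5 : (fun g => blockCoeff B g) = blockCoeff B := rfl
    rw [h5, ← h2]
    funext q
    have := cen_const (G := G ⧸ P) 0 q
    rw [this]
    split_ifs <;> rfl
  have h2 := congrFun h1 (QuotientGroup.mk 1 : G ⧸ P)
  change (∑ g : G, if (QuotientGroup.mk g : G ⧸ P) = QuotientGroup.mk 1 then blockCoeff B g else 0) = 0 at h2
  rw [Finset.sum_eq_single (1 : G)] at h2
  · rw [if_pos rfl] at h2
    exact blockCoeff_one_ne' hB h2
  · intro g _ hg
    by_cases h3 : (QuotientGroup.mk g : G ⧸ P) = QuotientGroup.mk 1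
    · rw [if_pos h3]
      by_contra h4
      have h5 := regular_of_blockCoeff hM (fun g => blockCoeff_memLocR hB g) h4
      have h6 : g ∈ P := by
        rw [eq_comm, QuotientGroup.eq] at h3
        simpa using h3
      obtain ⟨k, hk⟩ := hP ⟨g, h6⟩
      apply hg
      rw [← orderOf_eq_one_iff]
      have h7 : orderOf g ∣ p ^ k := orderOf_dvd_of_pow_eq_one (by simpa using congrArg Subtype.val hk)
      obtain ⟨j, -, hj⟩ := (Nat.dvd_prime_pow hM.1).mp h7
      rcases Nat.eq_zero_or_pos j with rfl | hj0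
      · simpa using hj
      · exact absurd (hj ▸ dvd_pow_self p hj0.ne') h5
    · rw [if_neg h3]
  · intro h; exact absurd (Finset.mem_univ _) h

/-- Quotients by normal `p`-subgroups, when cosets contain unique regular elements. -/
theorem sameBlock_deflate_p (hM : IsPModular p M) {P : Subgroup G} [hP' : P.Normal] (hP : IsPGroup p P)
    (hU : ∀ (β : G ⧸ P → ℂ), (∀ q, MemLocalRing M (β q)) → (∃ χ : IrrCharacter (G ⧸ P), ∀ q, β q = blockCoeff (blockOf M (χ : G ⧸ P → ℂ)) q) →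
      ∀ x : G, β (QuotientGroup.mk x) ≠ 0 → ¬ p ∣ orderOf x → ∀ y : G, ¬ p ∣ orderOf y → (QuotientGroup.mk y : G ⧸ P) = QuotientGroup.mk x → y = x)
    {χ ψ : IrrCharacter (G ⧸ P)}
    (h : SameBlock M ((χ : G ⧸ P → ℂ) ∘ QuotientGroup.mk) ((ψ : G ⧸ P → ℂ) ∘ QuotientGroup.mk)) :
    SameBlock M (χ : G ⧸ P → ℂ) (ψ : G ⧸ P → ℂ) := by
  classical
  haveI := isPrime_of_isPModular hM
  haveI := Fintype.ofFinite (G ⧸ P)
  apply sameBlock_of_lift _ h
  intro β hβ hR hβ2
  refine ⟨fun g => if p ∣ orderOf g then 0 else β (QuotientGroup.mk g), ?_, ?_, ?_⟩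
  · intro a b
    have e : orderOf (b * a * b⁻¹) = orderOf a := orderOf_conj' a b
    simp only [e]
    by_cases h1 : p ∣ orderOf a
    · rw [if_pos h1, if_pos h1]
    · rw [if_neg h1, if_neg h1]
      exact hβ (QuotientGroup.mk a) (QuotientGroup.mk b)
  · intro g
    dsimp only
    by_cases h1 : p ∣ orderOf g
    · rw [if_pos h1]; exact memLocR_zero
    · rw [if_neg h1]; exact hR _
  · funext c
    by_cases hc : β c = 0
    · rw [hc]
      unfold pushQ
      apply Finset.sum_eq_zero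
      intro g _
      dsimp only
      by_cases h1 : (QuotientGroup.mk g : G ⧸ P) = c
      · rw [if_pos h1, h1, hc, ite_self]
      · rw [if_neg h1]
    · have hreg : ¬ p ∣ orderOf c := by
        apply regular_of_blockCoeff hM (B := blockOf M (χ : G ⧸ P → ℂ)) (fun g => blockCoeff_memLocR (isPBlock_blockOf χ) g)
        rwa [← hβ2]
      obtain ⟨x, hx, hxc⟩ := exists_regular_mk hM.1 hreg
      unfold pushQ
      rw [Finset.sum_eq_single x]
      · dsimp only
        rw [if_pos hxc, if_neg hx, hxc]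
      · intro g _ hg
        dsimp only
        by_cases h1 : (QuotientGroup.mk g : G ⧸ P) = c
        · rw [if_pos h1, if_pos]
          by_contra h2
          apply hg
          exact hU β hR ⟨χ, hβ2⟩ x (by rw [hxc]; exact hc) hx g h2 (by rw [h1, hxc])
        · rw [if_neg h1]
      · intro h; exact absurd (Finset.mem_univ _) h

end quot

end Cfsg.Agent.H5
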