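import Cfsg.Agent.H5.V4
import Cfsg.Agent.L0.Coprime
import Cfsg.Agent.H1.PQuot
import Cfsg.Agent.L0.Fus.Bis13

set_option autoImplicit false
set_option linter.style.haveILetI false
set_option linter.unusedVariables false
set_option linter.unusedSectionVars false
set_option linter.unusedSimpArgs false

/-! Quotients by normal `p`-subgroups. -/

namespace Cfsg.Agent.H5

open Cfsg
open scoped ComplexConjugate

universe u v w

section quotp
variable {G : Type u} [Group G] [Fintype G] {p : ℕ} {M : Ideal AlgInt}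

/-- If `x` is regular and centralizes the normal `p`-subgroup `P`, then it is the only regular element of its coset. -/
theorem eq_of_regular_coset (hp : p.Prime) {P : Subgroup G} (hP : IsPGroup p P) {x y : G} (hx : ¬ p ∣ orderOf x)
    (hxC : x ∈ Subgroup.centralizer (P : Set G)) (hy : ¬ p ∣ orderOf y) (h : x⁻¹ * y ∈ P) : y = x := by
  obtain ⟨u, hu⟩ : ∃ u, u = x⁻¹ * y := ⟨_, rfl⟩
  have hyu : y = x * u := by rw [hu]; group
  rw [← hu] at h
  have hc : Commute u x := (Subgroup.mem_centralizer_iff.mp hxC u h)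
  have hup : ∃ k : ℕ, orderOf u = p ^ k := exists_orderOf_pow hp hP h
  have h1 := regPart_unique hp (g := y) (x := u) (s := x) (x' := 1) (s' := y) (by rw [hyu, hc.eq]) hc hup hx
    (one_mul y) (Commute.one_left y) ⟨0, by simp⟩ hy
  exact h1.symm

theorem preg_centralizer (hM : IsPModular p M) {P : Subgroup G} [hPn : P.Normal] (hP : IsPGroup p P) {B : Set (IrrCharacter G)}
    (hB : IsPBlock M B) {g : G} (hg : blockCoeff B g ≠ 0) : g ∈ Subgroup.centralizer (P : Set G) := by
  haveI := isPrime_of_isPModular hM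
  obtain ⟨U, hU, hUe, hUc⟩ := blockCoeff_eq_sub hM hP (IsPBlock.isBU hB)
  by_contra h
  apply hg
  rw [hUc, subgroupBlockCoeff_not_mem U h]

theorem centralizer_of_mod_commutator {D : Subgroup G} [hD : D.Normal] (hp : p.Prime) (hDp : IsPGroup p D) {x : G}
    (hx : ¬ p ∣ orderOf x) (h : ∀ d ∈ D, d * x * d⁻¹ * x⁻¹ ∈ ⁅D, D⁆) : x ∈ Subgroup.centralizer (D : Set G) := by
  haveI : Fact p.Prime := ⟨hp⟩
  have hAN : Subgroup.zpowers x ≤ Subgroup.normalizer (D : Set G) := le_trans le_top (normalizer_normal D)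
  have hcop : (Nat.card (Subgroup.zpowers x)).Coprime (Nat.card D) := by
    rw [Nat.card_zpowers]
    obtain ⟨k, hk⟩ := IsPGroup.iff_card.mp hDp
    rw [hk]
    exact (Nat.Coprime.pow_left k ((Nat.Prime.coprime_iff_not_dvd hp).mpr hx)).symm
  have hs : Group.IsSolvable (Subgroup.zpowers x) ∨ Group.IsSolvable D := by
    right
    exact Cfsg.Agent.H1.isSolvable_of_isPGroup hDp
  have hD' : (⁅D, D⁆ : Subgroup G).Normal := inferInstance
  have h1 : ⁅D, Subgroup.zpowers x⁆ ≤ ⁅D, D⁆ := by
    have h2 : Subgroup.zpowers x ≤ Subgroup.comap (QuotientGroup.mk' ⁅D, D⁆) (Subgroup.centralizer ((D.map (QuotientGroup.mk' ⁅D, D⁆) : Subgroup _) : Set (G ⧸ ⁅D, D⁆))) := by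
      rw [Subgroup.zpowers_le, Subgroup.mem_comap, Subgroup.mem_centralizer_iff]
      rintro _ ⟨d, hd, rfl⟩
      have h3 := h d hd
      rw [← QuotientGroup.eq_one_iff] at h3
      have h4 : (QuotientGroup.mk' ⁅D, D⁆) d * (QuotientGroup.mk' ⁅D, D⁆) x * ((QuotientGroup.mk' ⁅D, D⁆) d)⁻¹ * ((QuotientGroup.mk' ⁅D, D⁆) x)⁻¹ = 1 := h3
      rw [mul_inv_eq_one, mul_inv_eq_iff_eq_mul] at h4
      exact h4
    rw [Subgroup.commutator_le]
    intro d hd y hy
    have h5 := h2 hy
    rw [Subgroup.mem_comap, Subgroup.mem_centralizer_iff] at h5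
    have h6 := h5 _ ⟨d, hd, rfl⟩
    rw [← QuotientGroup.eq_one_iff]
    show (QuotientGroup.mk' ⁅D, D⁆) d * (QuotientGroup.mk' ⁅D, D⁆) y * ((QuotientGroup.mk' ⁅D, D⁆) d)⁻¹ * ((QuotientGroup.mk' ⁅D, D⁆) y)⁻¹ = 1
    rw [mul_inv_eq_one, mul_inv_eq_iff_eq_mul]
    exact h6
  have h7 := Cfsg.Agent.L0.commutator_eq_bot_of_le_frattini hAN hcop hs (h1.trans (Cfsg.Agent.L0.Fus.comm_le_frattini hDp))
  rw [Subgroup.mem_centralizer_iff]
  intro d hd
  have h8 : d * x * d⁻¹ * x⁻¹ ∈ ⁅D, Subgroup.zpowers x⁆ := Subgroup.commutator_mem_commutator hd (Subgroup.mem_zpowers x)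
  rw [h7, Subgroup.mem_bot, mul_inv_eq_one, mul_inv_eq_iff_eq_mul] at h8
  exact h8

/-- Self-centralizing `O_p` and trivial `O_{p'}`: only one block. -/
theorem one_block (hM : IsPModular p M) {P : Subgroup G} [hPn : P.Normal] (hP : IsPGroup p P)
    (hC : Subgroup.centralizer (P : Set G) ≤ P) (χ ψ : IrrCharacter G) : SameBlock M (χ : G → ℂ) (ψ : G → ℂ) := by
  classical
  haveI := isPrime_of_isPModular hM
  have key : ∀ B : Set (IrrCharacter G), IsPBlock M B → blk M B = 1 := by
    intro B hB
    have h0 := isBl_top (M := M) hB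
    have h1 := idem_ktr_normal hM hP h0.fix h0.idem
    obtain ⟨c, hc⟩ : ∃ c : KK M, blk M B = c • 1 := by
      refine ⟨(blk M B).coeff 1, ?_⟩
      apply kext
      intro g
      rw [MonoidAlgebra.coeff_smul, Finsupp.smul_apply, kcoeff_one]
      by_cases hg : g = 1
      · rw [if_pos hg, hg, smul_eq_mul, mul_one]
      · rw [if_neg hg, smul_zero]
        by_contra h2
        have h3 := idem_preg hM h0.sup h0.fix h0.idem h2
        have h4 : g ∈ P := by
          apply hC
          by_contra h5
          apply h2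
          rw [← h1]
          exact ktr_not_mem h5
        obtain ⟨j, hj⟩ := exists_orderOf_pow hM.1 hP h4
        rcases Nat.eq_zero_or_pos j with rfl | hj0
        · apply hg
          rw [← orderOf_eq_one_iff]; simpa using hj
        · exact absurd (hj ▸ dvd_pow_self p hj0.ne') h3
    have h2 := h0.idem
    rw [hc, smul_mul_smul_comm, one_mul] at h2
    have h3 : c * c = c := by
      have h4 := congrArg (fun a : MonoidAlgebra (KK M) G => a.coeff 1) h2
      simp only [MonoidAlgebra.coeff_smul, Finsupp.smul_apply] at h4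
      rw [kcoeff_one, if_pos rfl, smul_eq_mul, smul_eq_mul, mul_one, mul_one] at h4
      exact h4
    have h5 : c * (c - 1) = 0 := by rw [mul_sub, h3, mul_one, sub_self]
    rcases mul_eq_zero.mp h5 with h6 | h6
    · exfalso
      apply h0.ne
      rw [hc, h6, zero_smul]
    · rw [hc, sub_eq_zero.mp h6, one_smul]
  have h1 := key _ (isPBlock_blockOf χ)
  have h2 := key _ (isPBlock_blockOf ψ)
  have h3 := blk_inj (isPBlock_blockOf χ) (isPBlock_blockOf ψ) (h1.trans h2.symm)
  have h4 : ψ ∈ blockOf M (χ : G → ℂ) := by rw [h3]; exact mem_blockOf_self ψ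
  exact h4

/-- Hall–Higman Lemma 1.2.3. -/
theorem psolv_centralizer_le (hp : p.Prime) (hs : IsPSolvable p G) (hcore : pPrimeCore p G = ⊥) :
    Subgroup.centralizer ((pCore p G) : Set G) ≤ pCore p G := by
  haveI : Fact p.Prime := ⟨hp⟩
  obtain ⟨n, H, h0, hn, hmono, hnorm, hstep⟩ := hs
  have hPn : (pCore p G).Normal := inferInstance
  have hCn : (Subgroup.centralizer ((pCore p G) : Set G)).Normal := inferInstance
  have key : ∀ i : Fin (n + 1), Subgroup.centralizer ((pCore p G) : Set G) ⊓ H i ≤ pCore p G := by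
    intro i
    induction i using Fin.induction with
    | zero => rw [h0, inf_bot_eq]; exact bot_le
    | succ i ih =>
      have hn1 := hnorm i.succ
      have hn0 := hnorm i.castSucc
      obtain ⟨K, hK⟩ : ∃ K, K = Subgroup.centralizer ((pCore p G) : Set G) ⊓ H i.succ := ⟨_, rfl⟩
      have hKn : K.Normal := by rw [hK]; exact inferInstance
      rw [← hK]
      have hle : H i.castSucc ≤ H i.succ := hmono (Fin.castSucc_le_succ i)
      rcases hstep i with ⟨m, hm⟩ | hcop
      · apply Cfsg.Agent.L0.le_pCore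
        intro k
        have hk : (k : G) ∈ Subgroup.centralizer ((pCore p G) : Set G) ⊓ H i.succ := by rw [← hK]; exact k.2
        have h1 : (k : G) ^ (p ^ m) ∈ H i.castSucc := by
          rw [← hm]
          exact Subgroup.pow_relIndex_mem _ hk.2
        have h2 : (k : G) ^ (p ^ m) ∈ pCore p G := ih ⟨Subgroup.pow_mem _ hk.1 _, h1⟩
        obtain ⟨j, hj⟩ := Cfsg.Agent.L0.pCore_isPGroup p G ⟨_, h2⟩
        refine ⟨m + j, ?_⟩
        apply Subtype.ext
        have h3 := congrArg Subtype.val hj
        simp only [Subgroup.coe_pow, Subgroup.coe_one] at h3 ⊢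
        rw [pow_add, pow_mul]
        exact h3
      · obtain ⟨Z, hZ⟩ : ∃ Z, Z = Subgroup.centralizer ((pCore p G) : Set G) ⊓ H i.castSucc := ⟨_, rfl⟩
        rw [← hZ] at ih
        have hZK : Z ≤ K := by rw [hZ, hK]; exact inf_le_inf_left _ hle
        have hZn : (Z.subgroupOf K).Normal := by
          have : Z.Normal := by rw [hZ]; exact inferInstance
          exact inferInstance
        have hZp : IsPGroup p Z := (Cfsg.Agent.L0.pCore_isPGroup p G).to_le ih
        -- p-elements of K are in Z
        have hidx : (Z.relIndex K).Coprime p := by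
          have h1 : Z = H i.castSucc ⊓ K := by
            rw [hZ, hK]
            ext g
            constructor
            · rintro ⟨h1, h2⟩; exact ⟨h2, h1, hle h2⟩
            · rintro ⟨h1, h2, -⟩; exact ⟨h2, h1⟩
          rw [h1, Subgroup.inf_relIndex_right]
          apply Nat.Coprime.coprime_dvd_left _ hcop
          have h2 : K ⊔ H i.castSucc ≤ H i.succ := sup_le (by rw [hK]; exact inf_le_right) hle
          rw [← Subgroup.relIndex_mul_relIndex (H i.castSucc) (K ⊔ H i.castSucc) (H i.succ) le_sup_right h2,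
            Subgroup.relIndex_sup_right]
          exact Dvd.intro _ rfl
        have hcopr : Nat.Coprime (Nat.card (Z.subgroupOf K)) (Z.subgroupOf K).index := by
          obtain ⟨j, hj⟩ := IsPGroup.iff_card.mp hZp
          have h1 : Nat.card (Z.subgroupOf K) = p ^ j := by
            rw [← hj, ← Cfsg.Agent.L0.card_map_subtype K (Z.subgroupOf K), Subgroup.subgroupOf_map_subtype, inf_eq_left.mpr hZK]
          rw [h1]
          exact Nat.Coprime.pow_left j hidx.symm
        obtain ⟨L, hL⟩ := Subgroup.exists_right_complement'_of_coprime hcopr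
        have hZc : ∀ z ∈ Z, ∀ k ∈ K, z * k = k * z := by
          intro z hz k hk
          rw [hK] at hk
          exact Subgroup.mem_centralizer_iff.mp hk.1 z (ih hz)
        have hLn : L.Normal := by
          constructor
          intro l hl k
          have h1 : k ∈ (Z.subgroupOf K) ⊔ L := by rw [hL.sup_eq_top]; exact Subgroup.mem_top k
          rw [Subgroup.mem_sup_of_normal_left] at h1
          obtain ⟨z, hz, l', hl', rfl⟩ := h1
          have h2 : ∀ k' : K, z * k' = k' * z := fun k' => Subtype.ext (hZc z (Subgroup.mem_subgroupOf.mp hz) k' k'.2)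
          have h3 : z * l' * l * (z * l')⁻¹ = l' * l * l'⁻¹ := by
            calc z * l' * l * (z * l')⁻¹ = (z * (l' * l)) * (l'⁻¹ * z⁻¹) := by rw [mul_inv_rev, mul_assoc z l' l]
              _ = l' * l * (z * l'⁻¹) * z⁻¹ := by rw [h2 (l' * l)]; group
              _ = l' * l * l'⁻¹ := by rw [h2 l'⁻¹]; group
          rw [h3]
          exact L.mul_mem (L.mul_mem hl' hl) (L.inv_mem hl')
        have hLcard : (Nat.card L).Coprime p := by
          have h1 := hL.card_mul_card
          have h2 := (Z.subgroupOf K).card_mul_index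
          rw [← h1] at h2
          have h3 := Nat.eq_of_mul_eq_mul_left Nat.card_pos h2
          rw [← h3]
          exact hidx
        have hLbot : L = ⊥ := by
          have h1 : L ≤ pPrimeCore p K := Cfsg.Agent.L0.le_pPrimeCore hLcard
          have h2 := Cfsg.Agent.L0.pPrimeCore_subgroup_le p K
          rw [hcore, le_bot_iff, Subgroup.map_eq_bot_iff_of_injective _ (Subgroup.subtype_injective K)] at h2
          rw [h2] at h1
          exact le_bot_iff.mp h1
        have h1 := hL.sup_eq_top
        rw [hLbot, sup_bot_eq, Subgroup.subgroupOf_eq_top] at h1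
        exact h1.trans ih
  have h1 := key (Fin.last n)
  rw [hn, inf_top_eq] at h1
  exact h1

end quotp

end Cfsg.Agent.H5
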