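import Cfsg.Agent.H5.W9
import Cfsg.Agent.H5.V7
import Cfsg.Agent.H5.Block14
import Cfsg.Agent.H4.Clifford2

set_option autoImplicit false
set_option linter.style.haveILetI false
set_option linter.unusedVariables false
set_option linter.unusedSectionVars false
set_option linter.unusedSimpArgs false

/-! Height zero characters with stabilizer of index prime to p. -/

namespace Cfsg.Agent.H5

open Cfsg

universe u v w

section eqv
variable {H K : Type u} [Group H] [Group K] {p : ℕ}

theorem charDegree_equiv (φ : H ≃* K) (χ : IrrCharacter H) :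
    charDegree ((irrE φ χ : IrrCharacter K) : K → ℂ) = charDegree (χ : H → ℂ) := by
  unfold charDegree
  rw [← map_one φ, irrE_apply']

theorem blockHeight_equiv (φ : H ≃* K) (B : Set (IrrCharacter H)) (χ : IrrCharacter H) :
    blockHeight p (irrE φ '' B) ((irrE φ χ : IrrCharacter K) : K → ℂ) = blockHeight p B (χ : H → ℂ) := by
  unfold blockHeight
  rw [charDegree_equiv, Set.image_image]
  simp only [charDegree_equiv]

end eqv

section sh
variable {G : Type u} [Group G] [Fintype G] {p : ℕ} {M : Ideal AlgInt} [hM' : M.IsPrime]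

theorem exists_dominant_block (hM : IsPModular p M) {N : Subgroup G} [hN : N.Normal] [Fintype N] {b : Set (IrrCharacter N)}
    (hb : IsPBlock M b) (hst : be M N b ∈ KFix (KK M) (⊤ : Subgroup G)) :
    ∃ B : Set (IrrCharacter G), IsPBlock M B ∧ be M N b * blk M B ≠ 0 ∧
      blockDefect p B = blockDefect p b + N.index.factorization p := by
  have hbl := isBl_be (M := M) hb
  obtain ⟨e, he, hce, hdom⟩ := exists_dominant hM hbl hst
  obtain ⟨B, hB, rfl⟩ := exists_top he
  refine ⟨B, hB, hce, ?_⟩
  obtain ⟨P, hP⟩ := exists_df hM he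
  obtain ⟨f, hf, -, hfP⟩ := knorr hM he hbl hce hP
  rw [(osum_of_stable hbl hst).2 f hf] at hfP
  have hidx := defect_covers hM (C := N) (T := ⊤) le_top (normalizer_normal N) hbl hst (D := P) le_top
    (fun Q hQ _ hne => hP.2.2.2 Q hQ le_top (hdom Q hQ hne)) (R := P ⊔ N) le_sup_left le_sup_right le_top
  rw [Subgroup.relIndex_top_right] at hidx
  exact defect_eq_of_max hM (df_card hM hB hP) (df_card_sub hM hb hfP) hidx

theorem stable_height_zero (hM : IsPModular p M) {N : Subgroup G} [hN : N.Normal] [Fintype N] {b : Set (IrrCharacter N)}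
    (hb : IsPBlock M b) (hst : be M N b ∈ KFix (KK M) (⊤ : Subgroup G)) :
    ∃ θ ∈ b, blockHeight p b (θ : N → ℂ) = 0 ∧ ¬ p ∣ (H4.inertia hN (θ : N → ℂ)).index := by
  obtain ⟨B, hB, hce, hd⟩ := exists_dominant_block hM hb hst
  obtain ⟨χ, hχ, h0⟩ := exists_height_zero hM hB
  obtain ⟨θ, hθ, hne⟩ := cov_exists_under hB hb ((cov_iff' hB hb).mpr hce) hχ
  refine ⟨θ, hθ, ?_⟩
  have h1 := H4.clifford_degree hN (χ : G → ℂ) χ.2 (θ : N → ℂ) θ.2 hne
  obtain ⟨m, hm⟩ := IsCharacter.inner_nat (isCharacter_restrict N (irr_isCharacter χ)) θ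
  have hm' : classInner (fun n : N => (χ : G → ℂ) n) (θ : N → ℂ) = m := hm
  rw [hm', IsCharacter.one_eq_charDegree (irr_isCharacter χ), IsCharacter.one_eq_charDegree (irr_isCharacter θ)] at h1
  have h2 : charDegree (χ : G → ℂ) = m * (H4.inertia hN (θ : N → ℂ)).index * charDegree (θ : N → ℂ) := by exact_mod_cast h1
  have hχ0 := (charDegree_pos χ.2).ne'
  have hm0 : m ≠ 0 := by
    intro h; rw [h, zero_mul, zero_mul] at h2; exact hχ0 h2
  have hi0 : (H4.inertia hN (θ : N → ℂ)).index ≠ 0 := Subgroup.index_ne_zero_of_finite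
  have hθ0 := (charDegree_pos θ.2).ne'
  have h3 : (charDegree (χ : G → ℂ)).factorization p =
      m.factorization p + (H4.inertia hN (θ : N → ℂ)).index.factorization p + (charDegree (θ : N → ℂ)).factorization p := by
    rw [h2, Nat.factorization_mul (Nat.mul_ne_zero hm0 hi0) hθ0, Nat.factorization_mul hm0 hi0]; rfl
  have e1 := blockDefect_add (p := p) b ⟨θ, hθ⟩
  have e2 := blockDefect_add (p := p) B ⟨χ, hχ⟩
  have e3 := blockHeight_add (p := p) hθ
  have e5 := blockHeight_add (p := p) hχ
  have e4 : (Nat.card G).factorization p = (Nat.card N).factorization p + N.index.factorization p := by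
    rw [← Subgroup.card_mul_index N, Nat.factorization_mul Nat.card_pos.ne' Subgroup.index_ne_zero_of_finite]; rfl
  have e6 : (H4.inertia hN (θ : N → ℂ)).index.factorization p = 0 ∧ blockHeight p b (θ : N → ℂ) = 0 := by omega
  refine ⟨e6.2, ?_⟩
  intro hdvd
  have := (hM.1.dvd_iff_one_le_factorization hi0).mp hdvd
  omega

end sh

end Cfsg.Agent.H5
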