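import Cfsg.Agent.H5.W5
import Cfsg.Agent.H5.V5
import Cfsg.Agent.H5.Block13

set_option autoImplicit false
set_option linter.style.haveILetI false
set_option linter.unusedVariables false
set_option linter.unusedSectionVars false
set_option linter.unusedSimpArgs false

/-! Quotients over the residue field. -/

namespace Cfsg.Agent.H5

open Cfsg

universe u v w

section quot
variable {G : Type u} [Group G] [Fintype G] {p : ℕ} {M : Ideal AlgInt} [hM' : M.IsPrime]

/-- The map of group algebras induced by the quotient map. -/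
noncomputable def kq (M : Ideal AlgInt) [hM' : M.IsPrime] (N : Subgroup G) [N.Normal] :
    MonoidAlgebra (KK M) G →+* MonoidAlgebra (KK M) (G ⧸ N) :=
  MonoidAlgebra.mapDomainRingHom (KK M) (QuotientGroup.mk' N)

theorem kq_coeff (N : Subgroup G) [N.Normal] (a : MonoidAlgebra (KK M) G) (c : G ⧸ N)
    [DecidablePred fun g : G => (QuotientGroup.mk g : G ⧸ N) = c] :
    (kq M N a).coeff c = ∑ g : G, if (QuotientGroup.mk g : G ⧸ N) = c then a.coeff g else 0 := by
  classical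
  show (Finsupp.mapDomain (QuotientGroup.mk' N) a.coeff) c = _
  rw [Finsupp.mapDomain, Finsupp.sum_apply, Finsupp.sum_fintype]
  · apply Finset.sum_congr rfl
    intro g _
    rw [Finsupp.single_apply]
    by_cases h : (QuotientGroup.mk g : G ⧸ N) = c
    · rw [if_pos h]; exact if_pos h
    · rw [if_neg h]; exact if_neg h
  · intro g
    simp

theorem kq_rG (N : Subgroup G) [N.Normal] [Fintype (G ⧸ N)] {z : G → ℂ} (hz : ∀ g, MemLocalRing M (z g)) :
    kq M N (rG M z) = rG M (pushQ N z) := by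
  classical
  apply kext
  intro c
  rw [kq_coeff, rG_coeff]
  unfold pushQ
  rw [red_sum]
  · apply Finset.sum_congr rfl
    intro g _
    by_cases h : (QuotientGroup.mk g : G ⧸ N) = c
    · rw [if_pos h, if_pos h, rG_coeff]
    · rw [if_neg h, if_neg h, red_zero]
  · intro g _
    split_ifs
    · exact hz g
    · exact memLocR_zero

theorem kq_kof (N : Subgroup G) [N.Normal] (x : G) : kq M N (kof (KK M) x) = kof (KK M) (QuotientGroup.mk x : G ⧸ N) := by
  show MonoidAlgebra.mapDomainRingHom (KK M) (QuotientGroup.mk' N) (MonoidAlgebra.single x 1) = MonoidAlgebra.single _ 1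
  simp

theorem kq_kconj (N : Subgroup G) [N.Normal] (x : G) (a : MonoidAlgebra (KK M) G) :
    kq M N (kconj x a) = kconj (QuotientGroup.mk x : G ⧸ N) (kq M N a) := by
  unfold kconj
  rw [map_mul, map_mul, kq_kof, kq_kof]
  rfl

theorem kq_fix_map (N : Subgroup G) [N.Normal] {P : Subgroup G} {a : MonoidAlgebra (KK M) G} (ha : a ∈ KFix (KK M) P) :
    kq M N a ∈ KFix (KK M) (P.map (QuotientGroup.mk' N)) := by
  rw [mem_KFix]
  rintro _ ⟨x, hx, rfl⟩
  show kconj (QuotientGroup.mk x : G ⧸ N) (kq M N a) = kq M N a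
  rw [← kq_kconj, mem_KFix.mp ha x hx]

theorem kq_fix (N : Subgroup G) [N.Normal] {a : MonoidAlgebra (KK M) G} (ha : a ∈ KFix (KK M) (⊤ : Subgroup G)) :
    kq M N a ∈ KFix (KK M) (⊤ : Subgroup (G ⧸ N)) := by
  have h := kq_fix_map N ha
  rwa [← MonoidHom.range_eq_map, QuotientGroup.range_mk'] at h

theorem om_kq (N : Subgroup G) [N.Normal] [Fintype (G ⧸ N)] {χ : IrrCharacter (G ⧸ N)} {ψ : IrrCharacter G}
    (h : (ψ : G → ℂ) = (χ : G ⧸ N → ℂ) ∘ QuotientGroup.mk) {a : MonoidAlgebra (KK M) G}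
    (ha : a ∈ KFix (KK M) (⊤ : Subgroup G)) : om M χ (kq M N a) = om M ψ a := by
  obtain ⟨z, hz, hR, rfl⟩ := exists_class_lift ha
  have hR' : ∀ c, MemLocalRing M (pushQ N z c) := by
    classical
    intro c
    unfold pushQ
    apply memLocR_sum
    intro g _
    split_ifs
    · exact hR g
    · exact memLocR_zero
  rw [kq_rG N hR, om_rG χ (pushQ_classFun N hz) hR', om_rG ψ hz hR, omega_pushQ, h]

theorem kq_blk_iff (N : Subgroup G) [N.Normal] [Fintype (G ⧸ N)] {B : Set (IrrCharacter G)} (hB : IsPBlock M B)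
    {Bb : Set (IrrCharacter (G ⧸ N))} (hBb : IsPBlock M Bb) {χ : IrrCharacter (G ⧸ N)} (hχ : χ ∈ Bb)
    {ψ : IrrCharacter G} (h : (ψ : G → ℂ) = (χ : G ⧸ N → ℂ) ∘ QuotientGroup.mk) :
    ψ ∈ B ↔ kq M N (blk M B) * blk M Bb = blk M Bb := by
  have hbl := isBl_top (M := M) hB
  have hfix := kq_fix N hbl.fix
  have h1 := om_kq N h hbl.fix
  have h2 : om M χ (kq M N (blk M B) * blk M Bb) = om M ψ (blk M B) := by
    rw [om_mul χ hfix (blk_mem_fix Bb), om_blk_mem (IsPBlock.isBU hBb) hχ, mul_one, h1]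
  constructor
  · intro hψ
    rw [om_blk_mem (IsPBlock.isBU hB) hψ] at h2
    have hidem : kq M N (blk M B) * kq M N (blk M B) = kq M N (blk M B) := by rw [← map_mul, hbl.idem]
    rcases (isBl_top hBb).prim _ (KSup_top _) hfix hidem with h3 | h3
    · exact h3
    · rw [h3, om_zero] at h2
      exact absurd h2 zero_ne_one
  · intro h3
    rw [h3, om_blk_mem (IsPBlock.isBU hBb) hχ] at h2
    by_contra hψ
    rw [om_blk_not_mem (IsPBlock.isBU hB) hψ] at h2
    exact one_ne_zero h2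

/-- A `p`-subgroup of a quotient is the image of a `p`-subgroup. -/
theorem exists_pgroup_map (hp : p.Prime) (N : Subgroup G) [N.Normal] {D : Subgroup (G ⧸ N)} (hD : IsPGroup p D) :
    ∃ D₁ : Subgroup G, IsPGroup p D₁ ∧ D₁.map (QuotientGroup.mk' N) = D := by
  haveI : Fact p.Prime := ⟨hp⟩
  let E : Subgroup G := D.comap (QuotientGroup.mk' N)
  let f : E →* D := ((QuotientGroup.mk' N).subgroupComap D)
  have hf : Function.Surjective f := by
    intro d
    obtain ⟨g, hg⟩ := QuotientGroup.mk'_surjective N (d : G ⧸ N)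
    exact ⟨⟨g, by show QuotientGroup.mk' N g ∈ D; rw [hg]; exact d.2⟩, Subtype.ext hg⟩
  let Q : Sylow p E := default
  have h1 : ((Q.mapSurjective hf : Sylow p D) : Subgroup D) = ⊤ := by
    apply top_le_iff.mp
    have h2 := (Q.mapSurjective hf).3 (Q := (⊤ : Subgroup D)) (hD.to_subgroup ⊤) le_top
    exact h2.le
  refine ⟨(Q : Subgroup E).map E.subtype, Q.2.map _, ?_⟩
  apply le_antisymm
  · rintro _ ⟨_, ⟨e, he, rfl⟩, rfl⟩
    exact e.2
  · intro d hd
    have h2 : (⟨d, hd⟩ : D) ∈ ((Q.mapSurjective hf : Sylow p D) : Subgroup D) := by rw [h1]; exact Subgroup.mem_top _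
    rw [Sylow.coe_mapSurjective] at h2
    obtain ⟨e, he, hee⟩ := h2
    exact ⟨e, ⟨e, he, rfl⟩, congrArg Subtype.val hee⟩

theorem quot_df (hM : IsPModular p M) (N : Subgroup G) [hN : N.Normal] [Fintype (G ⧸ N)] {b : MonoidAlgebra (KK M) G}
    (hb : IsBl M (⊤ : Subgroup G) b) {c : MonoidAlgebra (KK M) (G ⧸ N)} (hc : IsBl M (⊤ : Subgroup (G ⧸ N)) c)
    (h : kq M N b * c = c) {P : Subgroup G} (hP : Df p M (⊤ : Subgroup G) b P) {D : Subgroup (G ⧸ N)} (hD : IsPGroup p D)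
    (hne : ktr (Subgroup.centralizer (D : Set (G ⧸ N))) c ≠ 0) :
    ∃ x : G, D ≤ (cj x P).map (QuotientGroup.mk' N) := by
  classical
  haveI : Fact p.Prime := ⟨hM.1⟩
  haveI := charP_KK hM
  haveI := Fintype.ofFinite ((⊤ : Subgroup G) ⧸ P.subgroupOf ⊤)
  obtain ⟨z, hz1, hz2, hz3⟩ := exists_rtr hM (le_top : P ≤ ⊤) hb.sup hb.fix hP.2.2.2
  rw [rtr_def] at hz3
  obtain ⟨D₁, hD₁, hD₁m⟩ := exists_pgroup_map hM.1 N hD
  set w := kq M N z * c with hw
  have hwfix : w ∈ KFix (KK M) (P.map (QuotientGroup.mk' N)) :=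
    (KFix (KK M) _).mul_mem (kq_fix_map N hz2) (KFix_mono le_top hc.fix)
  have hsum : c = ∑ q : (⊤ : Subgroup G) ⧸ P.subgroupOf ⊤, kconj (QuotientGroup.mk ((q.out : (⊤ : Subgroup G)) : G) : G ⧸ N) w := by
    conv_lhs => rw [← h, hz3, map_sum, Finset.sum_mul]
    apply Finset.sum_congr rfl
    intro q _
    rw [kq_kconj, hw, kconj_mul, mem_KFix.mp hc.fix _ (Subgroup.mem_top _)]
  let F : (⊤ : Subgroup G) ⧸ P.subgroupOf ⊤ → MonoidAlgebra (KK M) (G ⧸ N) := fun q =>
    ktr (Subgroup.centralizer (D : Set (G ⧸ N))) (kconj (QuotientGroup.mk ((q.out : (⊤ : Subgroup G)) : G) : G ⧸ N) w)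
  let ι : D₁ →* (⊤ : Subgroup G) := (Subgroup.inclusion le_top)
  letI act : MulAction D₁ ((⊤ : Subgroup G) ⧸ P.subgroupOf ⊤) := MulAction.compHom _ ι
  have hF : ∀ (x : D₁) (q : (⊤ : Subgroup G) ⧸ P.subgroupOf ⊤), F (x • q) = F q := by
    intro x q
    have h1 : ∃ r ∈ P, ((x • q).out : (⊤ : Subgroup G)) = ((x : G) * ((q.out : (⊤ : Subgroup G)) : G) * r) := by
      have h2 : (QuotientGroup.mk ((x • q).out : (⊤ : Subgroup G)) : (⊤ : Subgroup G) ⧸ P.subgroupOf ⊤) =
          QuotientGroup.mk (ι x * q.out) := by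
        rw [QuotientGroup.out_eq']
        conv_lhs => rw [← QuotientGroup.out_eq' q]
        rfl
      rw [eq_comm, QuotientGroup.eq] at h2
      refine ⟨((ι x * q.out)⁻¹ * (x • q).out : (⊤ : Subgroup G)), h2, ?_⟩
      show _ = (x : G) * ((q.out : (⊤ : Subgroup G)) : G) * ((((x : G) * ((q.out : (⊤ : Subgroup G)) : G)))⁻¹ *
        (((x • q).out : (⊤ : Subgroup G)) : G))
      group
    obtain ⟨r, hr, hr2⟩ := h1
    show ktr (Subgroup.centralizer (D : Set (G ⧸ N))) (kconj (QuotientGroup.mk (((x • q).out : (⊤ : Subgroup G)) : G) : G ⧸ N) w) =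
      ktr (Subgroup.centralizer (D : Set (G ⧸ N))) (kconj (QuotientGroup.mk ((q.out : (⊤ : Subgroup G)) : G) : G ⧸ N) w)
    have hrw : kconj (QuotientGroup.mk r : G ⧸ N) w = w := mem_KFix.mp hwfix (QuotientGroup.mk r : G ⧸ N) ⟨r, hr, rfl⟩
    rw [hr2, QuotientGroup.mk_mul, QuotientGroup.mk_mul, ← kconj_kconj, ← kconj_kconj, hrw]
    have hxD : (QuotientGroup.mk (x : G) : G ⧸ N) ∈ D := by
      rw [← hD₁m]; exact ⟨x, x.2, rfl⟩
    rw [← kconj_ktr_of_mem (Subgroup.le_normalizer hxD)]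
    exact KSup_centralizer_fix (P := D) (ktr_mem_KSup _ _) _ hxD
  have h2 := ksum_fixedPoints (k := KK M) (p := p) hD₁ F hF
  have h3 : ∑ q : (⊤ : Subgroup G) ⧸ P.subgroupOf ⊤, F q = ktr (Subgroup.centralizer (D : Set (G ⧸ N))) c := by
    conv_rhs => rw [hsum]
    rw [ktr_sum]
  rw [h3] at h2
  rw [h2] at hne
  obtain ⟨q, -, hq⟩ := Finset.exists_ne_zero_of_sum_ne_zero hne
  have hfix : q ∈ MulAction.fixedPoints D₁ ((⊤ : Subgroup G) ⧸ P.subgroupOf ⊤) := by
    by_contra hh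
    rw [if_neg hh] at hq
    exact hq rfl
  refine ⟨((q.out : (⊤ : Subgroup G)) : G), ?_⟩
  rw [← hD₁m]
  apply Subgroup.map_mono
  intro d hd
  have h4 := hfix ⟨d, hd⟩
  have h5 : (QuotientGroup.mk (ι ⟨d, hd⟩ * q.out) : (⊤ : Subgroup G) ⧸ P.subgroupOf ⊤) = QuotientGroup.mk q.out := by
    conv_rhs => rw [QuotientGroup.out_eq', ← h4]
    conv_rhs => rw [← QuotientGroup.out_eq' q]
    rfl
  rw [eq_comm, QuotientGroup.eq] at h5
  have h6 : (((q.out : (⊤ : Subgroup G)) : G))⁻¹ * (d * ((q.out : (⊤ : Subgroup G)) : G)) ∈ P := h5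
  refine ⟨_, h6, ?_⟩
  show ((q.out : (⊤ : Subgroup G)) : G) * ((((q.out : (⊤ : Subgroup G)) : G))⁻¹ * (d * ((q.out : (⊤ : Subgroup G)) : G))) *
    (((q.out : (⊤ : Subgroup G)) : G))⁻¹ = d
  group

/-- The quotient by a normal `p`-subgroup. -/
theorem quot_p_ne (hM : IsPModular p M) (N : Subgroup G) [hN : N.Normal] (hNp : IsPGroup p N) [Fintype (G ⧸ N)]
    {b : MonoidAlgebra (KK M) G} (hb : IsBl M (⊤ : Subgroup G) b) {P : Subgroup G} (hP : IsPGroup p P) (hNP : N ≤ P)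
    (hne : ktr (Subgroup.centralizer (P : Set G)) b ≠ 0) :
    ktr (Subgroup.centralizer ((P.map (QuotientGroup.mk' N) : Subgroup (G ⧸ N)) : Set (G ⧸ N))) (kq M N b) ≠ 0 := by
  classical
  obtain ⟨x, hx, hbx⟩ := ktr_ne_zero_iff.mp hne
  rw [ktr_ne_zero_iff]
  refine ⟨QuotientGroup.mk x, ?_, ?_⟩
  · rw [Subgroup.mem_centralizer_iff]
    rintro _ ⟨y, hy, rfl⟩
    show (QuotientGroup.mk y : G ⧸ N) * QuotientGroup.mk x = QuotientGroup.mk x * QuotientGroup.mk y
    rw [← QuotientGroup.mk_mul, ← QuotientGroup.mk_mul, (Subgroup.mem_centralizer_iff.mp hx) y hy]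
  · rw [kq_coeff, Finset.sum_eq_single x]
    · rw [if_pos rfl]; exact hbx
    · intro y _ hyx
      by_cases h1 : (QuotientGroup.mk y : G ⧸ N) = QuotientGroup.mk x
      · rw [if_pos h1]
        by_contra h2
        have h3 := idem_preg hM hb.sup hb.fix hb.idem h2
        have h4 := idem_preg hM hb.sup hb.fix hb.idem hbx
        have hxN : x ∈ Subgroup.centralizer (N : Set G) := centralizer_anti hNP hx
        apply hyx
        exact eq_of_regular_coset hM.1 hNp h4 hxN h3 (QuotientGroup.eq.mp h1.symm)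
      · rw [if_neg h1]
    · intro h; exact absurd (Finset.mem_univ _) h

end quot

end Cfsg.Agent.H5
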