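import Cfsg.Agent.H5.W5
import Cfsg.Agent.H5.V2

set_option autoImplicit false
set_option linter.style.haveILetI false
set_option linter.unusedVariables false
set_option linter.unusedSectionVars false
set_option linter.unusedSimpArgs false

/-! Every member of a covered block lies under a member of the covering block. -/

namespace Cfsg.Agent.H5

open Cfsg

universe u v w

section tr
variable {G : Type u} [Group G] [Fintype G]

theorem lin_trace {n : ℕ} (ρ : Representation ℂ G (Fin n → ℂ)) (a : MonoidAlgebra ℂ G) :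
    lin ρ.character a = LinearMap.trace ℂ (Fin n → ℂ) (ρ.asAlgebraHom a) := by
  classical
  have ha : a = ∑ g : G, a.coeff g • gof g := by
    apply ga_ext
    intro g
    rw [ga_coeff_sum, Finset.sum_eq_single g]
    · rw [ga_coeff_smul, gof, MonoidAlgebra.coeff_single, Finsupp.single_eq_same, mul_one]
    · intro b _ hb
      rw [ga_coeff_smul, gof, MonoidAlgebra.coeff_single, Finsupp.single_eq_of_ne (Ne.symm hb), mul_zero]
    · intro h; exact absurd (Finset.mem_univ _) h
  rw [ha]
  simp only [map_sum, map_smul]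
  apply Finset.sum_congr rfl
  intro g _
  rw [lin_single, one_mul, gof, Representation.asAlgebraHom_single, one_smul]
  rfl

theorem idem_trace_zero {n : ℕ} {E : Module.End ℂ (Fin n → ℂ)} (hE : E * E = E)
    (h : LinearMap.trace ℂ (Fin n → ℂ) E = 0) : E = 0 := by
  have h1 : LinearMap.IsProj (LinearMap.range E) E := (LinearMap.isProj_range_iff_isIdempotentElem E).mpr hE
  have h2 := h1.trace
  rw [h] at h2
  have h3 : Module.finrank ℂ (LinearMap.range E) = 0 := by exact_mod_cast h2.symm
  rw [Submodule.finrank_eq_zero] at h3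
  exact LinearMap.range_eq_bot.mp h3

theorem lin_zero_of_inner {N : Subgroup G} [Fintype N] {χ : IrrCharacter G} {θ : IrrCharacter N}
    (h : classInner (fun n : N => (χ : G → ℂ) n) (θ : N → ℂ) = 0) (x : MonoidAlgebra ℂ G) :
    lin (χ : G → ℂ) (emb N (fB {θ}) * x) = 0 := by
  obtain ⟨n, ρ, -, hρ⟩ := χ.2
  rw [← hρ, lin_trace, map_mul]
  have h1 : ρ.asAlgebraHom (emb N (fB {θ})) * ρ.asAlgebraHom (emb N (fB {θ})) = ρ.asAlgebraHom (emb N (fB {θ})) := by
    rw [← map_mul, ← map_mul, fB_mul_self]
  have h2 : LinearMap.trace ℂ (Fin n → ℂ) (ρ.asAlgebraHom (emb N (fB {θ}))) = 0 := by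
    rw [← lin_trace, hρ, lin_emb, lin_fB_singleton, h, mul_zero]
  rw [idem_trace_zero h1 h2, zero_mul, map_zero]

theorem fB_mul_emb_zero {N : Subgroup G} [Fintype N] {B : Set (IrrCharacter G)} {θ : IrrCharacter N}
    (h : ∀ χ ∈ B, classInner (fun n : N => ((χ : IrrCharacter G) : G → ℂ) n) (θ : N → ℂ) = 0) :
    fB B * emb N (fB {θ}) = 0 := by
  apply ga_eq_zero_of_lin
  intro χ g
  rw [mul_assoc, lin_fB_mul]
  by_cases hχ : χ ∈ B
  · rw [lin_zero_of_inner (h χ hχ), mul_zero]
  · rw [ind1_not_mem hχ, zero_mul]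

/-- The component of a function in a coset. -/
noncomputable def cpt {N : Subgroup G} (q : G ⧸ N) (f : G → ℂ) : G → ℂ := by
  classical exact fun g => if (QuotientGroup.mk g : G ⧸ N) = q then f g else 0

theorem cpt_eq {N : Subgroup G} {q : G ⧸ N} {f : G → ℂ} {g : G} (h : (QuotientGroup.mk g : G ⧸ N) = q) : cpt q f g = f g := by
  classical
  exact if_pos h

theorem cpt_ne {N : Subgroup G} {q : G ⧸ N} {f : G → ℂ} {g : G} (h : (QuotientGroup.mk g : G ⧸ N) ≠ q) : cpt q f g = 0 := by
  classical
  exact if_neg h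

theorem cpt_mul_emb {N : Subgroup G} [Fintype N] (q : G ⧸ N) (f : G → ℂ) (c : MonoidAlgebra ℂ N)
    (h : ga f * emb N c = 0) : ga (cpt q f) * emb N c = 0 := by
  apply ga_ext
  intro g
  rw [ga_coeff_mul, ga_coeff_zero]
  by_cases hg : (QuotientGroup.mk g : G ⧸ N) = q
  · have h1 := congrArg (fun a : MonoidAlgebra ℂ G => a.coeff g) h
    rw [ga_coeff_mul, ga_coeff_zero] at h1
    rw [← h1]
    apply Finset.sum_congr rfl
    intro x _
    by_cases hx : x⁻¹ * g ∈ N
    · have h2 : (QuotientGroup.mk x : G ⧸ N) = q := by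
        rw [← hg]; exact QuotientGroup.eq.mpr hx
      rw [ga_coeff, ga_coeff, cpt_eq h2]
    · rw [emb_coeff_not_mem N c hx, mul_zero, mul_zero]
  · apply Finset.sum_eq_zero
    intro x _
    by_cases hx : x⁻¹ * g ∈ N
    · have h2 : (QuotientGroup.mk x : G ⧸ N) ≠ q := by
        intro h3
        apply hg
        rw [← h3]
        exact (QuotientGroup.eq.mpr hx).symm
      rw [ga_coeff, cpt_ne h2, zero_mul]
    · rw [emb_coeff_not_mem N c hx, mul_zero]

end tr

section under
variable {G : Type u} [Group G] [Fintype G] {p : ℕ} {M : Ideal AlgInt} [hM' : M.IsPrime]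

/-- Lifting a fixed element. -/
theorem exists_lift_fix {N : Subgroup G} [hN : N.Normal] {u : MonoidAlgebra (KK M) G} (hu : u ∈ KFix (KK M) N) :
    ∃ z : G → ℂ, (∀ g, MemLocalRing M (z g)) ∧ rG M z = u ∧ (∀ n ∈ N, ∀ g, z (n * g * n⁻¹) = z g) ∧
      ∀ g, u.coeff g = 0 → z g = 0 := by
  classical
  let s : KK M → ℂ := fun a => if a = 0 then 0 else (exists_red a).choose
  have hs1 : ∀ a, MemLocalRing M (s a) := by
    intro a
    show MemLocalRing M (if a = 0 then 0 else (exists_red a).choose)
    split_ifs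
    · exact memLocR_zero
    · exact (exists_red a).choose_spec.1
  have hs2 : ∀ a, red M (s a) = a := by
    intro a
    show red M (if a = 0 then 0 else (exists_red a).choose) = a
    split_ifs with h
    · rw [red_zero, h]
    · exact (exists_red a).choose_spec.2
  refine ⟨fun g => s (u.coeff g), fun g => hs1 _, ?_, ?_, ?_⟩
  · apply kext
    intro g
    rw [rG_coeff, hs2]
  · intro n hn g
    show s (u.coeff (n * g * n⁻¹)) = s (u.coeff g)
    rw [mem_KFix_coeff.mp hu n hn g]
  · intro g hg
    show (if u.coeff g = 0 then 0 else (exists_red (u.coeff g)).choose) = 0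
    rw [if_pos hg]

theorem exists_cov_char {N : Subgroup G} [hN : N.Normal] [Fintype N] {B : Set (IrrCharacter G)} (hB : IsPBlock M B)
    {b : Set (IrrCharacter N)} (hb : IsPBlock M b) (hcov : be M N b * blk M B ≠ 0) {θ : IrrCharacter N} (hθ : θ ∈ b) :
    ∃ χ ∈ B, classInner (fun n : N => ((χ : IrrCharacter G) : G → ℂ) n) (θ : N → ℂ) ≠ 0 := by
  classical
  by_contra hcon
  push Not at hcon
  have hzero := fB_mul_emb_zero hcon
  have hfB : fB B = ga (blockCoeff B) := (ga_blockCoeff B).symm
  have hbl := isBl_be (M := M) hb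
  have hblB := isBl_top (M := M) hB
  apply hcov
  have hcomm : be M N b * blk M B = blk M B * be M N b := (commute_of_fix_sup hblB.fix (KSup_top _)).symm
  apply graded_nil (N := N)
  · exact (KFix (KK M) N).mul_mem hbl.fix (KFix_mono le_top hblB.fix)
  · calc be M N b * blk M B * (be M N b * blk M B) = be M N b * (blk M B * be M N b) * blk M B := by simp only [mul_assoc]
      _ = be M N b * (be M N b * blk M B) * blk M B := by rw [hcomm]
      _ = (be M N b * be M N b) * (blk M B * blk M B) := by simp only [mul_assoc]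
      _ = be M N b * blk M B := by rw [hbl.idem, hblB.idem]
  · intro q u hu huq
    rw [← mul_cmp hbl.sup]
    obtain ⟨z, hz1, hz2, hz3, hz4⟩ := exists_lift_fix hu
    -- the exact product
    have hF1 : ∀ g, MemLocalRing M (cpt q (blockCoeff B) g) := by
      intro g
      by_cases hg : (QuotientGroup.mk g : G ⧸ N) = q
      · rw [cpt_eq hg]; exact (IsPBlock.isBU hB).int g
      · rw [cpt_ne hg]; exact memLocR_zero
    have hFr : rG M (cpt q (blockCoeff B)) = cmp q (blk M B) := by
      apply kext
      intro g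
      rw [rG_coeff]
      by_cases hg : (QuotientGroup.mk g : G ⧸ N) = q
      · rw [cpt_eq hg, cmp_coeff_eq hg]; exact (rG_coeff _ g).symm
      · rw [cpt_ne hg, cmp_coeff_ne hg, red_zero]
    have hzC : ga z ∈ KFix ℂ N := by
      rw [mem_KFix_coeff]
      intro n hn g
      exact hz3 n hn g
    have hFC : (ga (cpt q (blockCoeff B)) : MonoidAlgebra ℂ G) ∈ KFix ℂ N := by
      rw [mem_KFix_coeff]
      intro n hn g
      show cpt q (blockCoeff B) (n * g * n⁻¹) = cpt q (blockCoeff B) g
      have h1 : (QuotientGroup.mk (n * g * n⁻¹) : G ⧸ N) = QuotientGroup.mk g := by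
        rw [QuotientGroup.mk_mul, QuotientGroup.mk_mul]
        have h2 : (QuotientGroup.mk n : G ⧸ N) = 1 := (QuotientGroup.eq_one_iff n).mpr hn
        have h3 : (QuotientGroup.mk n⁻¹ : G ⧸ N) = 1 := (QuotientGroup.eq_one_iff _).mpr (N.inv_mem hn)
        rw [h2, h3, one_mul, mul_one]
      by_cases hg : (QuotientGroup.mk g : G ⧸ N) = q
      · rw [cpt_eq hg, cpt_eq (h1.trans hg), blockCoeff_classFun B g n]
      · rw [cpt_ne hg, cpt_ne (fun h => hg (h1.symm.trans h))]
    set W : MonoidAlgebra ℂ G := ga (cpt q (blockCoeff B)) * ga z with hW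
    have hWfix : W ∈ KFix ℂ N := (KFix ℂ N).mul_mem hFC hzC
    have hWsup : ∀ g, g ∉ N → W.coeff g = 0 := by
      intro g hg
      rw [hW, ga_coeff_mul]
      apply Finset.sum_eq_zero
      intro x _
      rw [ga_coeff, ga_coeff]
      by_cases hx : (QuotientGroup.mk x : G ⧸ N) = q
      · have h1 : u.coeff (x⁻¹ * g) = 0 := by
          apply mem_KCo.mp huq
          intro h2
          apply hg
          rw [QuotientGroup.mk_mul, QuotientGroup.mk_inv, hx] at h2
          have h3 : (QuotientGroup.mk g : G ⧸ N) = 1 := by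
            have := mul_left_cancel (h2.trans (mul_one q⁻¹).symm)
            exact this
          exact (QuotientGroup.eq_one_iff g).mp h3
        rw [hz4 _ h1, mul_zero]
      · rw [cpt_ne hx, zero_mul]
    let w : N → ℂ := fun n => W.coeff (n : G)
    have hwcl : IsClassFunction N w := by
      intro g h
      exact mem_KFix_coeff.mp hWfix h h.2 g
    have hWR : ∀ g, MemLocalRing M (W.coeff g) := by
      intro g
      rw [hW, ga_coeff_mul]
      apply memLocR_sum
      intro x _
      exact memLocR_mul (hF1 _) (hz1 _)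
    have hemb : emb N (ga w) = W := by
      apply ga_ext
      intro g
      by_cases hg : g ∈ N
      · have := emb_coeff_coe N (ga w) ⟨g, hg⟩
        rw [this]
        rfl
      · rw [emb_coeff_not_mem N _ hg, hWsup g hg]
    have hom : omega (θ : N → ℂ) w = 0 := by
      have h1 : emb N (ga w * fB {θ}) = 0 := by
        rw [map_mul, hemb, hW, mul_assoc]
        have h2 : ga z * emb N (fB {θ}) = emb N (fB {θ}) * ga z :=
          commute_of_fix_sup hzC (mem_KSup.mpr (fun g hg => emb_coeff_not_mem N _ hg))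
        rw [h2, ← mul_assoc, cpt_mul_emb q (blockCoeff B) _ (by rw [← hfB]; exact hzero), zero_mul]
      have h2 : ga w * fB {θ} = 0 := by
        apply emb_injective' N
        rw [h1, map_zero]
      have h3 : lin (θ : N → ℂ) (ga w * fB {θ}) = omega (θ : N → ℂ) w * lin (θ : N → ℂ) (fB {θ}) :=
        lin_central_mul θ.2 hwcl _
      rw [h2, map_zero, lin_fB_singleton, classInner_irr_self, mul_one] at h3
      rcases mul_eq_zero.mp h3.symm with h4 | h4
      · exact h4
      · exact absurd h4 (IsIrr.one_ne_zero θ.2)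
    have hemk : emk (KK M) N (rG M w) = cmp q (blk M B) * u := by
      rw [← hFr, ← hz2, ← rG_mul hF1 hz1]
      apply kext
      intro g
      by_cases hg : g ∈ N
      · rw [emk_coeff_mem N _ hg, rG_coeff, rG_coeff]
      · rw [emk_coeff_not_mem N _ hg, rG_coeff]
        have := hWsup g hg
        rw [hW] at this
        rw [this, red_zero]
    have hwR : ∀ n, MemLocalRing M (w n) := fun n => hWR n
    have h5 := om_nil hb hθ (rG_class_mem (M := M) hwcl)
    rw [om_rG θ hwcl hwR, hom, red_zero, zero_smul, sub_zero] at h5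
    obtain ⟨m, hm⟩ := h5
    refine ⟨m, ?_⟩
    have h6 : be M N b * cmp q (blk M B) * u = cmp q (blk M B) * u * be M N b := by
      rw [mul_assoc]
      symm
      apply commute_of_fix_sup _ hbl.sup
      exact (KFix (KK M) N).mul_mem (cmp_fix q (KFix_mono le_top hblB.fix)) hu
    rw [h6, ← hemk, be_def, ← map_mul, ← map_pow, hm, map_zero]

end under

end Cfsg.Agent.H5
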