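import Cfsg.Agent.H5.W11
import Cfsg.Agent.H5.W9
import Cfsg.Agent.H5.W10
import Cfsg.Agent.H5.Sect1
import Cfsg.Agent.H5.Prin2
import Cfsg.Agent.H5.V7

set_option autoImplicit false
set_option linter.style.haveILetI false
set_option linter.unusedVariables false
set_option linter.unusedSectionVars false
set_option linter.unusedSimpArgs false

/-! Blocks with defect group `P`, `G = P C_G(P)`. -/

namespace Cfsg.Agent.H5

open Cfsg
open scoped ComplexConjugate

universe u v w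

variable {G : Type u} [Group G] [Fintype G] {p : ℕ} {M : Ideal AlgInt}

section Grp

variable {P : Subgroup G}

theorem pc_normal (hG : P ⊔ Subgroup.centralizer (P : Set G) = ⊤) : P.Normal := by
  have h : Subgroup.normalizer (P : Set G) = ⊤ := by
    rw [eq_top_iff, ← hG]
    exact sup_le Subgroup.le_normalizer (Subgroup.centralizer_le_normalizer _)
  exact Subgroup.normalizer_eq_top_iff.mp h

theorem pc_decomp (hG : P ⊔ Subgroup.centralizer (P : Set G) = ⊤) (g : G) :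
    ∃ y ∈ P, ∃ c ∈ Subgroup.centralizer (P : Set G), g = y * c := by
  haveI := pc_normal hG
  have h : g ∈ ((P ⊔ Subgroup.centralizer (P : Set G) : Subgroup G) : Set G) := by rw [hG]; trivial
  rw [Subgroup.normal_mul] at h
  obtain ⟨y, hy, c, hc, rfl⟩ := Set.mem_mul.mp h
  exact ⟨y, hy, c, hc, rfl⟩

theorem pc_reg (hp : p.Prime) (hP : IsPGroup p P) (hG : P ⊔ Subgroup.centralizer (P : Set G) = ⊤) {x : G}
    (hx : ¬ p ∣ orderOf x) : x ∈ Subgroup.centralizer (P : Set G) := by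
  haveI : Fact p.Prime := ⟨hp⟩
  haveI := pc_normal hG
  obtain ⟨y, hy, c, hc, hxy⟩ := pc_decomp hG x
  have hmk : (QuotientGroup.mk x : G ⧸ Subgroup.centralizer (P : Set G)) = QuotientGroup.mk y := by
    rw [hxy, QuotientGroup.eq]
    have hyc : y * c = c * y := Subgroup.mem_centralizer_iff.mp hc y hy
    have h : (y * c)⁻¹ * y = c⁻¹ := by
      apply mul_left_cancel (a := y * c)
      rw [mul_inv_cancel_left, mul_assoc, mul_inv_cancel, mul_one]
    rw [h]; exact inv_mem hc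
  obtain ⟨k, hk⟩ := exists_orderOf_pow hp hP hy
  rw [← QuotientGroup.eq_one_iff, ← orderOf_eq_one_iff]
  have h1 : orderOf (QuotientGroup.mk x : G ⧸ Subgroup.centralizer (P : Set G)) ∣ orderOf x :=
    orderOf_map_dvd (QuotientGroup.mk' (Subgroup.centralizer (P : Set G))) x
  have h2 : orderOf (QuotientGroup.mk x : G ⧸ Subgroup.centralizer (P : Set G)) ∣ p ^ k := by
    rw [hmk, ← hk]
    exact orderOf_map_dvd (QuotientGroup.mk' (Subgroup.centralizer (P : Set G))) y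
  have hcop : Nat.Coprime (orderOf x) (p ^ k) := ((Nat.Prime.coprime_iff_not_dvd hp).mpr hx).symm.pow_right k
  exact Nat.eq_one_of_dvd_coprimes hcop h1 h2

theorem pc_mk_eq (hp : p.Prime) (hP : IsPGroup p P) (hG : P ⊔ Subgroup.centralizer (P : Set G) = ⊤) [P.Normal] {x y : G}
    (hx : ¬ p ∣ orderOf x) (hy : ¬ p ∣ orderOf y) (h : (QuotientGroup.mk y : G ⧸ P) = QuotientGroup.mk x) : y = x :=
  eq_of_regular_coset hp hP hx (pc_reg hp hP hG hx) hy (QuotientGroup.eq.mp h.symm)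

end Grp

theorem classInner_pushQ (N : Subgroup G) [N.Normal] [Fintype (G ⧸ N)] (z : G → ℂ) (θ : G ⧸ N → ℂ) :
    classInner (pushQ N z) θ = (Nat.card N : ℂ) * classInner z (θ ∘ QuotientGroup.mk) := by
  classical
  have hN0 : (Nat.card N : ℂ) ≠ 0 := Nat.cast_ne_zero.mpr Nat.card_pos.ne'
  have hG : (Nat.card G : ℂ) = (Nat.card (G ⧸ N) : ℂ) * (Nat.card N : ℂ) := by
    rw [← Nat.cast_mul, ← Subgroup.card_eq_card_quotient_mul_card_subgroup]
  rw [classInner_def, classInner_def, hG]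
  have h1 : ∑ c : G ⧸ N, pushQ N z c * conj (θ c) = ∑ g : G, z g * conj ((θ ∘ QuotientGroup.mk) g) := by
    unfold pushQ
    simp only [Finset.sum_mul]
    rw [Finset.sum_comm]
    refine Finset.sum_congr rfl fun g _ => ?_
    rw [Finset.sum_eq_single (QuotientGroup.mk g : G ⧸ N)]
    · rw [if_pos rfl]; rfl
    · intro b _ hb
      rw [if_neg (Ne.symm hb), zero_mul]
    · intro h; exact absurd (Finset.mem_univ _) h
  rw [h1]
  field_simp

/-- Restriction of a character to the regular elements, when the regular elements of the cosets of `P` are unique. -/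
theorem preg_eq_inflated (hM : IsPModular p M) {P : Subgroup G} [hPn : P.Normal]
    (hU : ∀ x y : G, ¬ p ∣ orderOf x → ¬ p ∣ orderOf y → (QuotientGroup.mk y : G ⧸ P) = QuotientGroup.mk x → y = x)
    {B : Set (IrrCharacter G)} (hB : IsPBlock M B) {ψ θ : IrrCharacter G} (hψ : ψ ∈ B)
    {χ : IrrCharacter (G ⧸ P)} (hθ : (θ : G → ℂ) = (χ : G ⧸ P → ℂ) ∘ QuotientGroup.mk)
    (huniq : ∀ χ' : IrrCharacter (G ⧸ P), ∀ θ' ∈ B, (θ' : G → ℂ) = (χ' : G ⧸ P → ℂ) ∘ QuotientGroup.mk → χ' = χ) :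
    ∀ x : G, ¬ p ∣ orderOf x → (ψ : G → ℂ) x = (ψ : G → ℂ) 1 / (θ : G → ℂ) 1 * (θ : G → ℂ) x := by
  classical
  haveI := isPrime_of_isPModular hM
  haveI : Fintype (G ⧸ P) := Fintype.ofFinite _
  have hβ : ∀ x : G, ¬ p ∣ orderOf x → pushQ P (pRegularPart p (ψ : G → ℂ)) (QuotientGroup.mk x) = (ψ : G → ℂ) x := by
    intro x hx
    unfold pushQ
    rw [Finset.sum_eq_single x]
    · rw [if_pos rfl, pRegularPart_reg hx]
    · intro y _ hy
      by_cases h : (QuotientGroup.mk y : G ⧸ P) = QuotientGroup.mk x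
      · rw [if_pos h]
        by_cases hyp : p ∣ orderOf y
        · rw [pRegularPart_sing hyp]
        · exact absurd (hU x y hx hyp h) hy
      · rw [if_neg h]
    · intro h; exact absurd (Finset.mem_univ _) h
  have hexp := classFun_expansion (pushQ_classFun P (pRegularPart_classFun (p := p) (irr_classFun ψ)))
  have hcoef : ∀ χ' : IrrCharacter (G ⧸ P), χ' ≠ χ →
      classInner (pushQ P (pRegularPart p (ψ : G → ℂ))) (χ' : G ⧸ P → ℂ) = 0 := by
    intro χ' hne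
    rw [classInner_pushQ]
    obtain ⟨θ', hθ'⟩ : ∃ θ' : IrrCharacter G, (θ' : G → ℂ) = (χ' : G ⧸ P → ℂ) ∘ QuotientGroup.mk :=
      ⟨⟨_, isIrrCharacter_comp_surjective (QuotientGroup.mk' P) (QuotientGroup.mk'_surjective P) χ'.2⟩, rfl⟩
    rw [← hθ']
    have : rin p (ψ : G → ℂ) (θ' : G → ℂ) = 0 := by
      apply rin_ne hM
      intro hs
      exact hne (huniq χ' θ' (IsPBlock.mem_of_sameBlock hB hψ hs) hθ')
    unfold rin at this
    rw [this, mul_zero]
  have hone : ∀ x : G, ¬ p ∣ orderOf x → (ψ : G → ℂ) x =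
      classInner (pushQ P (pRegularPart p (ψ : G → ℂ))) (χ : G ⧸ P → ℂ) * (θ : G → ℂ) x := by
    intro x hx
    rw [← hβ x hx]
    conv_lhs => rw [hexp]
    rw [Finset.sum_apply, Finset.sum_eq_single χ]
    · rw [Pi.smul_apply, smul_eq_mul, hθ]; rfl
    · intro χ' _ hne
      rw [hcoef χ' hne, zero_smul]; rfl
    · intro h; exact absurd (Finset.mem_univ _) h
  intro x hx
  have h1 := IsIrr.one_ne_zero θ.2
  have h2 := hone 1 (by rw [orderOf_one]; exact hM.1.one_lt.not_ge ∘ Nat.le_of_dvd one_pos)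
  rw [hone x hx]
  congr 1
  rw [h2, mul_div_assoc, div_self h1, mul_one]

theorem not_dvd_orderOf_one (hp : p.Prime) : ¬ p ∣ orderOf (1 : G) := by
  rw [orderOf_one]; exact fun h => hp.one_lt.ne' (Nat.dvd_one.mp h)

/-- The unique inflated character. -/
theorem pc_unique (hM : IsPModular p M) {P : Subgroup G} [hPn : P.Normal] (hP : IsPGroup p P)
    (hU : ∀ x y : G, ¬ p ∣ orderOf x → ¬ p ∣ orderOf y → (QuotientGroup.mk y : G ⧸ P) = QuotientGroup.mk x → y = x)
    {B : Set (IrrCharacter G)} (hB : IsPBlock M B) (hD : IsDefectGroup p M B P) :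
    ∃ χ : IrrCharacter (G ⧸ P), ∃ θ ∈ B, (θ : G → ℂ) = (χ : G ⧸ P → ℂ) ∘ QuotientGroup.mk ∧
      (∀ χ' : IrrCharacter (G ⧸ P), ∀ θ' ∈ B, (θ' : G → ℂ) = (χ' : G ⧸ P → ℂ) ∘ QuotientGroup.mk → χ' = χ) ∧
      (charDegree (θ : G → ℂ)).factorization p = P.index.factorization p := by
  classical
  haveI := isPrime_of_isPModular hM
  haveI : Fact p.Prime := ⟨hM.1⟩
  haveI := charP_KK hM
  haveI : Fintype (G ⧸ P) := Fintype.ofFinite _
  obtain ⟨χ, θ, hθ, hθχ⟩ := exists_inflated hM hP hB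
  have hBb := isPBlock_blockOf (M := M) χ
  have hχ := mem_blockOf_self (M := M) χ
  have hk := (kq_blk_iff P hB hBb hχ hθχ).mp hθ
  have hdf := (isDefectGroup_iff_df hM hB).mp hD
  obtain ⟨D, hDd⟩ := exists_defectGroup hM hBb
  have hDdf := (isDefectGroup_iff_df hM hBb).mp hDd
  obtain ⟨x, hx⟩ := quot_df hM P (isBl_top hB) (isBl_top hBb) hk hdf hDdf.1 hDdf.2.2.1
  have hD1 : D = ⊥ := by
    rw [eq_bot_iff]
    refine hx.trans ?_
    rintro _ ⟨g, ⟨y, hy, rfl⟩, rfl⟩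
    rw [Subgroup.mem_bot]
    exact (QuotientGroup.eq_one_iff _).mpr (hPn.conj_mem y hy x)
  have hd0 : blockDefect p (blockOf M (χ : G ⧸ P → ℂ)) = 0 := by
    have h1 := df_card hM hBb hDdf
    rw [hD1, Subgroup.card_bot] at h1
    exact (Nat.pow_eq_one.mp h1.symm).resolve_left hM.1.ne_one
  have hsing := block_of_defect_zero hM hBb hd0 hχ
  refine ⟨χ, θ, hθ, hθχ, ?_, ?_⟩
  · intro χ' θ' hθ' hθχ'
    have h1 := IsPBlock.sameBlock hB hθ hθ'
    rw [hθχ, hθχ'] at h1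
    have h2 := sameBlock_deflate_p hM hP (fun β hβ _ x hx hxr y hy h => hU x y hxr hy h) h1
    have h3 : χ' ∈ blockOf M (χ : G ⧸ P → ℂ) := IsPBlock.mem_of_sameBlock hBb hχ h2
    rw [hsing] at h3
    exact h3
  · have h1 : charDegree (θ : G → ℂ) = charDegree (χ : G ⧸ P → ℂ) := by
      have h2 := IsCharacter.one_eq_charDegree (irr_isCharacter θ)
      have h3 := IsCharacter.one_eq_charDegree (irr_isCharacter χ)
      rw [hθχ] at h2
      have h4 : ((χ : G ⧸ P → ℂ) ∘ QuotientGroup.mk) (1 : G) = (χ : G ⧸ P → ℂ) 1 := rfl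
      rw [h4, h3] at h2
      rw [← hθχ] at h2
      exact (Nat.cast_injective h2).symm
    obtain ⟨ξ, hξ, h0⟩ := exists_height_zero hM hBb
    have hξχ : ξ = χ := by rw [hsing] at hξ; exact hξ
    rw [hξχ] at h0
    have h5 := blockHeight_add (p := p) hχ
    have h6 := blockDefect_add (p := p) _ ⟨χ, hχ⟩
    rw [h1, Subgroup.index]
    omega

theorem pc_pn {P : Subgroup G} (hG : P ⊔ Subgroup.centralizer (P : Set G) = ⊤) {χ : G → ℂ} (hχ : IsIrrCharacter G χ)
    {y c : G} (hy : y ∈ P) (hc : c ∈ Subgroup.centralizer (P : Set G)) : χ (y * c) = χ y * χ c / χ 1 := by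
  have hcl : IsClassFunction G χ := irr_classFun ⟨χ, hχ⟩
  have hG0 : (Nat.card G : ℂ) ≠ 0 := Nat.cast_ne_zero.mpr Nat.card_pos.ne'
  have h := irr_sum_conj_mul hχ y c
  have h1 : ∀ t : G, χ (t * y * t⁻¹ * c) = χ (y * c) := by
    intro t
    obtain ⟨u, hu, d, hd, rfl⟩ := pc_decomp hG t
    have hyd : y * d = d * y := Subgroup.mem_centralizer_iff.mp hd y hy
    have huc : u * c = c * u := Subgroup.mem_centralizer_iff.mp hc u hu
    have e : u * d * y * (u * d)⁻¹ * c = u * (y * c) * u⁻¹ := by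
      have e1 : u * d * y * (u * d)⁻¹ = u * y * u⁻¹ := by
        rw [mul_assoc u d y, ← hyd, mul_inv_rev]; group
      have e2 : u⁻¹ * c = c * u⁻¹ := by
        have : Commute u c := huc
        exact this.inv_left.eq
      rw [e1, mul_assoc (u * y) u⁻¹ c, e2]; group
    rw [e, hcl]
  rw [Finset.sum_congr rfl (fun t _ => h1 t), Finset.sum_const, Finset.card_univ, ← Nat.card_eq_fintype_card,
    nsmul_eq_mul] at h
  have h2 : (Nat.card G : ℂ) * χ (y * c) = (Nat.card G : ℂ) * (χ y * χ c / χ 1) := by rw [h]; ring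
  exact mul_left_cancel₀ hG0 h2

/-- Restriction to `P` is a multiple of an irreducible character. -/
theorem pc_restrict {P : Subgroup G} (hG : P ⊔ Subgroup.centralizer (P : Set G) = ⊤) {χ : G → ℂ} (hχ : IsIrrCharacter G χ) :
    ∃ ζ : IrrCharacter P, ∀ y : P, χ y = χ 1 / (ζ : P → ℂ) 1 * (ζ : P → ℂ) y := by
  classical
  haveI : Fintype P := Fintype.ofFinite _
  have hn := pc_normal hG
  have hres := isCharacter_restrict P (IsIrr.isCharacter hχ)
  obtain ⟨ζ, hζ⟩ : ∃ ζ : IrrCharacter P, classInner (fun n : P => χ n) (ζ : P → ℂ) ≠ 0 := by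
    by_contra hcon
    push Not at hcon
    have h1 := classFun_eq_zero_of_inner (IsCharacter.classFun hres) hcon
    have h2 : χ 1 = 0 := congrFun h1 1
    exact IsIrr.one_ne_zero hχ h2
  have h1 := H4.clifford_restrict hn χ hχ (ζ : P → ℂ) ζ.2 hζ
  have h2 : {ψ : P → ℂ | ∃ g : G, ψ = H4.conjBy hn g (ζ : P → ℂ)} = {(ζ : P → ℂ)} := by
    ext ψ
    rw [Set.mem_singleton_iff]
    constructor
    · rintro ⟨g, rfl⟩
      obtain ⟨u, hu, d, hd, rfl⟩ := pc_decomp hG g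
      rw [H4.conjBy_mul, H4.conjBy_coe_mem hn ⟨u, hu⟩ (irr_classFun ζ)]
      funext n
      rw [H4.conjBy_apply]
      have e : H4.conjAut hn d n = n := by
        apply Subtype.ext
        rw [H4.conjAut_coe]
        have : (n : G) * d = d * n := Subgroup.mem_centralizer_iff.mp hd n n.2
        rw [← this]; group
      rw [e]
    · rintro rfl
      exact ⟨1, by rw [H4.conjBy_one]⟩
  rw [h2, finsum_mem_singleton] at h1
  refine ⟨ζ, fun y => ?_⟩
  have h3 : ∀ n : P, χ n = classInner (fun n : P => χ n) (ζ : P → ℂ) * (ζ : P → ℂ) n := fun n => congrFun h1 n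
  have hζ1 := IsIrr.one_ne_zero ζ.2
  have h4 : χ 1 = classInner (fun n : P => χ n) (ζ : P → ℂ) * (ζ : P → ℂ) 1 := h3 1
  rw [h4, mul_div_assoc, div_self hζ1, mul_one]
  exact h3 y

/-- Sum over the elements with `p`-part in `P`. -/
theorem pc_sum (hp : p.Prime) {P : Subgroup G} (hP : IsPGroup p P) [Fintype P]
    (hreg : ∀ x : G, ¬ p ∣ orderOf x → x ∈ Subgroup.centralizer (P : Set G)) (F : G → ℂ)
    [DecidablePred fun g : G => ∃ y ∈ P, IsPPart p g y] :
    ∑ g : G, (if ∃ y ∈ P, IsPPart p g y then F g else 0) =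
      ∑ y : P, ∑ x : G, (if p ∣ orderOf x then 0 else F (y * x)) := by
  classical
  have h1 : ∀ y : P, ∑ x : G, (if p ∣ orderOf x then 0 else F (y * x)) = ∑ g : G, if IsPPart p g y then F g else 0 := by
    intro y
    haveI : Fintype (Subgroup.centralizer ({(y : G)} : Set G)) := Fintype.ofFinite _
    rw [← sum_ppart_eq hp (y : G) (exists_orderOf_pow hp hP y.2) F]
    rw [← Finset.sum_subset (Finset.subset_univ (Finset.univ.filter (fun x : G => x ∈ Subgroup.centralizer ({(y : G)} : Set G))))]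
    · rw [Finset.sum_subtype (Finset.univ.filter (fun x : G => x ∈ Subgroup.centralizer ({(y : G)} : Set G)))
        (p := fun x => x ∈ Subgroup.centralizer ({(y : G)} : Set G)) (by simp) (fun x : G => if p ∣ orderOf x then 0 else F (y * x))]
      refine Finset.sum_congr rfl fun x _ => ?_
      rw [Subgroup.orderOf_coe]
    · intro x _ hx
      rw [if_pos]
      by_contra h
      apply hx
      rw [Finset.mem_filter]
      refine ⟨Finset.mem_univ _, ?_⟩
      rw [Subgroup.mem_centralizer_singleton_iff]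
      exact (Subgroup.mem_centralizer_iff.mp (hreg x h) y y.2).symm
  rw [Finset.sum_congr rfl (fun y _ => h1 y), Finset.sum_comm]
  refine Finset.sum_congr rfl fun g _ => ?_
  by_cases h : ∃ y ∈ P, IsPPart p g y
  · rw [if_pos h]
    obtain ⟨y, hy, hyg⟩ := h
    rw [Finset.sum_eq_single (⟨y, hy⟩ : P)]
    · rw [if_pos hyg]
    · intro z _ hz
      rw [if_neg]
      intro hzg
      exact hz (Subtype.ext (pPart_unique hp hzg hyg))
    · intro h; exact absurd (Finset.mem_univ _) h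
  · rw [if_neg h]
    symm
    apply Finset.sum_eq_zero
    intro z _
    rw [if_neg]
    intro hz
    exact h ⟨z, z.2, hz⟩

theorem df_unique (hM : IsPModular p M) {P : Subgroup G} [hPn : P.Normal] {B : Set (IrrCharacter G)} (hB : IsPBlock M B)
    (hD : IsDefectGroup p M B P) {D : Subgroup G} (hD' : IsDefectGroup p M B D) : D = P := by
  haveI := isPrime_of_isPModular hM
  obtain ⟨x, -, hx⟩ := ((isDefectGroup_iff_df hM hB).mp hD).conj_eq ((isDefectGroup_iff_df hM hB).mp hD')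
  rw [hx]
  ext g
  constructor
  · rintro ⟨y, hy, rfl⟩
    exact hPn.conj_mem y hy x
  · intro hg
    refine ⟨x⁻¹ * g * x⁻¹⁻¹, hPn.conj_mem g hg x⁻¹, ?_⟩
    show x * (x⁻¹ * g * x⁻¹⁻¹) * x⁻¹ = g
    group

theorem pc_vanish (hM : IsPModular p M) {P : Subgroup G} [hPn : P.Normal] {B : Set (IrrCharacter G)} (hB : IsPBlock M B)
    (hD : IsDefectGroup p M B P) {ψ : IrrCharacter G} (hψ : ψ ∈ B) {g : G} (hg : ¬ ∃ y ∈ P, IsPPart p g y) :
    (ψ : G → ℂ) g = 0 := by
  haveI := isPrime_of_isPModular hM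
  obtain ⟨x, hx⟩ := exists_pPart hM.1 g
  apply green_zero hM hx
  intro D hDD hxD
  have h1 : blockOf M (ψ : G → ℂ) = B := by
    obtain ⟨χ, rfl⟩ := hB
    exact (blockOf_eq_of_mem hψ).symm
  rw [h1] at hDD
  rw [df_unique hM hB hD hDD] at hxD
  exact hg ⟨x, hxD, hx⟩

/-- The shape of the characters of the block. -/
theorem pc_form (hM : IsPModular p M) {P : Subgroup G} (hP : IsPGroup p P)
    (hG : P ⊔ Subgroup.centralizer (P : Set G) = ⊤) {B : Set (IrrCharacter G)} (hB : IsPBlock M B)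
    (hD : IsDefectGroup p M B P) {θ : IrrCharacter G} (hθ : θ ∈ B) (hθP : ∀ y ∈ P, (θ : G → ℂ) y = (θ : G → ℂ) 1)
    {ψ : IrrCharacter G} (hψ : ψ ∈ B) :
    ∃ ζ : IrrCharacter P, ∀ (y : P) (x : G), ¬ p ∣ orderOf x → (ψ : G → ℂ) (y * x) = (ζ : P → ℂ) y * (θ : G → ℂ) x := by
  classical
  haveI := isPrime_of_isPModular hM
  haveI : Fintype P := Fintype.ofFinite _
  haveI := pc_normal hG
  have hU : ∀ x y : G, ¬ p ∣ orderOf x → ¬ p ∣ orderOf y → (QuotientGroup.mk y : G ⧸ P) = QuotientGroup.mk x → y = x :=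
    fun x y hx hy h => pc_mk_eq hM.1 hP hG hx hy h
  have hreg := fun x (hx : ¬ p ∣ orderOf x) => pc_reg hM.1 hP hG hx
  obtain ⟨χ, θ', hθ', hθχ', huniq, -⟩ := pc_unique hM hP hU hB hD
  have hθχ : (θ : G → ℂ) = (χ : G ⧸ P → ℂ) ∘ QuotientGroup.mk := by
    obtain ⟨χ₁, h₁⟩ := irr_deflate θ.2 hθP
    rw [h₁, huniq χ₁ θ hθ h₁]
  have hpr := preg_eq_inflated hM hU hB hψ hθχ huniq
  obtain ⟨ζ, hζ⟩ := pc_restrict hG ψ.2
  refine ⟨ζ, ?_⟩
  have hψ1 := IsIrr.one_ne_zero ψ.2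
  have hζ1 := IsIrr.one_ne_zero ζ.2
  have hθ1 := IsIrr.one_ne_zero θ.2
  have hform : ∀ (y : P) (x : G), ¬ p ∣ orderOf x →
      (ψ : G → ℂ) (y * x) = (ψ : G → ℂ) 1 / ((ζ : P → ℂ) 1 * (θ : G → ℂ) 1) * ((ζ : P → ℂ) y * (θ : G → ℂ) x) := by
    intro y x hx
    rw [pc_pn hG ψ.2 y.2 (hreg x hx), hζ y, hpr x hx]
    field_simp
  have hθform : ∀ (y : P) (x : G), (θ : G → ℂ) (y * x) = (θ : G → ℂ) x := by
    intro y x
    rw [hθχ]
    show (χ : G ⧸ P → ℂ) _ = (χ : G ⧸ P → ℂ) _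
    congr 1
    rw [QuotientGroup.mk_mul, (QuotientGroup.eq_one_iff (y : G)).mpr y.2, one_mul]
  -- norm computations
  have hcard : ∀ ξ : IrrCharacter G, (Nat.card G : ℂ) = ∑ g : G, (ξ : G → ℂ) g * conj ((ξ : G → ℂ) g) := by
    intro ξ
    have h := classInner_irr_self ξ
    rw [classInner_def] at h
    have hG0 : (Nat.card G : ℂ) ≠ 0 := Nat.cast_ne_zero.mpr Nat.card_pos.ne'
    field_simp at h
    exact h.symm
  have hsum : ∀ ξ ∈ B, (Nat.card G : ℂ) = ∑ y : P, ∑ x : G,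
      (if p ∣ orderOf x then 0 else (ξ : G → ℂ) (y * x) * conj ((ξ : G → ℂ) (y * x))) := by
    intro ξ hξ
    rw [hcard ξ, ← pc_sum hM.1 hP hreg (fun g => (ξ : G → ℂ) g * conj ((ξ : G → ℂ) g))]
    refine Finset.sum_congr rfl fun g _ => ?_
    by_cases h : ∃ y ∈ P, IsPPart p g y
    · rw [if_pos h]
    · rw [if_neg h, pc_vanish hM hB hD hξ h, zero_mul]
  obtain ⟨S, hS⟩ : ∃ S : ℂ, S = ∑ x : G, (if p ∣ orderOf x then 0 else (θ : G → ℂ) x * conj ((θ : G → ℂ) x)) := ⟨_, rfl⟩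
  have h1 : (Nat.card G : ℂ) = (Nat.card P : ℂ) * S := by
    rw [hsum θ hθ, hS]
    simp only [hθform]
    rw [Finset.sum_const, Finset.card_univ, ← Nat.card_eq_fintype_card, nsmul_eq_mul]
  have hζn : ∑ y : P, (ζ : P → ℂ) y * conj ((ζ : P → ℂ) y) = (Nat.card P : ℂ) := by
    have h := classInner_irr_self ζ
    rw [classInner_def] at h
    have hG0 : (Nat.card P : ℂ) ≠ 0 := Nat.cast_ne_zero.mpr Nat.card_pos.ne'
    field_simp at h
    exact h
  obtain ⟨n, hn⟩ : ∃ n : ℕ, (ψ : G → ℂ) 1 = n := ⟨_, IsCharacter.one_eq_charDegree (irr_isCharacter ψ)⟩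
  obtain ⟨a, ha⟩ : ∃ n : ℕ, (ζ : P → ℂ) 1 = n := ⟨_, IsCharacter.one_eq_charDegree (irr_isCharacter ζ)⟩
  obtain ⟨b, hb⟩ : ∃ n : ℕ, (θ : G → ℂ) 1 = n := ⟨_, IsCharacter.one_eq_charDegree (irr_isCharacter θ)⟩
  have h2 : (Nat.card G : ℂ) = ((n : ℂ) / (a * b)) ^ 2 * ((Nat.card P : ℂ) * S) := by
    rw [hsum ψ hψ, ← hζn, hS, Finset.sum_mul_sum, Finset.mul_sum]
    refine Finset.sum_congr rfl fun y _ => ?_
    rw [Finset.mul_sum]
    refine Finset.sum_congr rfl fun x _ => ?_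
    by_cases hx : p ∣ orderOf x
    · rw [if_pos hx, if_pos hx, mul_zero, mul_zero]
    · rw [if_neg hx, if_neg hx, hform y x hx, hn, ha, hb]
      simp only [map_mul, map_div₀, Complex.conj_natCast]
      ring
  rw [← h1] at h2
  have hG0 : (Nat.card G : ℂ) ≠ 0 := Nat.cast_ne_zero.mpr Nat.card_pos.ne'
  rw [hn] at hψ1
  rw [ha] at hζ1
  rw [hb] at hθ1
  have h3 : ((n : ℂ) / (a * b)) ^ 2 = 1 := by
    have : ((n : ℂ) / (a * b)) ^ 2 * (Nat.card G : ℂ) = 1 * (Nat.card G : ℂ) := by rw [one_mul]; exact h2.symm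
    exact mul_right_cancel₀ hG0 this
  have h4 : (n : ℂ) = a * b := by
    rw [div_pow, div_eq_one_iff_eq (pow_ne_zero 2 (mul_ne_zero hζ1 hθ1))] at h3
    have h5 : n ^ 2 = (a * b) ^ 2 := by exact_mod_cast h3
    have h6 := Nat.pow_left_injective (n := 2) (by norm_num) h5
    exact_mod_cast h6
  intro y x hx
  rw [hform y x hx, hn, ha, hb, h4, div_self (mul_ne_zero hζ1 hθ1), one_mul]

theorem pc_all (hM : IsPModular p M) {P : Subgroup G} (hP : IsPGroup p P)
    (hG : P ⊔ Subgroup.centralizer (P : Set G) = ⊤) {B : Set (IrrCharacter G)} (hB : IsPBlock M B)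
    (hD : IsDefectGroup p M B P) {θ : IrrCharacter G} (hθ : θ ∈ B) (hθP : ∀ y ∈ P, (θ : G → ℂ) y = (θ : G → ℂ) 1)
    (ζ : IrrCharacter P) :
    ∃ ψ ∈ B, ∀ (y : P) (x : G), ¬ p ∣ orderOf x → (ψ : G → ℂ) (y * x) = (ζ : P → ℂ) y * (θ : G → ℂ) x := by
  classical
  haveI := isPrime_of_isPModular hM
  haveI : Fintype P := Fintype.ofFinite _
  haveI : Inhabited (IrrCharacter P) := ⟨ζ⟩
  have hform := fun (ψ : IrrCharacter G) (hψ : ψ ∈ B) => pc_form hM hP hG hB hD hθ hθP hψ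
  choose! f hf using hform
  have hθ1 := IsIrr.one_ne_zero θ.2
  have hG0 : (Nat.card G : ℂ) ≠ 0 := Nat.cast_ne_zero.mpr Nat.card_pos.ne'
  have hP0 : (Nat.card P : ℂ) ≠ 0 := Nat.cast_ne_zero.mpr Nat.card_pos.ne'
  have hψy : ∀ ψ ∈ B, ∀ y : P, (ψ : G → ℂ) y = (f ψ : P → ℂ) y * (θ : G → ℂ) 1 := by
    intro ψ hψ y
    have := hf ψ hψ y 1 (not_dvd_orderOf_one hM.1)
    rwa [mul_one] at this
  obtain ⟨Φ, hΦ⟩ : ∃ Φ : P → ℂ, Φ = ∑ ψ ∈ bF B, (f ψ : P → ℂ) 1 • (f ψ : P → ℂ) := ⟨_, rfl⟩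
  have hΦ0 : ∀ y : P, y ≠ 1 → Φ y = 0 := by
    intro y hy
    have hord : p ∣ orderOf ((y : G)⁻¹) := by
      rw [orderOf_inv]
      obtain ⟨k, hk⟩ := exists_orderOf_pow hM.1 hP y.2
      have hk0 : k ≠ 0 := by
        rintro rfl
        rw [pow_zero, orderOf_eq_one_iff] at hk
        exact hy (Subtype.ext hk)
      rw [hk]; exact dvd_pow_self p hk0
    have h1 : blockCoeff B ((y : G)⁻¹) = 0 := by
      by_contra h
      exact regular_of_blockCoeff hM (fun g => blockCoeff_memLocR hB g) h hord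
    unfold blockCoeff at h1
    rw [finsum_mem_bF] at h1
    have h2 : ∑ χ ∈ bF B, (χ : G → ℂ) 1 * (χ : G → ℂ) y = 0 := by
      rw [← (mul_eq_zero.mp h1).resolve_left (inv_ne_zero hG0)]
      refine Finset.sum_congr rfl fun χ _ => ?_
      rw [IsCharacter.inv_eq_conj (irr_isCharacter χ), Complex.conj_conj]
    have h3 : ∑ χ ∈ bF B, (χ : G → ℂ) 1 * (χ : G → ℂ) y = (θ : G → ℂ) 1 ^ 2 * Φ y := by
      rw [hΦ, Finset.sum_apply, Finset.mul_sum]
      refine Finset.sum_congr rfl fun ψ hψ => ?_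
      have e1 := hψy ψ (mem_bF.mp hψ) 1
      rw [OneMemClass.coe_one] at e1
      rw [e1, hψy ψ (mem_bF.mp hψ) y, Pi.smul_apply, smul_eq_mul]
      ring
    rw [h3] at h2
    exact (mul_eq_zero.mp h2).resolve_left (pow_ne_zero 2 hθ1)
  have hΦ1 : Φ 1 ≠ 0 := by
    have h1 : Φ 1 = ((∑ ψ ∈ bF B, (charDegree (f ψ : P → ℂ)) ^ 2 : ℕ) : ℂ) := by
      rw [hΦ, Finset.sum_apply]
      push_cast
      refine Finset.sum_congr rfl fun ψ _ => ?_
      rw [Pi.smul_apply, smul_eq_mul, IsCharacter.one_eq_charDegree (irr_isCharacter (f ψ))]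
      ring
    rw [h1]
    have h2 : 0 < ∑ ψ ∈ bF B, (charDegree (f ψ : P → ℂ)) ^ 2 := by
      apply Finset.sum_pos
      · intro ψ _
        exact pow_pos (charDegree_pos (f ψ).2) 2
      · exact ⟨θ, mem_bF.mpr hθ⟩
    exact_mod_cast h2.ne'
  have hinner : classInner Φ (ζ : P → ℂ) ≠ 0 := by
    rw [classInner_def, Finset.sum_eq_single 1]
    · exact mul_ne_zero (inv_ne_zero hP0) (mul_ne_zero hΦ1 (by
        rw [IsCharacter.one_eq_charDegree (irr_isCharacter ζ), Complex.conj_natCast]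
        exact_mod_cast (charDegree_pos ζ.2).ne'))
    · intro y _ hy
      rw [hΦ0 y hy, zero_mul]
    · intro h; exact absurd (Finset.mem_univ _) h
  rw [hΦ, classInner_sum_left] at hinner
  obtain ⟨ψ, hψ, hne⟩ := Finset.exists_ne_zero_of_sum_ne_zero hinner
  rw [classInner_smul_left] at hne
  have h4 : f ψ = ζ := by
    by_contra h
    exact hne (by rw [classInner_irr_ne h, mul_zero])
  refine ⟨ψ, mem_bF.mp hψ, fun y x hx => ?_⟩
  rw [hf ψ (mem_bF.mp hψ) y x hx, h4]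

/-- Two characters of the block with the same shape are equal. -/
theorem pc_inj (hM : IsPModular p M) {P : Subgroup G} (hP : IsPGroup p P)
    (hG : P ⊔ Subgroup.centralizer (P : Set G) = ⊤) {f₁ f₂ : G → ℂ}
    (h₁ : ∀ g, (¬ ∃ y ∈ P, IsPPart p g y) → f₁ g = 0) (h₂ : ∀ g, (¬ ∃ y ∈ P, IsPPart p g y) → f₂ g = 0)
    (h : ∀ (y : P) (x : G), ¬ p ∣ orderOf x → f₁ (y * x) = f₂ (y * x)) : f₁ = f₂ := by
  funext g
  by_cases hg : ∃ y ∈ P, IsPPart p g y
  · obtain ⟨y, hy, x, hx, -, -, hxr⟩ := hg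
    rw [← hx]
    exact h ⟨y, hy⟩ x hxr
  · rw [h₁ g hg, h₂ g hg]

theorem pc_exists_inflated (hM : IsPModular p M) {P : Subgroup G} (hP : IsPGroup p P)
    (hG : P ⊔ Subgroup.centralizer (P : Set G) = ⊤) {B : Set (IrrCharacter G)} (hB : IsPBlock M B)
    (hD : IsDefectGroup p M B P) : ∃ θ ∈ B, (∀ x ∈ P, (θ : G → ℂ) x = (θ : G → ℂ) 1) ∧
      (charDegree (θ : G → ℂ)).factorization p = P.index.factorization p ∧
      ∀ θ' ∈ B, (∀ x ∈ P, (θ' : G → ℂ) x = (θ' : G → ℂ) 1) → θ' = θ := by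
  classical
  haveI := isPrime_of_isPModular hM
  haveI := pc_normal hG
  have hU : ∀ x y : G, ¬ p ∣ orderOf x → ¬ p ∣ orderOf y → (QuotientGroup.mk y : G ⧸ P) = QuotientGroup.mk x → y = x :=
    fun x y hx hy h => pc_mk_eq hM.1 hP hG hx hy h
  obtain ⟨χ, θ, hθ, hθχ, huniq, hdeg⟩ := pc_unique hM hP hU hB hD
  refine ⟨θ, hθ, ?_, hdeg, ?_⟩
  · intro x hx
    rw [hθχ]
    show (χ : G ⧸ P → ℂ) _ = (χ : G ⧸ P → ℂ) _
    rw [(QuotientGroup.eq_one_iff x).mpr hx]; rfl
  · intro θ' hθ' h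
    obtain ⟨χ₁, h₁⟩ := irr_deflate θ'.2 h
    apply Subtype.ext
    rw [h₁, hθχ, huniq χ₁ θ' hθ' h₁]

theorem pc_card (hM : IsPModular p M) {P : Subgroup G} (hP : IsPGroup p P)
    (hG : P ⊔ Subgroup.centralizer (P : Set G) = ⊤) {B : Set (IrrCharacter G)} (hB : IsPBlock M B)
    (hD : IsDefectGroup p M B P) : Nat.card B = Nat.card (ConjClasses P) := by
  classical
  haveI := isPrime_of_isPModular hM
  haveI := pc_normal hG
  obtain ⟨θ, hθ, hθP, -, -⟩ := pc_exists_inflated hM hP hG hB hD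
  have hθ1 := IsIrr.one_ne_zero θ.2
  rw [← card_irr_eq_card_conjClasses]
  have hall := pc_all hM hP hG hB hD hθ hθP
  choose F hFB hF using hall
  symm
  apply Nat.card_congr
  refine Equiv.ofBijective (fun ζ => (⟨F ζ, hFB ζ⟩ : B)) ⟨?_, ?_⟩
  · intro ζ ζ' h
    have h' : F ζ = F ζ' := congrArg Subtype.val h
    apply Subtype.ext
    funext y
    have h1 := hF ζ y 1 (not_dvd_orderOf_one hM.1)
    have h2 := hF ζ' y 1 (not_dvd_orderOf_one hM.1)
    rw [← h', h1] at h2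
    exact mul_right_cancel₀ hθ1 h2
  · rintro ⟨ψ, hψ⟩
    obtain ⟨ζ, hζ⟩ := pc_form hM hP hG hB hD hθ hθP hψ
    refine ⟨ζ, Subtype.ext (Subtype.ext ?_)⟩
    apply pc_inj hM hP hG (fun g hg => pc_vanish hM hB hD (hFB ζ) hg) (fun g hg => pc_vanish hM hB hD hψ hg)
    intro y x hx
    rw [hF ζ y x hx, hζ y x hx]

theorem pc_rank (hM : IsPModular p M) {P : Subgroup G} (hP : IsPGroup p P)
    (hG : P ⊔ Subgroup.centralizer (P : Set G) = ⊤) {B : Set (IrrCharacter G)} (hB : IsPBlock M B)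
    (hD : IsDefectGroup p M B P) : blockRank p B = 1 := by
  classical
  haveI := isPrime_of_isPModular hM
  haveI := pc_normal hG
  obtain ⟨θ, hθ, hθP, -, -⟩ := pc_exists_inflated hM hP hG hB hD
  have hθ1 := IsIrr.one_ne_zero θ.2
  unfold blockRank
  have h1 : Submodule.span ℂ ((fun χ : IrrCharacter G => pRegularPart p (χ : G → ℂ)) '' B) =
      Submodule.span ℂ {pRegularPart p (θ : G → ℂ)} := by
    apply le_antisymm
    · rw [Submodule.span_le]
      rintro _ ⟨ψ, hψ, rfl⟩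
      obtain ⟨ζ, hζ⟩ := pc_form hM hP hG hB hD hθ hθP hψ
      rw [SetLike.mem_coe, Submodule.mem_span_singleton]
      refine ⟨(ζ : P → ℂ) 1, ?_⟩
      funext x
      rw [Pi.smul_apply, smul_eq_mul]
      show _ = pRegularPart p (ψ : G → ℂ) x
      by_cases hx : p ∣ orderOf x
      · rw [pRegularPart_sing hx, pRegularPart_sing hx, mul_zero]
      · rw [pRegularPart_reg hx, pRegularPart_reg hx]
        have := hζ 1 x hx
        rw [OneMemClass.coe_one, one_mul] at this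
        exact this.symm
    · rw [Submodule.span_le]
      rintro _ rfl
      exact Submodule.subset_span ⟨θ, hθ, rfl⟩
  rw [h1]
  apply finrank_span_singleton
  intro h
  have h2 := congrFun h 1
  rw [pRegularPart_reg (not_dvd_orderOf_one hM.1)] at h2
  exact hθ1 h2

end Cfsg.Agent.H5
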