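import Cfsg.Agent.H5.W5
import Cfsg.Agent.H5.Block12
import Cfsg.Agent.H5.Block14

set_option autoImplicit false
set_option linter.style.haveILetI false
set_option linter.unusedVariables false
set_option linter.unusedSectionVars false
set_option linter.unusedSimpArgs false

/-! Degrees of block components of induced characters. -/

namespace Cfsg.Agent.H5

open Cfsg

universe u v w

section arith
variable {p : ℕ} {M : Ideal AlgInt}

theorem fac_split (hp : p.Prime) {n : ℕ} (hn : n ≠ 0) : ∃ n', n = p ^ n.factorization p * n' ∧ ¬ p ∣ n' ∧ n' ≠ 0 := by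
  refine ⟨n / p ^ n.factorization p, ?_, ?_, ?_⟩
  · exact (Nat.ordProj_mul_ordCompl_eq_self n p).symm
  · exact Nat.not_dvd_ordCompl hp hn
  · exact (Nat.ordCompl_pos p hn).ne'

theorem div_memLocI [hM' : M.IsPrime] (hM : IsPModular p M) {n m : ℕ} (hm : m ≠ 0)
    (h : MemLocalIdeal M ((n : ℂ) / m)) : n = 0 ∨ m.factorization p < n.factorization p := by
  by_cases hn : n = 0
  · exact Or.inl hn
  right
  by_contra hlt
  push Not at hlt
  obtain ⟨n', hn1, hn2, hn3⟩ := fac_split hM.1 hn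
  obtain ⟨m', hm1, hm2, hm3⟩ := fac_split hM.1 hm
  obtain ⟨k, hk⟩ := Nat.exists_eq_add_of_le hlt
  apply hn2
  rw [← memLocI_natCast_iff hM]
  have h1 : (n' : ℂ) = ((p ^ k * m' : ℕ) : ℂ) * ((n : ℂ) / m) := by
    have hpc : (p : ℂ) ≠ 0 := by exact_mod_cast hM.1.ne_zero
    have hm'c : (m' : ℂ) ≠ 0 := by exact_mod_cast hm3
    conv_rhs => rw [hn1, hm1, hk]
    push_cast
    rw [pow_add]
    field_simp
  rw [h1]
  exact memLocI_mul_left (memLocR_natCast _) h

theorem div_memLocI' [hM' : M.IsPrime] (hM : IsPModular p M) {n m : ℕ} (hm : m ≠ 0)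
    (h : n = 0 ∨ m.factorization p < n.factorization p) : MemLocalIdeal M ((n : ℂ) / m) := by
  rcases h with h | h
  · rw [h, Nat.cast_zero, zero_div]; exact memLocI_zero
  by_cases hn : n = 0
  · rw [hn, Nat.cast_zero, zero_div]; exact memLocI_zero
  obtain ⟨n', hn1, hn2, hn3⟩ := fac_split hM.1 hn
  obtain ⟨m', hm1, hm2, hm3⟩ := fac_split hM.1 hm
  obtain ⟨k, hk⟩ := Nat.exists_eq_add_of_lt h
  have h1 : (n : ℂ) / m = ((p ^ k * n' : ℕ) : ℂ) * ((m' : ℂ)⁻¹ * (p : ℂ)) := by
    have hpc : (p : ℂ) ≠ 0 := by exact_mod_cast hM.1.ne_zero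
    have hm'c : (m' : ℂ) ≠ 0 := by exact_mod_cast hm3
    conv_lhs => rw [hn1, hm1, hk]
    push_cast
    rw [pow_add, pow_add]
    field_simp
  rw [h1]
  exact memLocI_mul_left (memLocR_natCast _) (memLocI_mul_left (memLocR_inv_natCast hM hm2) (memLocI_p hM))

theorem div_memLocR [hM' : M.IsPrime] (hM : IsPModular p M) {n m : ℕ} (hm : m ≠ 0) (hn : n ≠ 0)
    (h : MemLocalRing M ((n : ℂ) / m)) : m.factorization p ≤ n.factorization p := by
  by_contra hlt
  push Not at hlt
  obtain ⟨n', hn1, hn2, hn3⟩ := fac_split hM.1 hn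
  obtain ⟨m', hm1, hm2, hm3⟩ := fac_split hM.1 hm
  obtain ⟨k, hk⟩ := Nat.exists_eq_add_of_lt hlt
  apply hn2
  rw [← memLocI_natCast_iff hM]
  have h1 : (n' : ℂ) = (((p ^ k * m' : ℕ) : ℂ) * ((n : ℂ) / m)) * (p : ℂ) := by
    have hpc : (p : ℂ) ≠ 0 := by exact_mod_cast hM.1.ne_zero
    have hm'c : (m' : ℂ) ≠ 0 := by exact_mod_cast hm3
    conv_rhs => rw [hn1, hm1, hk]
    push_cast
    rw [pow_add, pow_add]
    field_simp
  rw [h1]
  exact memLocI_mul_left (memLocR_mul (memLocR_natCast _) h) (memLocI_p hM)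

theorem div_sub_one [hM' : M.IsPrime] (hM : IsPModular p M) {n m : ℕ} (hm : m ≠ 0)
    (h : MemLocalIdeal M ((n : ℂ) / m - 1)) : n ≠ 0 ∧ n.factorization p = m.factorization p := by
  have hn : n ≠ 0 := by
    intro hn
    rw [hn, Nat.cast_zero, zero_div, zero_sub, memLocI_neg_iff] at h
    exact memLocI_one h
  refine ⟨hn, le_antisymm ?_ ?_⟩
  · by_contra hlt
    push Not at hlt
    have h1 := div_memLocI' (M := M) hM hm (Or.inr hlt)
    have h2 := memLocI_sub h1 h
    rw [sub_sub_cancel] at h2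
    exact memLocI_one h2
  · apply div_memLocR hM hm hn
    have h1 := memLocR_add (memLocI_imp h) memLocR_one
    rwa [sub_add_cancel] at h1

end arith

section ind
variable {G : Type u} [Group G] [Fintype G] {p : ℕ} {M : Ideal AlgInt} [hM' : M.IsPrime]

theorem sum_mul_indFun {H : Subgroup G} [Fintype H] (ξ : H → ℂ) {z : G → ℂ} (hz : IsClassFunction G z) :
    ∑ g : G, z g * indFun H ξ g = (H.index : ℂ) * ∑ h : H, z h * ξ h := by
  classical
  have h1 : ∑ g : G, z g * indFun H ξ g = (Nat.card H : ℂ)⁻¹ * ∑ x : G, ∑ g : G, z g * extendByZero H ξ (x⁻¹ * g * x) := by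
    rw [Finset.sum_comm, Finset.mul_sum]
    apply Finset.sum_congr rfl
    intro g _
    unfold indFun
    rw [← Finset.mul_sum]
    ring
  have h2 : ∀ x : G, ∑ g : G, z g * extendByZero H ξ (x⁻¹ * g * x) = ∑ g : G, z g * extendByZero H ξ g := by
    intro x
    apply Fintype.sum_equiv (MulAut.conj x⁻¹).toEquiv
    intro g
    show _ = z (x⁻¹ * g * x⁻¹⁻¹) * extendByZero H ξ (x⁻¹ * g * x⁻¹⁻¹)
    rw [inv_inv]
    congr 1
    have h4 := hz g x⁻¹
    rw [inv_inv] at h4
    exact h4.symm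
  simp only [h2, Finset.sum_const, Finset.card_univ, nsmul_eq_mul] at h1
  rw [h1, ← Nat.card_eq_fintype_card, ← Subgroup.card_mul_index H, Nat.cast_mul]
  have hH0 : (Nat.card H : ℂ) ≠ 0 := by exact_mod_cast Nat.card_pos.ne'
  rw [ksum_subgroup H _ (fun g hg => by rw [extendByZero_not_mem H ξ hg, mul_zero])]
  simp only [extendByZero_mem]
  field_simp

theorem blockPart_ind_one {H : Subgroup G} [Fintype H] (B : Set (IrrCharacter G)) (ξ : IrrCharacter H) :
    blockPart B (indFun H (ξ : H → ℂ)) 1 =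
      indFun H (ξ : H → ℂ) 1 * omega (ξ : H → ℂ) (msk H Set.univ (blockCoeff B)) := by
  have hcl : IsClassFunction G (indFun H (ξ : H → ℂ)) := indFun_classFun H _
  have h1 : blockPart B (indFun H (ξ : H → ℂ)) 1 = ∑ g : G, blockCoeff B g * indFun H (ξ : H → ℂ) g := by
    have h2 := blockPart_apply B (indFun H (ξ : H → ℂ)) 1
    have h3 := lin_expansion hcl
    classical
    rw [h2]
    have h4 : ∀ g : G, indFun H (ξ : H → ℂ) g =
        ∑ χ : IrrCharacter G, classInner (indFun H (ξ : H → ℂ)) (χ : G → ℂ) * (χ : G → ℂ) g := fun g =>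
      classFun_expansion_apply hcl g
    have h5 : ∑ g : G, blockCoeff B g * indFun H (ξ : H → ℂ) g =
        ∑ χ : IrrCharacter G, classInner (indFun H (ξ : H → ℂ)) (χ : G → ℂ) * (ind1 B χ * (χ : G → ℂ) 1) := by
      simp only [h4, Finset.mul_sum]
      rw [Finset.sum_comm]
      apply Finset.sum_congr rfl
      intro χ _
      rw [← sum_blockCoeff_mul, Finset.mul_sum]
      apply Finset.sum_congr rfl
      intro g _
      ring
    rw [h5]
    apply Finset.sum_congr rfl
    intro χ _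
    ring
  rw [h1, sum_mul_indFun (ξ : H → ℂ) (blockCoeff_classFun B), indFun_one]
  unfold omega
  have h0 : (ξ : H → ℂ) 1 ≠ 0 := IsIrr.one_ne_zero ξ.2
  have h6 : ∑ h : H, msk H Set.univ (blockCoeff B) h * (ξ : H → ℂ) h = ∑ h : H, blockCoeff B (h : G) * (ξ : H → ℂ) h := by
    apply Finset.sum_congr rfl
    intro h _
    rw [msk_mem (Set.mem_univ _)]
  rw [h6]
  field_simp

/-- The degrees of the block components of an induced character. -/
theorem blockPart_ind_congr {H : Subgroup G} [Fintype H] {b : Set (IrrCharacter H)} {B₀ B : Set (IrrCharacter G)}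
    (hind : IsInducedBlock M H b B₀) (hB : IsPBlock M B) {ξ : IrrCharacter H} (hξ : ξ ∈ b) {χ : IrrCharacter G}
    (hχ : χ ∈ B₀) : MemLocalIdeal M (blockPart B (indFun H (ξ : H → ℂ)) 1 / indFun H (ξ : H → ℂ) 1 - ind1 B χ) := by
  have h1 := IsInducedBlock.congr hind hξ hχ (f := ind1 B) (ind1_mem_cenInt B (IsPBlock.isBU hB))
  have hz : cen (ind1 B) = blockCoeff B := by funext g; exact (blockCoeff_eq_cen B g).symm
  rw [hz] at h1
  rw [blockPart_ind_one]
  have h0 : indFun H (ξ : H → ℂ) 1 ≠ 0 := by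
    rw [indFun_one]
    apply mul_ne_zero _ (IsIrr.one_ne_zero ξ.2)
    exact_mod_cast Subgroup.index_ne_zero_of_finite
  rw [mul_div_cancel_left₀ _ h0]
  exact h1

end ind

end Cfsg.Agent.H5
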