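import Cfsg.Agent.H5.Block14
import Cfsg.Agent.H5.Block15
import Cfsg.Agent.H5.Block16
import Cfsg.Agent.H5.W8

set_option autoImplicit false
set_option linter.style.haveILetI false
set_option linter.unusedVariables false
set_option linter.unusedSectionVars false
set_option linter.unusedSimpArgs false

/-! Local expansions of class functions on the regular elements. -/

namespace Cfsg.Agent.H5

open Cfsg
open scoped ComplexConjugate

universe u v w

variable {G : Type u} [Group G] [Fintype G] {p : ℕ} {M : Ideal AlgInt}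

theorem orderOf_conj'' (g h : G) : orderOf (h * g * h⁻¹) = orderOf g := by
  have := orderOf_injective (MulAut.conj h).toMonoidHom (MulAut.conj h).injective g
  simpa using this

/-- Expansion of regularly supported integral class functions over the local ring. -/
theorem reg_expand (hM : IsPModular p M) [hM' : M.IsPrime] {z : G → ℂ} (hz : IsClassFunction G z)
    (hR : ∀ g, MemLocalRing M (z g)) :
    ∃ r : IrrCharacter G → ℂ, (∀ χ, MemLocalRing M (r χ)) ∧
      ∀ g, ¬ p ∣ orderOf g → z g = ∑ χ : IrrCharacter G, r χ * (χ : G → ℂ) g := by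
  classical
  have hdec := isPPart_pRegular_decomp (G := G) (p := p) hM.1
  choose xp s h1 h2 h3 h4 using hdec
  have hs : ∀ g x t : G, x * t = g → Commute x t → (∃ k : ℕ, orderOf x = p ^ k) → ¬ p ∣ orderOf t → s g = t := by
    intro g x t ha hb hc hd
    exact regPart_unique hM.1 (h1 g) (h2 g) (h3 g) (h4 g) ha hb hc hd
  have hsc : IsSC M (fun g => z (s g)) := by
    apply isSC_of_section hM
    · intro g h
      have e : s (h * g * h⁻¹) = h * s g * h⁻¹ := by
        apply hs _ (h * xp g * h⁻¹)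
        · have e0 : h * xp g * h⁻¹ * (h * s g * h⁻¹) = h * (xp g * s g) * h⁻¹ := by group
          rw [e0, h1 g]
        · show h * xp g * h⁻¹ * (h * s g * h⁻¹) = h * s g * h⁻¹ * (h * xp g * h⁻¹)
          have e1 : h * xp g * h⁻¹ * (h * s g * h⁻¹) = h * (xp g * s g) * h⁻¹ := by group
          have e2 : h * s g * h⁻¹ * (h * xp g * h⁻¹) = h * (s g * xp g) * h⁻¹ := by group
          rw [e1, e2, (h2 g).eq]
        · obtain ⟨k, hk⟩ := h3 g
          exact ⟨k, by rw [orderOf_conj'', hk]⟩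
        · rw [orderOf_conj'']; exact h4 g
      show z (s (h * g * h⁻¹)) = z (s g)
      rw [e, hz]
    · intro g; exact hR _
    · intro x t hc hx ht
      show z (s (x * t)) = z (s t)
      rw [hs (x * t) x t rfl hc hx ht, hs t 1 t (one_mul t) (Commute.one_left t) ⟨0, by simp⟩ ht]
  refine ⟨fun χ => classInner (fun g => z (s g)) (χ : G → ℂ), hsc.2, ?_⟩
  intro g hg
  have e : s g = g := hs g 1 g (one_mul g) (Commute.one_left g) ⟨0, by simp⟩ hg
  have h5 := classFun_expansion_apply hsc.1 g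
  rw [show z g = (fun g => z (s g)) g by show z g = z (s g); rw [e]]
  exact h5

theorem block_expand (hM : IsPModular p M) [hM' : M.IsPrime] {z : G → ℂ} (hz : IsClassFunction G z)
    (hR : ∀ g, MemLocalRing M (z g)) (hsing : ∀ g, p ∣ orderOf g → z g = 0) {B : Set (IrrCharacter G)}
    (hB : IsPBlock M B) (hzB : ∀ ψ : IrrCharacter G, ψ ∉ B → classInner z (ψ : G → ℂ) = 0) :
    ∃ r : IrrCharacter G → ℂ, (∀ χ, MemLocalRing M (r χ)) ∧
      ∀ g, ¬ p ∣ orderOf g → z g = ∑ χ ∈ bF B, r χ * (χ : G → ℂ) g := by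
  classical
  obtain ⟨r, hr, hrz⟩ := reg_expand hM hz hR
  refine ⟨r, hr, ?_⟩
  have hzp : pRegularPart p z = z := by
    funext g
    by_cases hg : p ∣ orderOf g
    · rw [pRegularPart_sing hg, hsing g hg]
    · rw [pRegularPart_reg hg]
  -- the difference
  obtain ⟨f, hf⟩ : ∃ f : G → ℂ, f = ∑ χ : IrrCharacter G, (if χ ∈ B then 0 else r χ) • pRegularPart p (χ : G → ℂ) := ⟨_, rfl⟩
  obtain ⟨h, hh⟩ : ∃ h : G → ℂ, h = ∑ χ : IrrCharacter G, (if χ ∈ B then r χ else 0) • pRegularPart p (χ : G → ℂ) := ⟨_, rfl⟩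
  have hzfh : z = h + f := by
    rw [hf, hh, ← Finset.sum_add_distrib, ← hzp]
    funext g
    rw [Finset.sum_apply]
    by_cases hg : p ∣ orderOf g
    · rw [pRegularPart_sing hg]
      symm
      apply Finset.sum_eq_zero
      intro χ _
      rw [Pi.add_apply, Pi.smul_apply, Pi.smul_apply, pRegularPart_sing hg, smul_zero, smul_zero, add_zero]
    · rw [pRegularPart_reg hg, hrz g hg]
      refine Finset.sum_congr rfl fun χ _ => ?_
      rw [Pi.add_apply, Pi.smul_apply, Pi.smul_apply, pRegularPart_reg hg, smul_eq_mul, smul_eq_mul]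
      split_ifs
      · ring
      · ring
  have hf0 : f = 0 := by
    apply classFun_eq_zero_of_inner
    · rw [hf]
      exact IsClassFunction.sum' _ fun χ _ => IsClassFunction.smul' _ (pRegularPart_classFun (irr_classFun χ))
    · intro ξ
      by_cases hξ : ξ ∈ B
      · rw [hf, classInner_sum_left]
        apply Finset.sum_eq_zero
        intro χ _
        rw [classInner_smul_left]
        by_cases hχ : χ ∈ B
        · rw [if_pos hχ, zero_mul]
        · rw [if_neg hχ]
          have : rin p (χ : G → ℂ) (ξ : G → ℂ) = 0 := rin_ne hM (fun hs => hχ (IsPBlock.mem_of_sameBlock hB hξ (sameBlock_symm hs)))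
          unfold rin at this
          rw [this, mul_zero]
      · have h1 := hzB ξ hξ
        rw [hzfh, classInner_add_left] at h1
        have h2 : classInner h (ξ : G → ℂ) = 0 := by
          rw [hh, classInner_sum_left]
          apply Finset.sum_eq_zero
          intro χ _
          rw [classInner_smul_left]
          by_cases hχ : χ ∈ B
          · have : rin p (χ : G → ℂ) (ξ : G → ℂ) = 0 := rin_ne hM (fun hs => hξ (IsPBlock.mem_of_sameBlock hB hχ hs))
            unfold rin at this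
            rw [this, mul_zero]
          · rw [if_neg hχ, zero_mul]
        rwa [h2, zero_add] at h1
  intro g hg
  rw [hzfh, hf0, add_zero, hh, Finset.sum_apply, sum_eq_bF B]
  · refine Finset.sum_congr rfl fun χ hχ => ?_
    rw [Pi.smul_apply, if_pos (mem_bF.mp hχ), pRegularPart_reg hg, smul_eq_mul]
  · intro χ hχ
    rw [Pi.smul_apply, if_neg hχ, zero_smul]

/-- The `p`-part of the sum of squares of the degrees in a block. -/
theorem sum_sq_fac (hM : IsPModular p M) {B : Set (IrrCharacter G)} (hB : IsPBlock M B) :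
    (∑ χ ∈ bF B, charDegree (χ : G → ℂ) ^ 2).factorization p = (Nat.card G).factorization p + minExp p B := by
  classical
  haveI := isPrime_of_isPModular hM
  haveI : Fact p.Prime := ⟨hM.1⟩
  have hG0 : (Nat.card G : ℂ) ≠ 0 := Nat.cast_ne_zero.mpr Nat.card_pos.ne'
  obtain ⟨y, hy⟩ := exists_defectClass hB
  obtain ⟨χ₀, hχ₀⟩ := IsPBlock.nonempty' hB
  obtain ⟨z, hz⟩ : ∃ z : G → ℂ, z = fun g => blockCoeff B g⁻¹ := ⟨_, rfl⟩
  have hzcl : IsClassFunction G z := by
    intro g h
    rw [hz]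
    show blockCoeff B (h * g * h⁻¹)⁻¹ = blockCoeff B g⁻¹
    have e : (h * g * h⁻¹)⁻¹ = h * g⁻¹ * h⁻¹ := by group
    rw [e, blockCoeff_classFun B]
  have hzR : ∀ g, MemLocalRing M (z g) := by intro g; rw [hz]; exact blockCoeff_memLocR hB _
  have hzsing : ∀ g, p ∣ orderOf g → z g = 0 := by
    intro g hg
    by_contra h
    rw [hz] at h
    have := regular_of_blockCoeff hM (blockCoeff_memLocR hB) h
    rw [orderOf_inv] at this
    exact this hg
  have hzeq : z = ∑ χ ∈ bF B, ((Nat.card G : ℂ)⁻¹ * (χ : G → ℂ) 1) • (χ : G → ℂ) := by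
    funext g
    rw [hz, Finset.sum_apply]
    show blockCoeff B g⁻¹ = _
    unfold blockCoeff
    rw [finsum_mem_bF, Finset.mul_sum]
    refine Finset.sum_congr rfl fun χ _ => ?_
    rw [IsCharacter.inv_eq_conj (irr_isCharacter χ), Complex.conj_conj, Pi.smul_apply, smul_eq_mul, mul_assoc]
  have hzB : ∀ ψ : IrrCharacter G, ψ ∉ B → classInner z (ψ : G → ℂ) = 0 := by
    intro ψ hψ
    rw [hzeq, classInner_sum_left]
    apply Finset.sum_eq_zero
    intro χ hχ
    rw [classInner_smul_left, classInner_irr_ne, mul_zero]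
    rintro rfl
    exact hψ (mem_bF.mp hχ)
  obtain ⟨r, hr, hrz⟩ := block_expand hM hzcl hzR hzsing hB hzB
  obtain ⟨m, hm⟩ : ∃ m, m = minExp p B := ⟨_, rfl⟩
  have hpm : ((p ^ m : ℕ) : ℂ) ≠ 0 := Nat.cast_ne_zero.mpr (pow_ne_zero _ hM.1.ne_zero)
  have hpfac : (p ^ m).factorization p = m := by rw [hM.1.factorization_pow, Finsupp.single_eq_same]
  -- value at one
  obtain ⟨N, hN⟩ : ∃ N, N = ∑ χ ∈ bF B, charDegree (χ : G → ℂ) ^ 2 := ⟨_, rfl⟩
  have hN0 : N ≠ 0 := by
    rw [hN]
    have : 0 < ∑ χ ∈ bF B, charDegree (χ : G → ℂ) ^ 2 :=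
      Finset.sum_pos (fun χ _ => pow_pos (charDegree_pos χ.2) 2) ⟨χ₀, mem_bF.mpr hχ₀⟩
    exact this.ne'
  have hz1 : z 1 = (N : ℂ) / (Nat.card G : ℂ) := by
    rw [hzeq, Finset.sum_apply, hN]
    push_cast
    rw [Finset.sum_div]
    refine Finset.sum_congr rfl fun χ _ => ?_
    rw [Pi.smul_apply, smul_eq_mul, IsCharacter.one_eq_charDegree (irr_isCharacter χ)]
    field_simp
  have hdegR : ∀ χ ∈ B, MemLocalRing M ((χ : G → ℂ) 1 / ((p ^ m : ℕ) : ℂ)) := by
    intro χ hχ
    rw [IsCharacter.one_eq_charDegree (irr_isCharacter χ)]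
    apply natdiv_memLocR hM (charDegree_pos χ.2).ne' (pow_ne_zero _ hM.1.ne_zero)
    rw [hpfac, hm]
    exact minExp_le hχ
  have h1 : z 1 / ((p ^ m : ℕ) : ℂ) = ∑ χ ∈ bF B, r χ * ((χ : G → ℂ) 1 / ((p ^ m : ℕ) : ℂ)) := by
    rw [hrz 1 (by rw [orderOf_one]; exact fun h => hM.1.one_lt.ne' (Nat.dvd_one.mp h)), Finset.sum_div]
    refine Finset.sum_congr rfl fun χ _ => ?_
    rw [mul_div_assoc]
  have hz1R : MemLocalRing M (z 1 / ((p ^ m : ℕ) : ℂ)) := by
    rw [h1]
    apply memLocR_sum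
    intro χ hχ
    exact memLocR_mul (hr χ) (hdegR χ (mem_bF.mp hχ))
  -- value at the inverse of the defect class
  have hyreg : ¬ p ∣ orderOf y⁻¹ := by rw [orderOf_inv]; exact defectClass_regular hM hB hy
  obtain ⟨k, hk⟩ : ∃ k, k = (Subgroup.centralizer ({y⁻¹} : Set G)).index := ⟨_, rfl⟩
  have hcent : Subgroup.centralizer ({y⁻¹} : Set G) = Subgroup.centralizer ({y} : Set G) := by
    ext g
    rw [Subgroup.mem_centralizer_singleton_iff, Subgroup.mem_centralizer_singleton_iff]
    constructor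
    · intro h
      have h' : Commute g y⁻¹ := h
      have := h'.inv_right
      rw [inv_inv] at this
      exact this.eq
    · intro h
      have h' : Commute g y := h
      exact h'.inv_right.eq
  have hkfac : k.factorization p = m := by
    rw [hk, hcent, hm, minExp_eq hM hB hy]
  have hk0 : k ≠ 0 := by rw [hk]; exact Subgroup.index_ne_zero_of_finite
  have h2 : ((k : ℂ) / ((p ^ m : ℕ) : ℂ)) * z y⁻¹ =
      ∑ χ ∈ bF B, r χ * ((χ : G → ℂ) 1 / ((p ^ m : ℕ) : ℂ)) * centralChar (χ : G → ℂ) y⁻¹ := by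
    rw [hrz _ hyreg, Finset.mul_sum]
    refine Finset.sum_congr rfl fun χ _ => ?_
    have hχ1 := IsIrr.one_ne_zero χ.2
    unfold centralChar
    rw [← hk]
    field_simp
  have h3 : MemLocalIdeal M (((k : ℂ) / ((p ^ m : ℕ) : ℂ)) * z y⁻¹ -
      (z 1 / ((p ^ m : ℕ) : ℂ)) * centralChar (χ₀ : G → ℂ) y⁻¹) := by
    rw [h1, h2, Finset.sum_mul, ← Finset.sum_sub_distrib]
    apply memLocI_sum
    intro χ hχ
    rw [← mul_sub]
    apply memLocI_mul_left (memLocR_mul (hr χ) (hdegR χ (mem_bF.mp hχ)))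
    exact IsPBlock.sameBlock hB (mem_bF.mp hχ) hχ₀ y⁻¹
  have h4 : ¬ MemLocalIdeal M (((k : ℂ) / ((p ^ m : ℕ) : ℂ)) * z y⁻¹) := by
    apply not_memLocI_mul
    · apply natdiv_memLocR hM hk0 (pow_ne_zero _ hM.1.ne_zero)
      rw [hpfac, hkfac]
    · exact hzR _
    · intro h
      rcases div_memLocI hM (pow_ne_zero _ hM.1.ne_zero) h with h5 | h5
      · exact hk0 h5
      · rw [hpfac, hkfac] at h5; exact lt_irrefl _ h5
    · rw [hz]
      show ¬ MemLocalIdeal M (blockCoeff B y⁻¹⁻¹)
      rw [inv_inv]; exact hy.2.1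
  have h5 : ¬ MemLocalIdeal M (z 1 / ((p ^ m : ℕ) : ℂ)) := by
    intro h
    apply h4
    exact memLocI_of_sub h3 (memLocI_mul_right h (centralChar_memLocR χ₀ _))
  have h6 : z 1 / ((p ^ m : ℕ) : ℂ) = (N : ℂ) / ((Nat.card G * p ^ m : ℕ) : ℂ) := by
    rw [hz1]; push_cast; rw [div_div]
  rw [h6] at h5 hz1R
  have hden : Nat.card G * p ^ m ≠ 0 := mul_ne_zero Nat.card_pos.ne' (pow_ne_zero _ hM.1.ne_zero)
  have hdfac : (Nat.card G * p ^ m).factorization p = (Nat.card G).factorization p + m := by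
    rw [Nat.factorization_mul Nat.card_pos.ne' (pow_ne_zero _ hM.1.ne_zero), Finsupp.add_apply, hpfac]
  have h7 := div_memLocR hM hden hN0 hz1R
  rw [hdfac] at h7
  have h8 : N.factorization p ≤ (Nat.card G).factorization p + m := by
    by_contra hlt
    push Not at hlt
    apply h5
    apply natdiv_memLocI hM hN0 hden
    rw [hdfac]; exact hlt
  rw [← hN, ← hm]
  omega

end Cfsg.Agent.H5
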