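import Cfsg.Agent.H5.W18

set_option autoImplicit false
set_option linter.style.haveILetI false
set_option linter.unusedVariables false
set_option linter.unusedSectionVars false
set_option linter.unusedSimpArgs false

/-! Blocks of rank one. -/

namespace Cfsg.Agent.H5

open Cfsg
open scoped ComplexConjugate

universe u v w

variable {G : Type u} [Group G] [Fintype G] {p : ℕ} {M : Ideal AlgInt}

theorem reg_one (hp : p.Prime) : ¬ p ∣ orderOf (1 : G) := by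
  rw [orderOf_one]; exact fun h => hp.one_lt.ne' (Nat.dvd_one.mp h)

theorem rank_one_prop (hp : p.Prime) {B : Set (IrrCharacter G)} (hl : blockRank p B = 1) {χ ξ : IrrCharacter G} (hχ : χ ∈ B)
    (hξ : ξ ∈ B) {x : G} (hx : ¬ p ∣ orderOf x) :
    (χ : G → ℂ) x = (χ : G → ℂ) 1 / (ξ : G → ℂ) 1 * (ξ : G → ℂ) x := by
  unfold blockRank at hl
  have hξ1 := IsIrr.one_ne_zero ξ.2
  have hmem : ∀ ψ ∈ B, pRegularPart p (ψ : G → ℂ) ∈
      Submodule.span ℂ ((fun χ : IrrCharacter G => pRegularPart p (χ : G → ℂ)) '' B) :=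
    fun ψ hψ => Submodule.subset_span ⟨ψ, hψ, rfl⟩
  have hne : (⟨_, hmem ξ hξ⟩ : Submodule.span ℂ ((fun χ : IrrCharacter G => pRegularPart p (χ : G → ℂ)) '' B)) ≠ 0 := by
    intro h
    have h1 := congrFun (congrArg Subtype.val h) 1
    change pRegularPart p (ξ : G → ℂ) 1 = 0 at h1
    rw [pRegularPart_reg (reg_one hp)] at h1
    exact hξ1 h1
  obtain ⟨c, hc⟩ := (finrank_eq_one_iff_of_nonzero' _ hne).mp hl ⟨_, hmem χ hχ⟩
  have hc' : ∀ y : G, c * pRegularPart p (ξ : G → ℂ) y = pRegularPart p (χ : G → ℂ) y := by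
    intro y
    exact congrFun (congrArg Subtype.val hc) y
  have h1 := hc' 1
  rw [pRegularPart_reg (reg_one hp), pRegularPart_reg (reg_one hp)] at h1
  have h2 := hc' x
  rw [pRegularPart_reg hx, pRegularPart_reg hx] at h2
  rw [← h2, ← h1, mul_div_assoc, div_self hξ1, mul_one]

theorem rank_one_main (hM : IsPModular p M) {B : Set (IrrCharacter G)} (hB : IsPBlock M B) (hl : blockRank p B = 1) :
    ∃ φ : G → ℂ, ∃ d : IrrCharacter G → ℕ,
      (∃ n : IrrCharacter G → ℤ, ∀ x : G, ¬ p ∣ orderOf x → φ x = ∑ ψ ∈ bF B, (n ψ : ℂ) * (ψ : G → ℂ) x) ∧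
      (∀ χ ∈ B, ∀ x : G, ¬ p ∣ orderOf x → (χ : G → ℂ) x = (d χ : ℂ) * φ x) ∧
      ∑ χ ∈ bF B, d χ ^ 2 = p ^ blockDefect p B := by
  classical
  haveI := isPrime_of_isPModular hM
  haveI : Fintype B := Fintype.ofFinite _
  obtain ⟨ξ, hξ, hξ0⟩ := exists_height_zero hM hB
  have hξ1 := IsIrr.one_ne_zero ξ.2
  -- gcd
  obtain ⟨I, hI⟩ : ∃ I : Ideal ℤ, I = Ideal.span (Set.range (fun χ : B => (charDegree ((χ : IrrCharacter G) : G → ℂ) : ℤ))) := ⟨_, rfl⟩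
  obtain ⟨a, ha⟩ : ∃ a : ℤ, I = Ideal.span {a} := (IsPrincipalIdealRing.principal I).principal
  obtain ⟨g, hg⟩ : ∃ g : ℕ, g = a.natAbs := ⟨_, rfl⟩
  have hIg : I = Ideal.span {(g : ℤ)} := by
    rw [ha, hg, Int.span_natAbs]
  have hgdvd : ∀ χ ∈ B, g ∣ charDegree (χ : G → ℂ) := by
    intro χ hχ
    have h1 : (charDegree (χ : G → ℂ) : ℤ) ∈ I := by
      rw [hI]; exact Ideal.subset_span ⟨⟨χ, hχ⟩, rfl⟩
    rw [hIg, Ideal.mem_span_singleton] at h1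
    exact_mod_cast h1
  have hgpos : 0 < g := Nat.pos_of_dvd_of_pos (hgdvd ξ hξ) (charDegree_pos ξ.2)
  obtain ⟨c, hc⟩ : ∃ c : B → ℤ, ∑ χ : B, c χ * (charDegree ((χ : IrrCharacter G) : G → ℂ) : ℤ) = g := by
    have h1 : (g : ℤ) ∈ Ideal.span (Set.range (fun χ : B => (charDegree ((χ : IrrCharacter G) : G → ℂ) : ℤ))) := by
      rw [← hI, hIg]; exact Ideal.subset_span rfl
    obtain ⟨c, hc⟩ := (Ideal.mem_span_range_iff_exists_fun).mp h1
    exact ⟨c, hc⟩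
  obtain ⟨n, hn⟩ : ∃ n : IrrCharacter G → ℤ, ∀ χ : B, n χ = c χ := by
    refine ⟨fun χ => if h : χ ∈ B then c ⟨χ, h⟩ else 0, fun χ => ?_⟩
    show (if h : (χ : IrrCharacter G) ∈ B then c ⟨χ, h⟩ else 0) = c χ
    rw [dif_pos χ.2]
  have hsum : ∀ F : IrrCharacter G → ℤ, ∑ χ : B, F χ = ∑ χ ∈ bF B, F χ := by
    intro F
    rw [Finset.sum_subtype (bF B) (p := fun χ => χ ∈ B) (fun χ => mem_bF) F]
  have hn1 : ∑ χ ∈ bF B, n χ * (charDegree (χ : G → ℂ) : ℤ) = g := by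
    rw [← hsum (fun χ => n χ * (charDegree (χ : G → ℂ) : ℤ)), ← hc]
    refine Finset.sum_congr rfl fun χ _ => ?_
    rw [hn]
  obtain ⟨d, hd⟩ : ∃ d : IrrCharacter G → ℕ, ∀ χ ∈ B, charDegree (χ : G → ℂ) = d χ * g :=
    ⟨fun χ => charDegree (χ : G → ℂ) / g, fun χ hχ => (Nat.div_mul_cancel (hgdvd χ hχ)).symm⟩
  have hgc : (g : ℂ) ≠ 0 := Nat.cast_ne_zero.mpr hgpos.ne'
  have hdc : ∀ χ ∈ B, (χ : G → ℂ) 1 = (d χ : ℂ) * g := by
    intro χ hχ
    rw [IsCharacter.one_eq_charDegree (irr_isCharacter χ), hd χ hχ]; push_cast; rfl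
  have hd0 : ∀ χ ∈ B, (d χ : ℂ) ≠ 0 := by
    intro χ hχ h
    have := hdc χ hχ
    rw [h, zero_mul] at this
    exact IsIrr.one_ne_zero χ.2 this
  refine ⟨fun x => (g : ℂ) / (ξ : G → ℂ) 1 * (ξ : G → ℂ) x, d, ⟨n, ?_⟩, ?_, ?_⟩
  · intro x hx
    have h1 : ∀ ψ ∈ bF B, (n ψ : ℂ) * (ψ : G → ℂ) x = ((n ψ : ℂ) * (charDegree (ψ : G → ℂ) : ℂ)) * ((ξ : G → ℂ) x / (ξ : G → ℂ) 1) := by
      intro ψ hψ
      rw [rank_one_prop hM.1 hl (mem_bF.mp hψ) hξ hx, IsCharacter.one_eq_charDegree (irr_isCharacter ψ)]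
      ring
    rw [Finset.sum_congr rfl h1, ← Finset.sum_mul]
    have h2 : ∑ ψ ∈ bF B, (n ψ : ℂ) * (charDegree (ψ : G → ℂ) : ℂ) = (g : ℂ) := by exact_mod_cast hn1
    rw [h2]; ring
  · intro χ hχ x hx
    rw [rank_one_prop hM.1 hl hχ hξ hx, hdc χ hχ]; ring
  · -- sum of squares
    obtain ⟨S, hS⟩ : ∃ S : ℕ, S = ∑ χ ∈ bF B, d χ ^ 2 := ⟨_, rfl⟩
    rw [← hS]
    have hrin : ∀ χ ∈ B, ∀ ψ ∈ B, rin p (χ : G → ℂ) (ψ : G → ℂ) =
        (d χ : ℂ) * (d ψ : ℂ) * (rin p (ξ : G → ℂ) (ξ : G → ℂ) / (d ξ : ℂ) ^ 2) := by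
      intro χ hχ ψ hψ
      rw [rin_def, rin_def, mul_div_assoc, mul_left_comm]
      congr 1
      rw [Finset.sum_div, Finset.mul_sum]
      refine Finset.sum_congr rfl fun x _ => ?_
      by_cases hx : p ∣ orderOf x
      · rw [pRegularPart_sing hx, pRegularPart_sing hx]; simp
      · rw [pRegularPart_reg hx, pRegularPart_reg hx, rank_one_prop hM.1 hl hχ hξ hx, rank_one_prop hM.1 hl hψ hξ hx,
          hdc χ hχ, hdc ψ hψ, hdc ξ hξ]
        simp only [map_mul, map_div₀, Complex.conj_natCast]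
        have := hd0 ξ hξ
        field_simp
    have hS1 : (S : ℂ) * (rin p (ξ : G → ℂ) (ξ : G → ℂ) / (d ξ : ℂ) ^ 2) = 1 := by
      have h1 := blockRank_eq_sum hM hB
      rw [hl, Nat.cast_one] at h1
      rw [h1, hS]
      push_cast
      rw [Finset.sum_mul]
      refine Finset.sum_congr rfl fun χ hχ => ?_
      rw [hrin χ (mem_bF.mp hχ) χ (mem_bF.mp hχ)]; ring
    have hS0 : (S : ℂ) ≠ 0 := by
      intro h; rw [h, zero_mul] at hS1; exact zero_ne_one hS1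
    have ht : rin p (ξ : G → ℂ) (ξ : G → ℂ) / (d ξ : ℂ) ^ 2 = 1 / S := by
      field_simp
      linear_combination hS1
    have hcm : ∀ χ ∈ B, ∀ ψ ∈ B, (S : ℤ) * cm p B χ ψ = (p : ℤ) ^ blockDefect p B * (d χ * d ψ) := by
      intro χ hχ ψ hψ
      have h1 := cm_spec hM hχ ψ
      rw [hrin χ hχ ψ hψ, ht] at h1
      have h2 : (S : ℂ) * (cm p B χ ψ : ℂ) = (p : ℂ) ^ blockDefect p B * (d χ * d ψ) := by
        rw [h1]; push_cast; field_simp
      exact_mod_cast h2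
    have hbez : ∑ χ ∈ bF B, n χ * (d χ : ℤ) = 1 := by
      have h1 : (∑ χ ∈ bF B, n χ * (d χ : ℤ)) * g = 1 * g := by
        rw [Finset.sum_mul, one_mul]
        refine Eq.trans ?_ hn1
        refine Finset.sum_congr rfl fun χ hχ => ?_
        rw [hd χ (mem_bF.mp hχ)]; push_cast; ring
      exact mul_right_cancel₀ (by exact_mod_cast hgpos.ne') h1
    have hdvd : (S : ℤ) ∣ (p : ℤ) ^ blockDefect p B := by
      have h1 : (p : ℤ) ^ blockDefect p B = ∑ χ ∈ bF B, ∑ ψ ∈ bF B, n χ * n ψ * ((S : ℤ) * cm p B χ ψ) := by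
        have h2 : (1 : ℤ) = (∑ χ ∈ bF B, n χ * (d χ : ℤ)) * (∑ ψ ∈ bF B, n ψ * (d ψ : ℤ)) := by rw [hbez]; norm_num
        calc (p : ℤ) ^ blockDefect p B = (p : ℤ) ^ blockDefect p B * 1 := by ring
          _ = (p : ℤ) ^ blockDefect p B * ((∑ χ ∈ bF B, n χ * (d χ : ℤ)) * (∑ ψ ∈ bF B, n ψ * (d ψ : ℤ))) := by rw [← h2]
          _ = _ := by
            rw [Finset.sum_mul_sum, Finset.mul_sum]
            refine Finset.sum_congr rfl fun χ hχ => ?_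
            rw [Finset.mul_sum]
            refine Finset.sum_congr rfl fun ψ hψ => ?_
            rw [hcm χ (mem_bF.mp hχ) ψ (mem_bF.mp hψ)]; ring
      rw [h1]
      apply Finset.dvd_sum
      intro χ _
      apply Finset.dvd_sum
      intro ψ _
      exact ⟨n χ * n ψ * cm p B χ ψ, by ring⟩
    have hdvd' : S ∣ p ^ blockDefect p B := by exact_mod_cast hdvd
    obtain ⟨j, hj, hSj⟩ := (Nat.dvd_prime_pow hM.1).mp hdvd'
    rw [hSj]
    congr 1
    by_contra hne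
    have hlt : j < blockDefect p B := lt_of_le_of_ne hj hne
    apply cm_not_dvd hM hB hξ hξ hξ0
    rw [hξ0, zero_add, pow_one]
    have h1 := hcm ξ hξ ξ hξ
    rw [hSj] at h1
    obtain ⟨k, hk⟩ : ∃ k, blockDefect p B = j + (k + 1) := ⟨blockDefect p B - j - 1, by omega⟩
    rw [hk, pow_add] at h1
    push_cast at h1
    rw [mul_assoc] at h1
    have h2 := mul_left_cancel₀ (pow_ne_zero j (by exact_mod_cast hM.1.ne_zero : (p : ℤ) ≠ 0)) h1
    rw [h2]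
    exact ⟨(p : ℤ) ^ k * (d ξ * d ξ), by ring⟩

end Cfsg.Agent.H5
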