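import Cfsg.Agent.H5.W19
import Cfsg.Agent.H5.Prin2
import Cfsg.Agent.H5.Prin3
import Cfsg.Agent.H5.K8
import Cfsg.Agent.H1.Transfer

set_option autoImplicit false
set_option linter.style.haveILetI false
set_option linter.unusedVariables false
set_option linter.unusedSectionVars false
set_option linter.unusedSimpArgs false

/-! Principal blocks and `p`-nilpotence. -/

namespace Cfsg.Agent.H5

open Cfsg
open scoped ComplexConjugate

universe u v w

variable {G : Type u} [Group G] [Fintype G] {p : ℕ} {M : Ideal AlgInt}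

theorem rank_one_of (hp : p.Prime) {B : Set (IrrCharacter G)} {θ : IrrCharacter G} (hθ : θ ∈ B)
    (h : ∀ ψ ∈ B, ∃ c : ℂ, ∀ x : G, ¬ p ∣ orderOf x → (ψ : G → ℂ) x = c * (θ : G → ℂ) x) : blockRank p B = 1 := by
  have hθ1 := IsIrr.one_ne_zero θ.2
  unfold blockRank
  have h1 : Submodule.span ℂ ((fun χ : IrrCharacter G => pRegularPart p (χ : G → ℂ)) '' B) =
      Submodule.span ℂ {pRegularPart p (θ : G → ℂ)} := by
    apply le_antisymm
    · rw [Submodule.span_le]
      rintro _ ⟨ψ, hψ, rfl⟩
      obtain ⟨c, hc⟩ := h ψ hψ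
      rw [SetLike.mem_coe, Submodule.mem_span_singleton]
      refine ⟨c, ?_⟩
      funext x
      rw [Pi.smul_apply, smul_eq_mul]
      show _ = pRegularPart p (ψ : G → ℂ) x
      by_cases hx : p ∣ orderOf x
      · rw [pRegularPart_sing hx, pRegularPart_sing hx, mul_zero]
      · rw [pRegularPart_reg hx, pRegularPart_reg hx, hc x hx]
    · rw [Submodule.span_le]
      rintro _ rfl
      exact Submodule.subset_span ⟨θ, hθ, rfl⟩
  rw [h1]
  apply finrank_span_singleton
  intro h
  have h2 := congrFun h 1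
  rw [pRegularPart_reg (reg_one hp)] at h2
  exact hθ1 h2

/-- The trivial character. -/
noncomputable def oneC (G : Type u) [Group G] : IrrCharacter G := ⟨_, isIrrCharacter_trivial⟩

theorem oneC_apply (g : G) : (oneC G : G → ℂ) g = 1 := rfl

theorem oneC_mem (hM : IsPModular p M) : oneC G ∈ principalBlock M G := by
  haveI := isPrime_of_isPModular hM
  exact mem_blockOf_self (M := M) (oneC G)

theorem index_pow_of_regular (hp : p.Prime) {N : Subgroup G} [hN : N.Normal] (h : ∀ x : G, ¬ p ∣ orderOf x → x ∈ N) :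
    ∃ k : ℕ, N.index = p ^ k := by
  haveI : Fact p.Prime := ⟨hp⟩
  have hq : IsPGroup p (G ⧸ N) := by
    intro c
    obtain ⟨g, rfl⟩ := QuotientGroup.mk_surjective c
    obtain ⟨x, s, h1, h2, ⟨k, hk⟩, h4⟩ := isPPart_pRegular_decomp (p := p) hp g
    refine ⟨k, ?_⟩
    have h5 : (QuotientGroup.mk g : G ⧸ N) = QuotientGroup.mk x := by
      rw [QuotientGroup.eq, ← h1]
      have e : (x * s)⁻¹ * x = s⁻¹ * (x⁻¹ * x) := by rw [mul_inv_rev, mul_assoc]
      rw [e, inv_mul_cancel, mul_one]
      exact N.inv_mem (h s h4)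
    rw [h5, ← QuotientGroup.mk_pow, ← hk, pow_orderOf_eq_one, QuotientGroup.mk_one]
  obtain ⟨n, hn⟩ := IsPGroup.iff_card.mp hq
  exact ⟨n, hn⟩

theorem principal_rank_one_iff (hM : IsPModular p M) :
    blockRank p (principalBlock M G) = 1 ↔ HasNormalPComplement p G := by
  haveI := isPrime_of_isPModular hM
  haveI : Fact p.Prime := ⟨hM.1⟩
  rw [H1.hasNormalPComplement_iff]
  constructor
  · intro h
    refine ⟨bKer (principalBlock M G), inferInstance, ?_, ?_⟩
    · exact ((Nat.Prime.coprime_iff_not_dvd hM.1).mpr (not_dvd_bKer hM principal_isPBlock)).symm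
    · apply index_pow_of_regular hM.1
      intro x hx
      rw [mem_bKer]
      intro χ hχ
      have := rank_one_prop hM.1 h hχ (oneC_mem hM) hx
      rw [oneC_apply, oneC_apply, div_one, mul_one] at this
      exact this
  · rintro ⟨N, hN, hcop, hidx⟩
    have hNp : ¬ p ∣ Nat.card N := (Nat.Prime.coprime_iff_not_dvd hM.1).mp hcop.symm
    apply rank_one_of hM.1 (oneC_mem hM)
    intro ψ hψ
    refine ⟨(ψ : G → ℂ) 1, fun x hx => ?_⟩
    rw [oneC_apply, mul_one]
    exact (principal_eq_ker hM hNp hidx ψ).mp hψ x (mem_of_index_pow hM.1 hidx hx)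

end Cfsg.Agent.H5
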