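import Cfsg.Agent.H5.W20
import Cfsg.Agent.H3.HSub
import Cfsg.Agent.H4.LinChar

set_option autoImplicit false
set_option linter.style.haveILetI false
set_option linter.unusedVariables false
set_option linter.unusedSectionVars false
set_option linter.unusedSimpArgs false

/-! Linear characters of Sylow subgroups and `p`-nilpotence. -/

namespace Cfsg.Agent.H5

open Cfsg
open scoped ComplexConjugate

universe u v w

theorem mem_commutator_of_hom {H : Type u} [Group H] [Finite H] {z : H} (h : ∀ μ : H →* ℂˣ, μ z = 1) : z ∈ commutator H := by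
  by_contra hz
  have hz' : Abelianization.of z ≠ 1 := by
    intro h1
    apply hz
    rwa [← MonoidHom.mem_ker, Abelianization.ker_of] at h1
  haveI : Finite (Abelianization H) := Quotient.finite _
  haveI : NeZero ((Monoid.exponent (Abelianization H) : ℕ) : ℂ) :=
    ⟨Nat.cast_ne_zero.mpr Monoid.exponent_ne_zero_of_finite⟩
  obtain ⟨φ, hφ⟩ := CommGroup.exists_apply_ne_one_of_hasEnoughRootsOfUnity (Abelianization H) ℂ hz'
  apply hφ
  exact h (φ.comp Abelianization.of)

variable {G : Type u} [Group G] [Fintype G] {p : ℕ} {M : Ideal AlgInt}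

/-- Extension of all linear characters of a Sylow subgroup forces `p`-nilpotence. -/
theorem npc_of_linear [hp : Fact p.Prime] (P : Sylow p G)
    (h : ∀ μ : (P : Subgroup G) →* ℂˣ, ∃ lam : G →* ℂˣ, ∀ y : (P : Subgroup G), lam y = μ y) : HasNormalPComplement p G := by
  apply H3.npc_of_local_frattini P
  intro Q hQ x hx _ a ha
  have hmem : a⁻¹ * (x⁻¹ * a * x) ∈ (P : Subgroup G) := by
    apply hQ
    apply Q.mul_mem (Q.inv_mem ha)
    have := (Subgroup.mem_normalizer_iff.1 (Subgroup.inv_mem _ hx) a).1 ha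
    simpa using this
  apply L0.Fus.comm_le_frattini P.2
  have h1 : (⟨_, hmem⟩ : (P : Subgroup G)) ∈ commutator (P : Subgroup G) := by
    apply mem_commutator_of_hom
    intro μ
    obtain ⟨lam, hlam⟩ := h μ
    rw [← hlam]
    show lam (a⁻¹ * (x⁻¹ * a * x)) = 1
    rw [map_mul, map_mul, map_mul, map_inv, map_inv, mul_comm (lam x)⁻¹, inv_mul_cancel_right, inv_mul_cancel]
  have h7 : (commutator (P : Subgroup G)).map (P : Subgroup G).subtype = ⁅(P : Subgroup G), (P : Subgroup G)⁆ := by
    rw [commutator_def, Subgroup.map_commutator, ← MonoidHom.range_eq_map, Subgroup.range_subtype]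
  rw [← h7]
  exact ⟨_, h1, rfl⟩

/-- Reduction to degree one characters over the linear characters of `P`. -/
theorem linear_ext_of {P : Subgroup G} [Fintype P] (μ : P →* ℂˣ) {χ : IrrCharacter G} (hχ : charDegree (χ : G → ℂ) = 1)
    (hin : classInner (fun y : P => (μ y : ℂ)) (fun y : P => (χ : G → ℂ) y) ≠ 0) :
    ∃ lam : G →* ℂˣ, ∀ y : P, lam y = μ y := by
  have h1 : (χ : G → ℂ) 1 = 1 := by
    rw [IsCharacter.one_eq_charDegree (irr_isCharacter χ), hχ, Nat.cast_one]
  obtain ⟨lam, hlam⟩ := H4.exists_hom_of_degree_one (irr_isCharacter χ) h1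
  refine ⟨lam, fun y => ?_⟩
  obtain ⟨α, hα⟩ : ∃ α : IrrCharacter P, (α : P → ℂ) = fun y => (μ y : ℂ) := ⟨⟨_, H4.isIrr_hom μ⟩, rfl⟩
  obtain ⟨β, hβ⟩ : ∃ β : IrrCharacter P, (β : P → ℂ) = fun y : P => (χ : G → ℂ) y := by
    refine ⟨⟨_, H4.isIrr_hom (lam.comp P.subtype)⟩, ?_⟩
    funext y; rw [hlam]; rfl
  rw [← hα, ← hβ] at hin
  have h3 : α = β := by
    by_contra hne
    exact hin (classInner_irr_ne hne)
  have h4 := congrFun hα y
  have h5 := congrFun hβ y
  rw [← h3, h4, hlam] at h5
  exact (Units.ext h5).symm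

theorem thompson_degrees (hp : p.Prime) (hdeg : ∀ χ : IrrCharacter G, charDegree (χ : G → ℂ) ≠ 1 → p ∣ charDegree (χ : G → ℂ)) :
    HasNormalPComplement p G := by
  classical
  haveI : Fact p.Prime := ⟨hp⟩
  obtain ⟨P⟩ : Nonempty (Sylow p G) := inferInstance
  haveI : Fintype (P : Subgroup G) := Fintype.ofFinite _
  apply npc_of_linear P
  intro μ
  have hμ := H4.isIrr_hom μ
  have hind := isCharacter_indFun (P : Subgroup G) (IsIrr.isCharacter hμ)
  by_contra hcon
  have hdvd : ∀ χ : IrrCharacter G, ∃ n : ℕ, classInner (indFun (P : Subgroup G) (fun y => (μ y : ℂ))) (χ : G → ℂ) * (χ : G → ℂ) 1 = ((p * n : ℕ) : ℂ) := by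
    intro χ
    obtain ⟨n, hn⟩ := IsCharacter.inner_nat hind χ
    by_cases h1 : charDegree (χ : G → ℂ) = 1
    · refine ⟨0, ?_⟩
      have h2 : classInner (indFun (P : Subgroup G) (fun y => (μ y : ℂ))) (χ : G → ℂ) = 0 := by
        rw [frobenius_reciprocity _ _ (irr_classFun χ)]
        by_contra h3
        exact hcon (linear_ext_of μ h1 h3)
      rw [h2]; simp
    · obtain ⟨k, hk⟩ := hdeg χ h1
      refine ⟨n * k, ?_⟩
      rw [hn, IsCharacter.one_eq_charDegree (irr_isCharacter χ), hk]
      push_cast; ring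
  choose n hn using hdvd
  have h1 := classFun_expansion_apply (IsCharacter.classFun hind) 1
  rw [indFun_one, Finset.sum_congr rfl (fun χ _ => hn χ)] at h1
  have h2 : (P : Subgroup G).index = p * ∑ χ : IrrCharacter G, n χ := by
    have h3 : ((P : Subgroup G).index : ℂ) = ((p * ∑ χ : IrrCharacter G, n χ : ℕ) : ℂ) := by
      rw [map_one, Units.val_one, mul_one] at h1
      rw [h1]; push_cast; rw [Finset.mul_sum]
    exact_mod_cast h3
  exact P.not_dvd_index ⟨_, h2⟩

/-- The block version. -/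
theorem exists_principal_over (hM : IsPModular p M) [hp : Fact p.Prime] (P : Sylow p G) [Fintype (P : Subgroup G)]
    (μ : (P : Subgroup G) →* ℂˣ) : ∃ χ ∈ principalBlock M G, ¬ p ∣ charDegree (χ : G → ℂ) ∧
      classInner (fun y : (P : Subgroup G) => (μ y : ℂ)) (fun y : (P : Subgroup G) => (χ : G → ℂ) y) ≠ 0 := by
  classical
  haveI := isPrime_of_isPModular hM
  have hB := principal_isPBlock (M := M) (G := G)
  have hμ := H4.isIrr_hom μ
  have hG0 : (Nat.card G : ℂ) ≠ 0 := Nat.cast_ne_zero.mpr Nat.card_pos.ne'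
  have hP0 : (Nat.card (P : Subgroup G) : ℂ) ≠ 0 := Nat.cast_ne_zero.mpr Nat.card_pos.ne'
  by_contra hcon
  push Not at hcon
  have hdvd : ∀ χ : IrrCharacter G, ∃ n : ℕ, χ ∈ principalBlock M G →
      classInner (fun y : (P : Subgroup G) => (μ y : ℂ)) (fun y : (P : Subgroup G) => (χ : G → ℂ) y) * (χ : G → ℂ) 1 = ((p * n : ℕ) : ℂ) := by
    intro χ
    by_cases hχ : χ ∈ principalBlock M G
    · obtain ⟨n, hn⟩ := IsCharacter.inner_char_nat (IsIrr.isCharacter hμ) (isCharacter_restrict (P : Subgroup G) (irr_isCharacter χ))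
      by_cases h1 : p ∣ charDegree (χ : G → ℂ)
      · obtain ⟨k, hk⟩ := h1
        refine ⟨n * k, fun _ => ?_⟩
        rw [hn, IsCharacter.one_eq_charDegree (irr_isCharacter χ), hk]
        push_cast; ring
      · refine ⟨0, fun _ => ?_⟩
        rw [hcon χ hχ h1]; simp
    · exact ⟨0, fun h => absurd h hχ⟩
  choose n hn using hdvd
  -- the sum
  have hsum : (Nat.card (P : Subgroup G) : ℂ) * ∑ χ ∈ bF (principalBlock M G),
      classInner (fun y : (P : Subgroup G) => (μ y : ℂ)) (fun y : (P : Subgroup G) => (χ : G → ℂ) y) * (χ : G → ℂ) 1 =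
      ((∑ χ ∈ bF (principalBlock M G), charDegree (χ : G → ℂ) ^ 2 : ℕ) : ℂ) := by
    have h1 : ∀ χ : IrrCharacter G, (Nat.card (P : Subgroup G) : ℂ) *
        (classInner (fun y : (P : Subgroup G) => (μ y : ℂ)) (fun y : (P : Subgroup G) => (χ : G → ℂ) y) * (χ : G → ℂ) 1) =
        ∑ y : (P : Subgroup G), (μ y : ℂ) * ((χ : G → ℂ) 1 * conj ((χ : G → ℂ) y)) := by
      intro χ
      rw [classInner_def, mul_assoc, mul_inv_cancel_left₀ hP0, Finset.sum_mul]
      exact Finset.sum_congr rfl fun y _ => by ring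
    rw [Finset.mul_sum, Finset.sum_congr rfl (fun χ _ => h1 χ), Finset.sum_comm]
    simp only [← Finset.mul_sum]
    rw [Finset.sum_eq_single 1]
    · rw [map_one, Units.val_one, one_mul, OneMemClass.coe_one]
      push_cast
      refine Finset.sum_congr rfl fun χ _ => ?_
      rw [IsCharacter.one_eq_charDegree (irr_isCharacter χ), Complex.conj_natCast]; ring
    · intro y _ hy
      have hord : p ∣ orderOf (y : G) := by
        obtain ⟨k, hk⟩ := exists_orderOf_pow hM.1 P.2 y.2
        have hk0 : k ≠ 0 := by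
          rintro rfl
          rw [pow_zero, orderOf_eq_one_iff] at hk
          exact hy (Subtype.ext hk)
        rw [hk]; exact dvd_pow_self p hk0
      have h2 : blockCoeff (principalBlock M G) (y : G) = 0 := by
        by_contra h3
        exact regular_of_blockCoeff hM (blockCoeff_memLocR hB) h3 hord
      unfold blockCoeff at h2
      rw [finsum_mem_bF] at h2
      rw [(mul_eq_zero.mp h2).resolve_left (inv_ne_zero hG0), mul_zero]
    · intro h; exact absurd (Finset.mem_univ _) h
  rw [Finset.sum_congr rfl (fun χ hχ => hn χ (mem_bF.mp hχ))] at hsum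
  have h2 : Nat.card (P : Subgroup G) * (p * ∑ χ ∈ bF (principalBlock M G), n χ) =
      ∑ χ ∈ bF (principalBlock M G), charDegree (χ : G → ℂ) ^ 2 := by
    have h3 : ((Nat.card (P : Subgroup G) * (p * ∑ χ ∈ bF (principalBlock M G), n χ) : ℕ) : ℂ) =
        ((∑ χ ∈ bF (principalBlock M G), charDegree (χ : G → ℂ) ^ 2 : ℕ) : ℂ) := by
      rw [← hsum]; push_cast; rw [Finset.mul_sum]
    exact_mod_cast h3
  have h4 := sum_sq_fac hM hB
  have hmin : minExp p (principalBlock M G) = 0 := by
    have h5 := minExp_le (p := p) (oneC_mem (G := G) hM)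
    have h6 : charDegree ((oneC G : IrrCharacter G) : G → ℂ) = 1 := by
      have h7 := IsCharacter.one_eq_charDegree (irr_isCharacter (oneC G))
      rw [oneC_apply] at h7
      exact_mod_cast h7.symm
    rw [h6] at h5
    simpa using h5
  rw [hmin, add_zero, ← h2] at h4
  have hP : (Nat.card (P : Subgroup G)).factorization p = (Nat.card G).factorization p := by
    rw [P.card_eq_multiplicity, hM.1.factorization_pow, Finsupp.single_eq_same]
  have hne : p * ∑ χ ∈ bF (principalBlock M G), n χ ≠ 0 := by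
    intro h0
    rw [h0, mul_zero] at h2
    have : 0 < ∑ χ ∈ bF (principalBlock M G), charDegree (χ : G → ℂ) ^ 2 :=
      Finset.sum_pos (fun χ _ => pow_pos (charDegree_pos χ.2) 2) ⟨oneC G, mem_bF.mpr (oneC_mem hM)⟩
    omega
  rw [Nat.factorization_mul Nat.card_pos.ne' hne, Finsupp.add_apply, hP,
    Nat.factorization_mul hM.1.ne_zero (right_ne_zero_of_mul hne), Finsupp.add_apply, hM.1.factorization_self] at h4
  omega

end Cfsg.Agent.H5
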