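import Cfsg.Agent.H5.W6
import Cfsg.Agent.H5.W5
import Cfsg.Agent.H5.V7
import Cfsg.Agent.H4.ExtApp
import Cfsg.Agent.H4.Cliff4

set_option autoImplicit false
set_option linter.style.haveILetI false
set_option linter.unusedVariables false
set_option linter.unusedSectionVars false
set_option linter.unusedSimpArgs false

/-! Heights in `p`-solvable groups. -/

namespace Cfsg.Agent.H5

open Cfsg
open scoped ComplexConjugate

universe u v w

theorem center_index_equiv {A B : Type*} [Group A] [Group B] [Finite A] [Finite B] (φ : A ≃* B) :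
    (Subgroup.center A).index = (Subgroup.center B).index := by
  have h1 := Subgroup.card_mul_index (Subgroup.center A)
  have h2 := Subgroup.card_mul_index (Subgroup.center B)
  rw [Nat.card_congr φ.toEquiv, Nat.card_congr (Subgroup.centerCongr φ).toEquiv, ← h2] at h1
  exact Nat.eq_of_mul_eq_mul_left Nat.card_pos h1

variable {G : Type u} [Group G] [Fintype G] {p : ℕ} {M : Ideal AlgInt}

/-- An intermediate constituent. -/
theorem exists_between {N A : Subgroup G} [Fintype N] [Fintype A] (hNA : N ≤ A) (χ : IrrCharacter G) {θ : IrrCharacter N}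
    (h : classInner (fun n : N => (χ : G → ℂ) n) (θ : N → ℂ) ≠ 0) :
    ∃ η : IrrCharacter A, classInner (fun a : A => (χ : G → ℂ) a) (η : A → ℂ) ≠ 0 ∧
      classInner (fun n : N => (η : A → ℂ) ⟨n, hNA n.2⟩) (θ : N → ℂ) ≠ 0 := by
  by_contra hcon
  push Not at hcon
  apply h
  have h1 := classFun_expansion (IsCharacter.classFun (isCharacter_restrict A (irr_isCharacter χ)))
  have h2 : (fun n : N => (χ : G → ℂ) n) = ∑ η : IrrCharacter A,
      classInner (fun a : A => (χ : G → ℂ) a) (η : A → ℂ) • fun n : N => (η : A → ℂ) ⟨n, hNA n.2⟩ := by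
    funext n
    have h3 := congrFun h1 ⟨n, hNA n.2⟩
    simp only [Finset.sum_apply, Pi.smul_apply] at h3 ⊢
    exact h3
  rw [h2, classInner_sum_left]
  apply Finset.sum_eq_zero
  intro η _
  rw [classInner_smul_left]
  by_cases h4 : classInner (fun a : A => (χ : G → ℂ) a) (η : A → ℂ) = 0
  · rw [h4, zero_mul]
  · rw [hcon η h4, mul_zero]

theorem psolv_stable_deg [hp : Fact p.Prime] {N : Subgroup G} [hN : N.Normal] [Fintype N] (hNp : ¬ p ∣ Nat.card N)
    (hs : IsPSolvable p (G ⧸ N)) (hcore : pPrimeCore p (G ⧸ N) = ⊥) {θ : IrrCharacter N}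
    (hinv : ∀ (g : G) (n : N), (θ : N → ℂ) ⟨g * n * g⁻¹, hN.conj_mem n n.2 g⟩ = (θ : N → ℂ) n)
    {χ : IrrCharacter G} (h : classInner (fun n : N => (χ : G → ℂ) n) (θ : N → ℂ) ≠ 0)
    {P : Subgroup G} (hP : IsPGroup p P) (hidx : ¬ p ∣ P.index) :
    (charDegree (χ : G → ℂ)).factorization p ≤ ((Subgroup.center P).index).factorization p := by
  classical
  haveI : Fintype (G ⧸ N) := Fintype.ofFinite _
  obtain ⟨Q, hQ⟩ : ∃ Q : Subgroup (G ⧸ N), Q = pCore p (G ⧸ N) := ⟨_, rfl⟩
  haveI hQn : Q.Normal := by rw [hQ]; infer_instance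
  haveI hCn : (Subgroup.centralizer (Q : Set (G ⧸ N))).Normal := inferInstance
  obtain ⟨A, hA⟩ : ∃ A : Subgroup G, A = (Q ⊓ Subgroup.centralizer (Q : Set (G ⧸ N))).comap (QuotientGroup.mk' N) := ⟨_, rfl⟩
  have hmemA : ∀ g : G, g ∈ A ↔ (QuotientGroup.mk' N g ∈ Q ∧ QuotientGroup.mk' N g ∈ Subgroup.centralizer (Q : Set (G ⧸ N))) := by
    intro g; rw [hA]; exact Iff.rfl
  haveI hAn : A.Normal := by
    rw [hA]
    exact Subgroup.Normal.comap (Subgroup.normal_inf_normal _ _) _
  have hNA : N ≤ A := by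
    intro n hn
    rw [hmemA]
    have : (QuotientGroup.mk' N) n = 1 := (QuotientGroup.eq_one_iff n).mpr hn
    rw [this]
    exact ⟨Subgroup.one_mem _, Subgroup.one_mem _⟩
  have hab : ∀ x ∈ A, ∀ y ∈ A, x * y * x⁻¹ * y⁻¹ ∈ N := by
    intro x hx y hy
    rw [← QuotientGroup.eq_one_iff]
    have h1 := (hmemA x).mp hx
    have h2 := (hmemA y).mp hy
    have h3 : QuotientGroup.mk' N x * QuotientGroup.mk' N y = QuotientGroup.mk' N y * QuotientGroup.mk' N x :=
      (Subgroup.mem_centralizer_iff.mp h2.2) _ h1.1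
    show QuotientGroup.mk' N (x * y * x⁻¹ * y⁻¹) = 1
    rw [map_mul, map_mul, map_mul, h3, map_inv, map_inv]
    group
  have hpow : ∀ g ∈ A, ∃ k : ℕ, g ^ p ^ k ∈ N := by
    intro g hg
    have h1 := ((hmemA g).mp hg).1
    rw [hQ] at h1
    obtain ⟨k, hk⟩ := Cfsg.Agent.L0.pCore_isPGroup p (G ⧸ N) ⟨_, h1⟩
    refine ⟨k, ?_⟩
    have h2 := congrArg Subtype.val hk
    have h3 : (QuotientGroup.mk' N) (g ^ p ^ k) = 1 := by
      rw [map_pow]; exact h2
    exact (QuotientGroup.eq_one_iff _).mp h3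
  haveI : Fintype A := Fintype.ofFinite A
  obtain ⟨η, hη1, hη2⟩ := exists_between hNA χ h
  have hN' : (N.subgroupOf A).Normal := hN.subgroupOf A
  haveI : Fintype (N.subgroupOf A) := Fintype.ofFinite _
  have hidxA : ∃ k : ℕ, (N.subgroupOf A).index = p ^ k := by
    have h1 : IsPGroup p (A ⧸ N.subgroupOf A) := by
      intro q
      obtain ⟨a, rfl⟩ := QuotientGroup.mk'_surjective (N.subgroupOf A) q
      obtain ⟨k, hk⟩ := hpow a a.2
      refine ⟨k, ?_⟩
      rw [← map_pow]
      exact (QuotientGroup.eq_one_iff _).mpr (Subgroup.mem_subgroupOf.mpr (by simpa using hk))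
    obtain ⟨k, hk⟩ := IsPGroup.iff_card.mp h1
    exact ⟨k, hk⟩
  have hτ := Cfsg.Agent.H4.toSub_irr hNA θ.2
  have hinert : A ≤ Cfsg.Agent.H4.inertia hN (θ : N → ℂ) := by
    intro a _
    rw [Cfsg.Agent.H4.mem_inertia]
    funext n
    exact hinv a n
  have hin := Cfsg.Agent.H4.inertia_toSub_eq_top hN A hNA (θ : N → ℂ) hN' hinert
  obtain ⟨ψ, hψ, hψe⟩ := Cfsg.Agent.H4.extends_hall hN' _ hτ (by
    intro a n
    have h1 : a ∈ Cfsg.Agent.H4.inertia hN' (Cfsg.Agent.H4.toSub (θ : N → ℂ) : N.subgroupOf A → ℂ) := by rw [hin]; trivial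
    rw [Cfsg.Agent.H4.mem_inertia] at h1
    exact congrFun h1 n) (by
    obtain ⟨k, hk⟩ := hidxA
    rw [hk, Cfsg.Agent.H4.card_subgroupOf_of_le hNA]
    exact Nat.Coprime.pow_right k ((Nat.Prime.coprime_iff_not_dvd hp.1).mpr hNp).symm)
  have hψθ : classInner (fun n : N.subgroupOf A => ψ n) (Cfsg.Agent.H4.toSub (θ : N → ℂ)) ≠ 0 := by
    have h1 : (fun n : N.subgroupOf A => ψ n) = Cfsg.Agent.H4.toSub (θ : N → ℂ) := funext hψe
    rw [h1]
    have h2 := classInner_irr_self (⟨_, hτ⟩ : IrrCharacter (N.subgroupOf A))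
    change classInner (Cfsg.Agent.H4.toSub (θ : N → ℂ) : N.subgroupOf A → ℂ) _ = 1 at h2
    rw [h2]; exact one_ne_zero
  have hηθ : classInner (fun n : N.subgroupOf A => (η : A → ℂ) n) (Cfsg.Agent.H4.toSub (θ : N → ℂ)) ≠ 0 := by
    have h1 := Cfsg.Agent.H4.classInner_toSub hNA (fun n : N => (η : A → ℂ) ⟨n, hNA n.2⟩) (θ : N → ℂ)
    rw [← h1] at hη2
    exact hη2
  obtain ⟨lam, -, hlam⟩ := Cfsg.Agent.H4.mul_linear_of_abelian hN' _ hτ hin (fun x y => Subgroup.mem_subgroupOf.mpr (by
    have := hab x x.2 y y.2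
    simpa using this)) ψ (η : A → ℂ) hψ η.2 hψθ hηθ
  have hdeg1 : (η : A → ℂ) 1 = (θ : N → ℂ) 1 := by
    have h1 := congrFun hlam 1
    simp only [map_one, Units.val_one, one_mul] at h1
    have h2 := hψe 1
    have h3 : ((1 : N.subgroupOf A) : A) = 1 := rfl
    rw [h3] at h2
    rw [h1, h2]
    rfl
  obtain ⟨e, he1, he2⟩ := Cfsg.Agent.H4.ratio_dvd_index hAn (χ : G → ℂ) χ.2 (η : A → ℂ) η.2 hη1
  have hθd : ¬ p ∣ charDegree (θ : N → ℂ) := fun h' => hNp (h'.trans (charDegree_dvd_card θ.2))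
  have hdeg : charDegree (χ : G → ℂ) = e * charDegree (θ : N → ℂ) := by
    rw [hdeg1, IsCharacter.one_eq_charDegree (irr_isCharacter χ), IsCharacter.one_eq_charDegree (irr_isCharacter θ)] at he1
    exact_mod_cast he1
  have he0 : e ≠ 0 := by
    rintro rfl
    rw [zero_mul] at hdeg
    exact (charDegree_pos χ.2).ne' hdeg
  have hfac : (charDegree (χ : G → ℂ)).factorization p = e.factorization p := by
    rw [hdeg, Nat.factorization_mul he0 (charDegree_pos θ.2).ne']
    simp only [Finsupp.coe_add, Pi.add_apply]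
    rw [Nat.factorization_eq_zero_of_not_dvd hθd, add_zero]
  rw [hfac]
  have hle1 : e.factorization p ≤ A.index.factorization p :=
    (Nat.factorization_le_iff_dvd he0 A.index_ne_zero_of_finite).mpr he2 p
  refine hle1.trans ?_
  -- the center of P lies in A
  have hsyl : Q ≤ P.map (QuotientGroup.mk' N) := by
    have h1 : IsPGroup p (P.map (QuotientGroup.mk' N)) := hP.map _
    have h2 : ¬ p ∣ (P.map (QuotientGroup.mk' N)).index := by
      intro h3
      apply hidx
      exact h3.trans (Subgroup.index_map_dvd P (QuotientGroup.mk'_surjective N))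
    have h3 := Cfsg.Agent.L0.pCore_le_sylow (h1.toSylow h2)
    rw [← hQ] at h3
    exact h3
  have hcore' : Subgroup.centralizer (Q : Set (G ⧸ N)) ≤ Q := by
    rw [hQ]; exact psolv_centralizer_le hp.1 hs hcore
  have hZA : (Subgroup.center P).map P.subtype ≤ A := by
    rintro _ ⟨z, hz, rfl⟩
    rw [hmemA]
    have h1 : QuotientGroup.mk' N (P.subtype z) ∈ Subgroup.centralizer (Q : Set (G ⧸ N)) := by
      rw [Subgroup.mem_centralizer_iff]
      intro y hy
      obtain ⟨x, hx, rfl⟩ := hsyl hy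
      have h2 := (Subgroup.mem_center_iff.mp hz) ⟨x, hx⟩
      have h3 : x * (P.subtype z) = (P.subtype z) * x := congrArg Subtype.val h2
      rw [← map_mul, ← map_mul, h3]
    exact ⟨hcore' h1, h1⟩
  have hcardZ : Nat.card (Subgroup.center P) ∣ Nat.card A := by
    have h1 := Subgroup.card_dvd_of_le hZA
    rwa [Nat.card_congr ((Subgroup.center P).equivMapOfInjective P.subtype P.subtype_injective).symm.toEquiv] at h1
  have h1 : (Nat.card (Subgroup.center P)).factorization p + ((Subgroup.center P).index).factorization p = (Nat.card P).factorization p := by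
    have := Subgroup.card_mul_index (Subgroup.center P)
    rw [← this, Nat.factorization_mul Nat.card_pos.ne' (Subgroup.center P).index_ne_zero_of_finite]; rfl
  have h2 : (Nat.card P).factorization p + P.index.factorization p = (Nat.card G).factorization p := by
    have := Subgroup.card_mul_index P
    rw [← this, Nat.factorization_mul Nat.card_pos.ne' P.index_ne_zero_of_finite]; rfl
  have h3 : (Nat.card A).factorization p + A.index.factorization p = (Nat.card G).factorization p := by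
    have := Subgroup.card_mul_index A
    rw [← this, Nat.factorization_mul Nat.card_pos.ne' A.index_ne_zero_of_finite]; rfl
  have h4 : (Nat.card (Subgroup.center P)).factorization p ≤ (Nat.card A).factorization p :=
    (Nat.factorization_le_iff_dvd Nat.card_pos.ne' Nat.card_pos.ne').mpr hcardZ p
  rw [Nat.factorization_eq_zero_of_not_dvd hidx] at h2
  omega

end Cfsg.Agent.H5
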