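import Cfsg.Agent.H5.W41
import Cfsg.Agent.H5.W21
import Cfsg.Agent.S0081

set_option autoImplicit false
set_option linter.style.haveILetI false
set_option linter.unusedVariables false
set_option linter.unusedSectionVars false
set_option linter.unusedSimpArgs false

/-! Kernels of characters of `p'`-degree. -/

namespace Cfsg.Agent.H5

open Cfsg
open scoped ComplexConjugate

universe u v w

variable {G : Type u} [Group G] [Fintype G] {p : ℕ}

theorem restrict_expand {N A : Subgroup G} [Fintype N] [Fintype A] (hNA : N ≤ A) {χ : G → ℂ} (hχ : IsCharacter G χ) (θ : N → ℂ) :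
    classInner (fun n : N => χ n) θ = ∑ η : IrrCharacter A, classInner (fun a : A => χ a) (η : A → ℂ) *
      classInner (fun n : N => (η : A → ℂ) ⟨n, hNA n.2⟩) θ := by
  have h1 := classFun_expansion (IsCharacter.classFun (isCharacter_restrict A hχ))
  have h2 : (fun n : N => χ n) = ∑ η : IrrCharacter A,
      classInner (fun a : A => χ a) (η : A → ℂ) • fun n : N => (η : A → ℂ) ⟨n, hNA n.2⟩ := by
    funext n
    have h3 := congrFun h1 ⟨n, hNA n.2⟩
    simp only [Finset.sum_apply, Pi.smul_apply] at h3 ⊢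
    exact h3
  conv_lhs => rw [h2, classInner_sum_left]
  refine Finset.sum_congr rfl fun η _ => ?_
  rw [classInner_smul_left]

theorem isCharacter_res {N A : Subgroup G} (hNA : N ≤ A) {η : A → ℂ} (hη : IsCharacter A η) :
    IsCharacter N (fun n : N => η ⟨n, hNA n.2⟩) := isCharacter_comp (Subgroup.inclusion hNA) hη

theorem inner_trans {N A : Subgroup G} [Fintype N] [Fintype A] (hNA : N ≤ A) {χ : G → ℂ} (hχ : IsCharacter G χ)
    {η : IrrCharacter A} {θ : IrrCharacter N} (h1 : classInner (fun a : A => χ a) (η : A → ℂ) ≠ 0)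
    (h2 : classInner (fun n : N => (η : A → ℂ) ⟨n, hNA n.2⟩) (θ : N → ℂ) ≠ 0) :
    classInner (fun n : N => χ n) (θ : N → ℂ) ≠ 0 := by
  classical
  rw [restrict_expand hNA hχ (θ : N → ℂ)]
  have h3 : ∀ ξ : IrrCharacter A, ∃ n : ℕ, classInner (fun a : A => χ a) (ξ : A → ℂ) *
      classInner (fun n : N => (ξ : A → ℂ) ⟨n, hNA n.2⟩) (θ : N → ℂ) = (n : ℂ) := by
    intro ξ
    obtain ⟨a, ha⟩ := IsCharacter.inner_nat (isCharacter_restrict A hχ) ξ
    obtain ⟨b, hb⟩ := IsCharacter.inner_nat (isCharacter_res hNA (irr_isCharacter ξ)) θ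
    exact ⟨a * b, by rw [ha, hb]; push_cast; ring⟩
  choose n hn using h3
  rw [Finset.sum_congr rfl (fun ξ _ => hn ξ)]
  have h4 : n η ≠ 0 := by
    intro h5
    have h6 := hn η
    rw [h5, Nat.cast_zero] at h6
    rcases mul_eq_zero.mp h6 with h | h
    · exact h1 h
    · exact h2 h
  have h5 : n η ≤ ∑ ξ : IrrCharacter A, n ξ := Finset.single_le_sum (f := n) (fun _ _ => Nat.zero_le _) (Finset.mem_univ η)
  have h6 : (∑ ξ : IrrCharacter A, n ξ) ≠ 0 := by omega
  exact_mod_cast h6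

theorem ker_sub {N A : Subgroup G} [Fintype N] [Fintype A] (hNA : N ≤ A) {χ : G → ℂ} (hχ : IsCharacter G χ)
    (hk : ∀ n ∈ N, χ n = χ 1)
    {η : IrrCharacter A} (h1 : classInner (fun a : A => χ a) (η : A → ℂ) ≠ 0) (n : G) (hn : n ∈ N) :
    (η : A → ℂ) ⟨n, hNA hn⟩ = (η : A → ℂ) 1 := by
  classical
  have h2 : (fun n : N => χ n) = (χ 1) • (fun _ : N => (1 : ℂ)) := by
    funext n
    simp only [Pi.smul_apply, smul_eq_mul, mul_one]
    exact hk n n.2
  have h3 : ∀ ζ : IrrCharacter N, classInner (fun n : N => (η : A → ℂ) ⟨n, hNA n.2⟩) (ζ : N → ℂ) ≠ 0 →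
      (ζ : N → ℂ) = fun _ => 1 := by
    intro ζ hζ
    have h4 := inner_trans hNA hχ h1 hζ
    rw [h2, classInner_smul_left] at h4
    by_contra hne
    apply h4
    have h5 : (⟨_, isIrrCharacter_trivial⟩ : IrrCharacter N) ≠ ζ := by
      intro h6
      exact hne (congrArg Subtype.val h6).symm
    have h6 := classInner_irr_ne h5
    change classInner (fun _ : N => (1 : ℂ)) (ζ : N → ℂ) = 0 at h6
    rw [h6, mul_zero]
  have h4 := classFun_expansion (IsCharacter.classFun (isCharacter_res hNA (irr_isCharacter η)))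
  have h5 : ∀ m : N, (η : A → ℂ) ⟨m, hNA m.2⟩ = ∑ ζ : IrrCharacter N,
      classInner (fun n : N => (η : A → ℂ) ⟨n, hNA n.2⟩) (ζ : N → ℂ) := by
    intro m
    have h6 := congrFun h4 m
    simp only [Finset.sum_apply, Pi.smul_apply, smul_eq_mul] at h6
    rw [h6]
    refine Finset.sum_congr rfl fun ζ _ => ?_
    by_cases h7 : classInner (fun n : N => (η : A → ℂ) ⟨n, hNA n.2⟩) (ζ : N → ℂ) = 0
    · rw [h7, zero_mul]
    · rw [h3 ζ h7, mul_one]
  have h6 := h5 ⟨n, hn⟩
  have h7 := h5 1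
  simp only at h6
  rw [h6, ← h7]
  rfl

theorem exists_pprime_over {A : Subgroup G} [Fintype A] (hA : ¬ p ∣ A.index) (hp : p.Prime) {η : IrrCharacter A} (hη : ¬ p ∣ charDegree (η : A → ℂ)) :
    ∃ χ : IrrCharacter G, ¬ p ∣ charDegree (χ : G → ℂ) ∧ classInner (fun a : A => (χ : G → ℂ) a) (η : A → ℂ) ≠ 0 := by
  classical
  by_contra hcon
  push Not at hcon
  have hind := isCharacter_indFun A (irr_isCharacter η)
  have hdvd : ∀ χ : IrrCharacter G, ∃ n : ℕ, classInner (indFun A (η : A → ℂ)) (χ : G → ℂ) * (χ : G → ℂ) 1 = ((p * n : ℕ) : ℂ) := by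
    intro χ
    obtain ⟨n, hn⟩ := IsCharacter.inner_nat hind χ
    by_cases h1 : p ∣ charDegree (χ : G → ℂ)
    · obtain ⟨k, hk⟩ := h1
      refine ⟨n * k, ?_⟩
      rw [hn, IsCharacter.one_eq_charDegree (irr_isCharacter χ), hk]
      push_cast; ring
    · refine ⟨0, ?_⟩
      have h2 : classInner (indFun A (η : A → ℂ)) (χ : G → ℂ) = 0 := by
        rw [frobenius_reciprocity _ _ (irr_classFun χ), ← classInner_conj_symm]
        rw [hcon χ h1, map_zero]
      rw [h2]; simp
  choose n hn using hdvd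
  have h1 := classFun_expansion_apply (IsCharacter.classFun hind) 1
  rw [indFun_one, Finset.sum_congr rfl (fun χ _ => hn χ)] at h1
  have h2 : A.index * charDegree (η : A → ℂ) = p * ∑ χ : IrrCharacter G, n χ := by
    have h3 : ((A.index * charDegree (η : A → ℂ) : ℕ) : ℂ) = ((p * ∑ χ : IrrCharacter G, n χ : ℕ) : ℂ) := by
      rw [IsCharacter.one_eq_charDegree (irr_isCharacter η)] at h1
      push_cast
      rw [h1]; push_cast; rw [Finset.mul_sum]
    exact_mod_cast h3
  have h3 : p ∣ A.index * charDegree (η : A → ℂ) := ⟨_, h2⟩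
  rcases hp.dvd_mul.mp h3 with h | h
  · exact hA h
  · exact hη h

theorem ker_of_inner {Y : Subgroup G} [hY : Y.Normal] [Fintype Y] (χ : IrrCharacter G)
    (h : classInner (fun y : Y => (χ : G → ℂ) y) (fun _ : Y => (1 : ℂ)) ≠ 0) (y : G) (hy : y ∈ Y) :
    (χ : G → ℂ) y = (χ : G → ℂ) 1 := by
  have h1 := H4.restrict_of_invariant hY (χ : G → ℂ) χ.2 (fun _ : Y => (1 : ℂ)) isIrrCharacter_trivial h (by
    rw [eq_top_iff]
    intro g _
    rw [H4.mem_inertia]
    rfl)
  have h2 := congrFun h1 ⟨y, hy⟩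
  have h3 := congrFun h1 1
  simp only [Pi.smul_apply, smul_eq_mul, mul_one] at h2 h3
  rw [h2, ← h3]
  rfl

end Cfsg.Agent.H5
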