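import Cfsg.Agent.H5.W43
import Cfsg.Agent.H5.Prin3

set_option autoImplicit false
set_option linter.style.haveILetI false
set_option linter.unusedVariables false
set_option linter.unusedSectionVars false
set_option linter.unusedSimpArgs false

/-! Kernels of characters of `p'`-degree, part two. -/

namespace Cfsg.Agent.H5

open Cfsg
open scoped ComplexConjugate

universe u v w

variable {G : Type u} [Group G] [Fintype G] {p : ℕ} {M : Ideal AlgInt}

/-- An irreducible character constant on the group is trivial. -/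
theorem eq_oneC_of_const {X : Type u} [Group X] [Finite X] {θ : IrrCharacter X} (h : ∀ n, (θ : X → ℂ) n = (θ : X → ℂ) 1) :
    θ = oneC X := by
  classical
  have := Fintype.ofFinite X
  have h1 : classInner (θ : X → ℂ) (oneC X : X → ℂ) = (θ : X → ℂ) 1 := by
    rw [classInner_def]
    rw [Finset.sum_congr rfl (g := fun _ => (θ : X → ℂ) 1) (fun g _ => by
      rw [h g, oneC_apply, map_one, mul_one])]
    rw [Finset.sum_const, Finset.card_univ, nsmul_eq_mul, ← Nat.card_eq_fintype_card, ← mul_assoc, inv_mul_cancel₀, one_mul]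
    exact_mod_cast Nat.card_pos.ne'
  by_contra hne
  rw [classInner_irr_ne (fun e => hne e)] at h1
  exact IsIrr.one_ne_zero θ.2 h1.symm

theorem inf_cent_bot (hM : IsPModular p M) {X : Subgroup G} [hX : X.Normal] {P : Subgroup G} (hP : IsPGroup p P)
    (h : ∀ θ : IrrCharacter X, (∀ g ∈ P, ∀ n : X, (θ : X → ℂ) (H4.conjAut hX g n) = (θ : X → ℂ) n) →
      ∀ n, (θ : X → ℂ) n = (θ : X → ℂ) 1) : X ⊓ Subgroup.centralizer (P : Set G) = ⊥ := by
  classical
  have hprime := isPrime_of_isPModular hM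
  have : Fact p.Prime := ⟨hM.1⟩
  rw [eq_bot_iff]
  intro c hc
  obtain ⟨hcX, hcP⟩ := hc
  rw [Subgroup.mem_bot]
  by_contra hc1
  have hfin := Fintype.ofFinite (IrrCharacter X)
  let act : MulAction P (IrrCharacter X) :=
    { smul := fun x θ => ⟨H4.conjBy hX (x : G)⁻¹ (θ : X → ℂ), H4.conjBy_irr hX _ θ.2⟩
      one_smul := fun θ => by
        apply Subtype.ext
        show H4.conjBy hX ((1 : P) : G)⁻¹ (θ : X → ℂ) = θ
        rw [Subgroup.coe_one, inv_one, H4.conjBy_one]
      mul_smul := fun x y θ => by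
        apply Subtype.ext
        show H4.conjBy hX ((x * y : P) : G)⁻¹ (θ : X → ℂ) = H4.conjBy hX (x : G)⁻¹ (H4.conjBy hX (y : G)⁻¹ (θ : X → ℂ))
        rw [← H4.conjBy_mul, Subgroup.coe_mul, mul_inv_rev] }
  have hsm : ∀ (x : P) (θ : IrrCharacter X) (n : X), ((x • θ : IrrCharacter X) : X → ℂ) n = (θ : X → ℂ) (H4.conjAut hX (x : G)⁻¹ n) :=
    fun _ _ _ => rfl
  obtain ⟨f, hf⟩ : ∃ f : IrrCharacter X → ℂ, f = fun (θ : IrrCharacter X) => (θ : X → ℂ) 1 * (θ : X → ℂ) ⟨c, hcX⟩ := ⟨_, rfl⟩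
  have h0 : ∑ θ : IrrCharacter X, f θ = 0 := by
    have h1 := sum_irr_one_mul (⟨c, hcX⟩ : X)
    rw [if_neg (fun e => hc1 (congrArg Subtype.val e))] at h1
    rw [hf]
    convert h1
  have h2 := @sum_congr_fixedPoints p M hM P _ _ hP (IrrCharacter X) act _ f
    (by
      intro x θ
      rw [hf]
      simp only [hsm]
      have h3 := (Subgroup.mem_centralizer_iff.mp hcP) (x : G) x.2
      have h4 : H4.conjAut hX (x : G)⁻¹ (⟨c, hcX⟩ : X) = ⟨c, hcX⟩ := by
        apply Subtype.ext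
        show (x : G)⁻¹ * c * (x : G)⁻¹⁻¹ = c
        rw [inv_inv, mul_assoc, ← h3, inv_mul_cancel_left]
      rw [map_one, h4])
    (by
      intro θ
      rw [hf]
      exact memLocR_mul (memLocR_char (irr_isCharacter θ) 1) (memLocR_char (irr_isCharacter θ) _)) (fun _ => Classical.propDecidable _)
  have h3 : (∑ θ : IrrCharacter X, @ite _ (θ ∈ @MulAction.fixedPoints P (IrrCharacter X) _ act) (Classical.propDecidable _) (f θ) 0) = 1 := by
    rw [Finset.sum_eq_single (oneC X)]
    · rw [if_pos, hf]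
      · show (oneC X : X → ℂ) 1 * (oneC X : X → ℂ) _ = 1
        rw [oneC_apply, oneC_apply, mul_one]
      · intro x
        apply Subtype.ext
        funext n
        rw [hsm, oneC_apply, oneC_apply]
    · intro θ _ hne
      rw [if_neg]
      intro hfx
      apply hne
      apply eq_oneC_of_const
      apply h
      intro g hg n
      have h4 := congrArg (fun ψ : IrrCharacter X => (ψ : X → ℂ) n) (hfx (⟨g, hg⟩ : P)⁻¹)
      simp only [hsm] at h4
      rw [← h4]
      congr 2
      simp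
    · intro hn
      exact absurd (Finset.mem_univ _) hn
  rw [h0, h3] at h2
  have h5 : MemLocalIdeal M (((-1 : ℤ) : ℂ)) := by
    have e : (((-1 : ℤ) : ℂ)) = 0 - 1 := by push_cast; ring
    rw [e]; exact h2
  rw [memLocI_intCast_iff hM] at h5
  have h6 : (p : ℤ) ∣ 1 := by simpa using h5
  exact hM.1.one_lt.ne' (by exact_mod_cast Int.eq_one_of_dvd_one (by positivity) h6)

theorem pdeg_inf_le [hp : Fact p.Prime] (P : Sylow p G) {K : Subgroup G}
    (hK : ∀ x ∈ K, ∀ χ : IrrCharacter G, ¬ p ∣ charDegree (χ : G → ℂ) → (χ : G → ℂ) x = (χ : G → ℂ) 1) :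
    K ⊓ (P : Subgroup G) ≤ ⁅(P : Subgroup G), (P : Subgroup G)⁆ := by
  classical
  have := Fintype.ofFinite (P : Subgroup G)
  have := Fintype.ofFinite (K ⊓ (P : Subgroup G) : Subgroup G)
  intro x hx
  have hxP : x ∈ (P : Subgroup G) := hx.2
  have h1 : (⟨x, hxP⟩ : (P : Subgroup G)) ∈ commutator (P : Subgroup G) := by
    apply mem_commutator_of_hom
    intro μ
    obtain ⟨η, hη⟩ : ∃ η : IrrCharacter (P : Subgroup G), (η : ↥(P : Subgroup G) → ℂ) = fun y => (μ y : ℂ) := ⟨⟨_, H4.isIrr_hom μ⟩, rfl⟩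
    have hη1 : charDegree (η : ↥(P : Subgroup G) → ℂ) = 1 := by
      have h2 := IsCharacter.one_eq_charDegree (irr_isCharacter η)
      have h4 : (η : ↥(P : Subgroup G) → ℂ) 1 = 1 := by
        rw [hη]
        show ((μ 1 : ℂˣ) : ℂ) = 1
        rw [map_one, Units.val_one]
      rw [h4] at h2
      exact_mod_cast h2.symm
    obtain ⟨χ, hχp, hχ⟩ := exists_pprime_over (A := (P : Subgroup G)) (Sylow.not_dvd_index P) hp.out (η := η)
      (by rw [hη1]; exact fun h => hp.out.one_lt.ne' (Nat.dvd_one.mp h))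
    have h3 := ker_sub (N := K ⊓ (P : Subgroup G)) inf_le_right (irr_isCharacter χ) (fun n hn => hK n hn.1 χ hχp) hχ x hx
    rw [hη] at h3
    have h5 : ((μ ⟨x, hxP⟩ : ℂˣ) : ℂ) = ((μ 1 : ℂˣ) : ℂ) := h3
    rw [map_one] at h5
    exact Units.ext h5
  rw [← Subgroup.map_subtype_commutator]
  exact ⟨_, h1, rfl⟩

theorem pdeg_theta (hM : IsPModular p M) [hp : Fact p.Prime] (P : Sylow p G) {X : Subgroup G} [hX : X.Normal]
    (hXp : ¬ p ∣ Nat.card X)
    (hK : ∀ x ∈ X, ∀ χ : IrrCharacter G, ¬ p ∣ charDegree (χ : G → ℂ) → (χ : G → ℂ) x = (χ : G → ℂ) 1)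
    (θ : IrrCharacter X) (hθ : ∀ g ∈ (P : Subgroup G), ∀ n : X, (θ : X → ℂ) (H4.conjAut hX g n) = (θ : X → ℂ) n) (n : X) :
    (θ : X → ℂ) n = (θ : X → ℂ) 1 := by
  classical
  obtain ⟨A, hA⟩ : ∃ A : Subgroup G, A = X ⊔ (P : Subgroup G) := ⟨_, rfl⟩
  have hXA : X ≤ A := by rw [hA]; exact le_sup_left
  have hPA : (P : Subgroup G) ≤ A := by rw [hA]; exact le_sup_right
  have := Fintype.ofFinite A
  have := Fintype.ofFinite X
  have hinA : A ≤ H4.inertia hX (θ : X → ℂ) := by
    rw [hA]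
    apply sup_le
    · intro x hx
      exact H4.conjBy_coe_mem hX ⟨x, hx⟩ (irr_classFun θ)
    · intro g hg
      rw [H4.mem_inertia]
      funext m
      exact hθ g hg m
  have hXA' : (X.subgroupOf A).Normal := Subgroup.Normal.subgroupOf hX A
  have hidx : ¬ p ∣ A.index := fun h => Sylow.not_dvd_index P (h.trans (Subgroup.index_dvd_of_le hPA))
  have hinv2 : ∀ (g : A) (m : X.subgroupOf A), (H4.toSub (θ : X → ℂ) : X.subgroupOf A → ℂ) (H4.conjAut hXA' g m) = H4.toSub (θ : X → ℂ) m := by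
    intro g m
    have h1 : g ∈ H4.inertia hXA' (H4.toSub (θ : X → ℂ) : X.subgroupOf A → ℂ) := by
      rw [H4.inertia_toSub_eq_top hX A hXA _ hXA' hinA]; trivial
    exact congrFun ((H4.mem_inertia hXA' _ g).mp h1) m
  have hcop : Nat.Coprime (Nat.card (X.subgroupOf A)) (X.subgroupOf A).index := by
    rw [H4.card_subgroupOf_of_le hXA]
    have h1 : (X.subgroupOf A).index ∣ Nat.card (P : Subgroup G) := by
      show X.relIndex A ∣ _
      rw [hA, Subgroup.relIndex_sup_left]
      exact Subgroup.relIndex_dvd_card X _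
    obtain ⟨k, hk⟩ := (P.2).exists_card_eq
    rw [hk] at h1
    exact Nat.Coprime.coprime_dvd_right h1 (Nat.Coprime.pow_right _ ((hp.out.coprime_iff_not_dvd).mpr hXp).symm)
  obtain ⟨χ', hχ', hχN⟩ := H4.extends_hall hXA' _ (H4.toSub_irr hXA θ.2) hinv2 hcop
  obtain ⟨η, hη⟩ : ∃ η : IrrCharacter A, (η : A → ℂ) = χ' := ⟨⟨χ', hχ'⟩, rfl⟩
  have hval : ∀ m : X, (η : A → ℂ) ⟨m, hXA m.2⟩ = (θ : X → ℂ) m := by
    intro m
    rw [hη]
    exact hχN ⟨⟨m, hXA m.2⟩, Subgroup.mem_subgroupOf.mpr m.2⟩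
  have hdeg : ¬ p ∣ charDegree (η : A → ℂ) := by
    have h1 := hval 1
    have h2 : (η : A → ℂ) 1 = (θ : X → ℂ) 1 := h1
    rw [IsCharacter.one_eq_charDegree (irr_isCharacter η), IsCharacter.one_eq_charDegree (irr_isCharacter θ)] at h2
    have h3 : charDegree (η : A → ℂ) = charDegree (θ : X → ℂ) := by exact_mod_cast h2
    rw [h3]
    intro h
    exact hXp (h.trans (H4.IsIrr.degree_dvd θ.2))
  obtain ⟨χ, hχp, hχ⟩ := exists_pprime_over hidx hp.out hdeg
  have h4 := ker_sub hXA (irr_isCharacter χ) (fun m hm => hK m hm χ hχp) hχ n n.2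
  rw [hval] at h4
  have h5 := hval 1
  have h6 : (η : A → ℂ) 1 = (θ : X → ℂ) 1 := h5
  rw [h4, h6]

theorem pdeg_struct (hM : IsPModular p M) [hp : Fact p.Prime] (P : Sylow p G) {K : Subgroup G} [hKn : K.Normal]
    (hK : ∀ x ∈ K, ∀ χ : IrrCharacter G, ¬ p ∣ charDegree (χ : G → ℂ) → (χ : G → ℂ) x = (χ : G → ℂ) 1) :
    ∃ X : Subgroup G, X.Normal ∧ X ⊓ Subgroup.centralizer ((P : Subgroup G) : Set G) = ⊥ ∧
      K ≤ X ⊔ ⁅(P : Subgroup G), (P : Subgroup G)⁆ := by
  classical
  have h1 := pdeg_inf_le P hK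
  have h2 := S0081.result P K (h1.trans (L0.Fus.comm_le_frattini P.2))
  obtain ⟨Q, C, hC, hcompl⟩ := h2
  obtain ⟨X, hX⟩ : ∃ X : Subgroup G, X = (pPrimeCore p K).map K.subtype := ⟨_, rfl⟩
  have hXn : X.Normal := by rw [hX]; infer_instance
  have hXc : Nat.card X = Nat.card (pPrimeCore p K) := by
    rw [hX]
    exact (Nat.card_congr (Subgroup.equivMapOfInjective _ _ (Subgroup.subtype_injective K)).toEquiv).symm
  have hXp : ¬ p ∣ Nat.card X := by rw [hXc]; exact L0.not_dvd_card_pPrimeCore p K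
  have hXK : X ≤ K := by rw [hX]; exact Subgroup.map_subtype_le _
  have hCc : (Nat.card C).Coprime p := by
    have h3 := hcompl.card_mul
    have h4 : C.index = Nat.card Q := by
      have h5 := C.card_mul_index
      rw [← h3] at h5
      exact Nat.eq_of_mul_eq_mul_left Nat.card_pos h5
    have h6 : (Q : Subgroup K).index = Nat.card C := by
      have h5 := (Q : Subgroup K).card_mul_index
      rw [← h3, mul_comm (Nat.card C)] at h5
      exact Nat.eq_of_mul_eq_mul_left Nat.card_pos h5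
    rw [← h6, Nat.coprime_comm, hp.out.coprime_iff_not_dvd]
    exact Sylow.not_dvd_index Q
  have hCX : C ≤ pPrimeCore p K := L0.le_pPrimeCore hCc
  have hCidx : ∃ k, C.index = p ^ k := by
    have h3 := hcompl.card_mul
    have h4 : C.index = Nat.card Q := by
      have h5 := C.card_mul_index
      rw [← h3] at h5
      exact Nat.eq_of_mul_eq_mul_left Nat.card_pos h5
    obtain ⟨k, hk⟩ := (Q.2).exists_card_eq
    exact ⟨k, by rw [h4]; exact hk⟩
  refine ⟨X, hXn, ?_, ?_⟩
  · apply inf_cent_bot hM P.2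
    intro θ hθ n
    exact pdeg_theta hM P hXp (fun x hx => hK x (hXK hx)) θ hθ n
  · -- K = X ⊔ (K ⊓ P)
    have hsub : X ⊔ (K ⊓ (P : Subgroup G)) ≤ K := sup_le hXK inf_le_left
    have hr1 : (X ⊔ (K ⊓ (P : Subgroup G))).relIndex K ∣ X.relIndex K := Subgroup.relIndex_dvd_of_le_left K le_sup_left
    have hr2 : (X ⊔ (K ⊓ (P : Subgroup G))).relIndex K ∣ (K ⊓ (P : Subgroup G)).relIndex K := Subgroup.relIndex_dvd_of_le_left K le_sup_right
    obtain ⟨k, hk⟩ := hCidx
    have hr3 : X.relIndex K ∣ p ^ k := by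
      have e : X.subgroupOf K = pPrimeCore p K := by
        rw [hX]
        exact Subgroup.comap_map_eq_self_of_injective (Subgroup.subtype_injective K) _
      show (X.subgroupOf K).index ∣ _
      rw [e, ← hk]
      exact Subgroup.index_dvd_of_le hCX
    have hr4 : ¬ p ∣ (K ⊓ (P : Subgroup G)).relIndex K := by
      have e1 : K.relIndex (K ⊔ (P : Subgroup G)) = K.relIndex (P : Subgroup G) := Subgroup.relIndex_sup_left ..
      have e2 := Subgroup.relIndex_mul_relIndex ⊥ K (K ⊔ (P : Subgroup G)) bot_le le_sup_left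
      have e3 := Subgroup.relIndex_mul_relIndex ⊥ (K ⊓ (P : Subgroup G)) (P : Subgroup G) bot_le inf_le_right
      have e4 := Subgroup.relIndex_mul_relIndex ⊥ (P : Subgroup G) (K ⊔ (P : Subgroup G)) bot_le le_sup_right
      have e5 := Subgroup.relIndex_mul_relIndex ⊥ (K ⊓ (P : Subgroup G)) K bot_le inf_le_left
      have e6 : (P : Subgroup G).relIndex (K ⊔ (P : Subgroup G)) * (K ⊔ (P : Subgroup G)).index = (P : Subgroup G).index :=
        Subgroup.relIndex_mul_index le_sup_right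
      have e7 : (K ⊓ (P : Subgroup G)).relIndex (P : Subgroup G) = K.relIndex (P : Subgroup G) := Subgroup.inf_relIndex_right ..
      simp only [Subgroup.relIndex_bot_left] at e2 e3 e4 e5
      rw [e7] at e3
      rw [e1] at e2
      intro h
      apply Sylow.not_dvd_index P
      rw [← e6]
      apply Dvd.dvd.mul_right
      have h8 : (K ⊓ (P : Subgroup G)).relIndex K = (P : Subgroup G).relIndex (K ⊔ (P : Subgroup G)) := by
        have hc0 : 0 < Nat.card (K ⊓ (P : Subgroup G) : Subgroup G) := Nat.card_pos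
        have hr0 : 0 < K.relIndex (P : Subgroup G) := by
          rcases Nat.eq_zero_or_pos (K.relIndex (P : Subgroup G)) with h0 | h0
          · rw [h0, mul_zero] at e3
            exact absurd e3.symm Nat.card_pos.ne'
          · exact h0
        apply Nat.eq_of_mul_eq_mul_left (Nat.mul_pos hc0 hr0)
        calc Nat.card (K ⊓ (P : Subgroup G) : Subgroup G) * K.relIndex (P : Subgroup G) * (K ⊓ (P : Subgroup G)).relIndex K
            = (Nat.card (K ⊓ (P : Subgroup G) : Subgroup G) * (K ⊓ (P : Subgroup G)).relIndex K) * K.relIndex (P : Subgroup G) := by ring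
          _ = Nat.card K * K.relIndex (P : Subgroup G) := by rw [e5]
          _ = Nat.card (P : Subgroup G) * (P : Subgroup G).relIndex (K ⊔ (P : Subgroup G)) := by rw [e2, e4]
          _ = _ := by rw [e3]
      rw [← h8]; exact h
    have hr5 : (X ⊔ (K ⊓ (P : Subgroup G))).relIndex K = 1 := by
      obtain ⟨j, _, hj⟩ := (Nat.dvd_prime_pow hp.out).mp (hr1.trans hr3)
      rcases Nat.eq_zero_or_pos j with h0 | h0
      · rw [hj, h0, pow_zero]
      · exfalso
        apply hr4
        refine dvd_trans ?_ hr2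
        rw [hj]
        exact dvd_pow_self p h0.ne'
    rw [Subgroup.relIndex_eq_one] at hr5
    exact hr5.trans (sup_le_sup_left h1 X)

/-- The other inclusion. -/
theorem pdeg_core (hM : IsPModular p M) [hp : Fact p.Prime] (P : Sylow p G) {N : Subgroup G} [hN : N.Normal]
    (hNC : N ⊓ Subgroup.centralizer ((P : Subgroup G) : Set G) = ⊥) {Y : Subgroup G} [hY : Y.Normal]
    (hNY : N ≤ Y) (hYN : Y ≤ N ⊔ ⁅(P : Subgroup G), (P : Subgroup G)⁆) {χ : IrrCharacter G}
    (hχ : ¬ p ∣ charDegree (χ : G → ℂ)) {y : G} (hy : y ∈ Y) : (χ : G → ℂ) y = (χ : G → ℂ) 1 := by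
  classical
  have hprime := isPrime_of_isPModular hM
  obtain ⟨S, hS⟩ : ∃ S : Subgroup G, S = (P : Subgroup G) := ⟨_, rfl⟩
  have hSp : IsPGroup p S := by rw [hS]; exact P.2
  rw [← hS] at hNC hYN
  have hmem1 : ∀ g : G, g ∈ Subgroup.centralizer (S : Set G) → g ∈ N → g = 1 := by
    intro g h1 h2
    have h3 : g ∈ N ⊓ Subgroup.centralizer (S : Set G) := ⟨h2, h1⟩
    rw [hNC] at h3
    exact Subgroup.mem_bot.mp h3
  -- N is a p'-group and the restriction of χ contains the trivial character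
  have key : ∀ ψ : G → ℂ, (∀ x g : G, ψ (x * g * x⁻¹) = ψ g) → (∀ g, MemLocalRing M (ψ g)) →
      MemLocalIdeal M (∑ g : G, sInd (N : Set G) g * ψ g - ψ 1) := by
    intro ψ h1 h2
    have hs : ∀ x g : G, sInd (N : Set G) (x * g * x⁻¹) = sInd (N : Set G) g := by
      intro x g
      by_cases hg : g ∈ N
      · rw [sInd_mem (show g ∈ (N : Set G) from hg), sInd_mem (show x * g * x⁻¹ ∈ (N : Set G) from hN.conj_mem g hg x)]
      · rw [sInd_not_mem (show g ∉ (N : Set G) from hg), sInd_not_mem]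
        intro h'
        apply hg
        have := hN.conj_mem _ h' x⁻¹
        have e : x⁻¹ * (x * g * x⁻¹) * x⁻¹⁻¹ = g := by group
        rwa [e] at this
    have h3 := sum_congr_centralizer hM hSp (fun g => sInd (N : Set G) g * ψ g)
      (fun x _ g => by simp only [hs, h1]) (fun g => by
        by_cases hg : g ∈ N
        · simp only [sInd_mem (show g ∈ (N : Set G) from hg), one_mul]; exact h2 g
        · simp only [sInd_not_mem (show g ∉ (N : Set G) from hg), zero_mul]; exact memLocR_zero)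
    have h4 : (∑ g : G, if g ∈ Subgroup.centralizer (S : Set G) then sInd (N : Set G) g * ψ g else 0) = ψ 1 := by
      rw [Finset.sum_eq_single 1]
      · rw [if_pos (Subgroup.one_mem _), sInd_mem (show (1 : G) ∈ (N : Set G) from N.one_mem), one_mul]
      · intro g _ hg
        by_cases h5 : g ∈ Subgroup.centralizer (S : Set G)
        · rw [if_pos h5, sInd_not_mem, zero_mul]
          intro h6
          exact hg (hmem1 g h5 h6)
        · rw [if_neg h5]
      · intro h; exact absurd (Finset.mem_univ _) h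
    rw [h4] at h3
    exact h3
  have hNp : ¬ p ∣ Nat.card N := by
    have h1 := key (fun _ => 1) (fun _ _ => rfl) (fun _ => memLocR_one)
    have h2 : ∑ g : G, sInd (N : Set G) g * (1 : ℂ) = ((Nat.card N : ℤ) : ℂ) := by
      have := Fintype.ofFinite N
      rw [sum_sInd (fun _ => (1 : ℂ))]
      rw [Finset.sum_const, Finset.card_univ, nsmul_eq_mul, mul_one, ← Nat.card_eq_fintype_card]
      push_cast
      rfl
    rw [h2] at h1
    have h3 : MemLocalIdeal M ((((Nat.card N : ℤ) - 1 : ℤ)) : ℂ) := by push_cast; push_cast at h1; exact h1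
    rw [memLocI_intCast_iff hM] at h3
    intro h4
    have h5 : (p : ℤ) ∣ (Nat.card N : ℤ) := by exact_mod_cast h4
    have h6 : (p : ℤ) ∣ 1 := by
      have := dvd_sub h5 h3
      rwa [sub_sub_cancel] at this
    exact hM.1.one_lt.ne' (by exact_mod_cast Int.eq_one_of_dvd_one (by positivity) h6)
  have hχ1 : ∀ n ∈ N, ∀ g : G, (χ : G → ℂ) (n * g) = (χ : G → ℂ) g := by
    intro n hn g
    apply ker_of_sum_ne_zero χ _ n hn g
    intro h0
    have h1 := key (χ : G → ℂ) (fun x g => irr_classFun χ g x) (fun g => memLocR_char (irr_isCharacter χ) g)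
    rw [h0, zero_sub, IsCharacter.one_eq_charDegree (irr_isCharacter χ)] at h1
    have h2 : MemLocalIdeal M (((-(charDegree (χ : G → ℂ) : ℤ) : ℤ)) : ℂ) := by push_cast; exact h1
    rw [memLocI_intCast_iff hM, dvd_neg] at h2
    exact hχ (by exact_mod_cast h2)
  -- linear constituent of the restriction to S
  have hfS := Fintype.ofFinite S
  obtain ⟨η, hη1, hη⟩ : ∃ η : IrrCharacter S, (η : S → ℂ) 1 = 1 ∧ classInner (fun s : S => (χ : G → ℂ) s) (η : S → ℂ) ≠ 0 := by
    by_contra hcon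
    push Not at hcon
    have hres := isCharacter_restrict S (irr_isCharacter χ)
    have h1 := classFun_expansion_apply (IsCharacter.classFun hres) (1 : S)
    have h2 : ∀ η : IrrCharacter S, ∃ n : ℕ, classInner (fun s : S => (χ : G → ℂ) s) (η : S → ℂ) * (η : S → ℂ) 1 = ((p * n : ℕ) : ℂ) := by
      intro η
      obtain ⟨n, hn⟩ := IsCharacter.inner_nat hres η
      by_cases h3 : (η : S → ℂ) 1 = 1
      · refine ⟨0, ?_⟩
        rw [hcon η h3]; simp
      · have h4 : charDegree (η : S → ℂ) ∣ Nat.card S := H4.IsIrr.degree_dvd η.2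
        obtain ⟨k, hk⟩ := hSp.exists_card_eq
        rw [hk] at h4
        obtain ⟨j, _, hj⟩ := (Nat.dvd_prime_pow hp.out).mp h4
        rcases Nat.eq_zero_or_pos j with h0 | h0
        · exfalso
          apply h3
          rw [IsCharacter.one_eq_charDegree (irr_isCharacter η), hj, h0, pow_zero, Nat.cast_one]
        · obtain ⟨i, rfl⟩ : ∃ i, j = i + 1 := ⟨j - 1, by omega⟩
          refine ⟨n * p ^ i, ?_⟩
          rw [IsCharacter.one_eq_charDegree (irr_isCharacter η), hj]
          rw [show classInner (fun s : S => (χ : G → ℂ) s) (η : S → ℂ) = (n : ℂ) from hn]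
          push_cast
          ring
    choose c hc using h2
    rw [Finset.sum_congr rfl (fun η _ => hc η)] at h1
    apply hχ
    have h5 : (charDegree (χ : G → ℂ) : ℂ) = ((p * ∑ η : IrrCharacter S, c η : ℕ) : ℂ) := by
      rw [← IsCharacter.one_eq_charDegree (irr_isCharacter χ)]
      have h6 : (χ : G → ℂ) 1 = _ := h1
      rw [h6]
      push_cast
      rw [Finset.mul_sum]
    have h7 : charDegree (χ : G → ℂ) = p * ∑ η : IrrCharacter S, c η := by exact_mod_cast h5
    rw [h7]
    exact dvd_mul_right _ _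
  obtain ⟨lam, hlam⟩ := H4.exists_hom_of_degree_one (irr_isCharacter η) hη1
  -- D = Y ∩ S'
  obtain ⟨D, hD⟩ : ∃ D : Subgroup G, D = Y ⊓ ⁅S, S⁆ := ⟨_, rfl⟩
  have hDS : D ≤ S := by rw [hD]; exact inf_le_right.trans (Subgroup.commutator_le_self S)
  have hDY : D ≤ Y := by rw [hD]; exact inf_le_left
  have hfD := Fintype.ofFinite D
  have hfN := Fintype.ofFinite N
  have hfY := Fintype.ofFinite Y
  have hlamD : ∀ d : D, (η : S → ℂ) ⟨d, hDS d.2⟩ = 1 := by
    intro d
    have h1 : (d : G) ∈ ⁅S, S⁆ := by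
      have h0 : (d : G) ∈ Y ⊓ ⁅S, S⁆ := hD ▸ d.2
      exact h0.2
    rw [← Subgroup.map_subtype_commutator] at h1
    obtain ⟨s, hs, hsd⟩ := h1
    have h2 : s ∈ lam.ker := Abelianization.commutator_subset_ker lam hs
    have h3 : (⟨d, hDS d.2⟩ : S) = s := Subtype.ext hsd.symm
    rw [h3, hlam]
    show ((lam s : ℂˣ) : ℂ) = 1
    rw [MonoidHom.mem_ker.mp h2, Units.val_one]
  have hD1 : classInner (fun d : D => (χ : G → ℂ) d) (oneC D : D → ℂ) ≠ 0 := by
    apply inner_trans hDS (irr_isCharacter χ) hη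
    have h1 : (fun d : D => (η : S → ℂ) ⟨d, hDS d.2⟩) = (oneC D : D → ℂ) := by
      funext d
      rw [hlamD, oneC_apply]
    rw [h1, classInner_irr_self]
    exact one_ne_zero
  have hNS : ∀ g : G, g ∈ N → g ∈ S → g = 1 := by
    intro g h1 h2
    obtain ⟨k, hk⟩ := hSp ⟨g, h2⟩
    have h3 : g ^ p ^ k = 1 := congrArg Subtype.val hk
    have h4 : orderOf g ∣ p ^ k := orderOf_dvd_of_pow_eq_one h3
    have h5 : orderOf g ∣ Nat.card N := by
      have := orderOf_dvd_natCard (⟨g, h1⟩ : N)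
      rwa [Subgroup.orderOf_mk] at this
    have h6 : Nat.Coprime (Nat.card N) (p ^ k) := Nat.Coprime.pow_right _ ((hp.out.coprime_iff_not_dvd).mpr hNp).symm
    have h7 := Nat.eq_one_of_dvd_coprimes h6 h5 h4
    exact orderOf_eq_one_iff.mp h7
  have hbij : Function.Bijective (fun x : N × D => (⟨(x.1 : G) * x.2, Y.mul_mem (hNY x.1.2) (hDY x.2.2)⟩ : Y)) := by
    constructor
    · rintro ⟨n, d⟩ ⟨n', d'⟩ h
      have h1 : (n : G) * d = n' * d' := congrArg Subtype.val h
      have h2 : (n' : G)⁻¹ * n = d' * (d : G)⁻¹ := by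
        rw [inv_mul_eq_iff_eq_mul, ← mul_assoc, ← h1, mul_inv_cancel_right]
      have h3 : (n' : G)⁻¹ * n = 1 := hNS _ (N.mul_mem (N.inv_mem n'.2) n.2) (by
        rw [h2]; exact S.mul_mem (hDS d'.2) (S.inv_mem (hDS d.2)))
      have h4 : n = n' := Subtype.ext (inv_mul_eq_one.mp h3).symm
      subst h4
      have h5 : d = d' := Subtype.ext (mul_left_cancel h1)
      rw [h5]
    · rintro ⟨g, hg⟩
      have h1 := hYN hg
      rw [Subgroup.mem_sup_of_normal_left] at h1
      obtain ⟨n, hn, d, hd, hnd⟩ := h1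
      have hdY : d ∈ Y := by
        have : d = n⁻¹ * g := by rw [← hnd]; group
        rw [this]; exact Y.mul_mem (Y.inv_mem (hNY hn)) hg
      exact ⟨(⟨n, hn⟩, ⟨d, by rw [hD]; exact ⟨hdY, hd⟩⟩), Subtype.ext hnd⟩
  apply ker_of_inner (Y := Y) χ _ y hy
  have hsum : ∑ y : Y, (χ : G → ℂ) y = (Nat.card N : ℂ) * ∑ d : D, (χ : G → ℂ) d := by
    rw [← hbij.sum_comp, Fintype.sum_prod_type]
    simp only
    have hcg : ∀ n : N, ∑ d : D, (χ : G → ℂ) ((n : G) * (d : G)) = ∑ d : D, (χ : G → ℂ) d :=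
      fun n => Finset.sum_congr rfl fun d _ => hχ1 n n.2 d
    simp only [hcg]
    rw [Finset.sum_const, Finset.card_univ, nsmul_eq_mul, ← Nat.card_eq_fintype_card]
  rw [classInner_def] at hD1 ⊢
  simp only [oneC_apply, map_one, mul_one] at hD1 ⊢
  rw [hsum]
  have hN0 : (Nat.card N : ℂ) ≠ 0 := by exact_mod_cast Nat.card_pos.ne'
  have hY0 : (Nat.card Y : ℂ) ≠ 0 := by exact_mod_cast Nat.card_pos.ne'
  exact mul_ne_zero (inv_ne_zero hY0) (mul_ne_zero hN0 (right_ne_zero_of_mul hD1))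

end Cfsg.Agent.H5
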