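import Cfsg.Agent.H5.W44
import Cfsg.Agent.H5.V3

set_option autoImplicit false
set_option linter.style.haveILetI false
set_option linter.unusedVariables false
set_option linter.unusedSectionVars false
set_option linter.unusedSimpArgs false

/-! Characters of a group over a normal subgroup of odd index fixed by a Galois automorphism of 2-power order. -/

namespace Cfsg.Agent.H5

open Cfsg
open scoped ComplexConjugate

universe u v w

/-- In a group of odd order only the identity is conjugate to its inverse. -/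
theorem eq_one_of_conj_inv {Q : Type u} [Group Q] [Finite Q] (hQ : Odd (Nat.card Q)) {t q : Q}
    (h : t * q * t⁻¹ = q⁻¹) : q = 1 := by
  have h3 : (t * t) * q * (t * t)⁻¹ = q := by
    calc (t * t) * q * (t * t)⁻¹ = t * (t * q * t⁻¹) * t⁻¹ := by group
      _ = t * q⁻¹ * t⁻¹ := by rw [h]
      _ = (t * q * t⁻¹)⁻¹ := by group
      _ = q := by rw [h, inv_inv]
  have h2 : ∀ j : ℕ, (t * t) ^ j * q * ((t * t) ^ j)⁻¹ = q := by
    intro j
    induction j with
    | zero => simp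
    | succ j ih =>
      calc (t * t) ^ (j + 1) * q * ((t * t) ^ (j + 1))⁻¹ = (t * t) ^ j * ((t * t) * q * (t * t)⁻¹) * ((t * t) ^ j)⁻¹ := by
            rw [pow_succ]; group
        _ = q := by rw [h3, ih]
  obtain ⟨m, hm⟩ := hQ
  have hc : 2 * (m + 1) = Nat.card Q + 1 := by omega
  have h4 : (t * t) ^ (m + 1) = t := by
    rw [← pow_two, ← pow_mul, hc, pow_succ, pow_card_eq_one', one_mul]
  have h5 := h2 (m + 1)
  rw [h4, h] at h5
  have h6 : q * q = 1 := by
    nth_rewrite 1 [← h5]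
    rw [inv_mul_cancel]
  have h7 : (q * q) ^ (m + 1) = q := by
    rw [← pow_two, ← pow_mul, hc, pow_succ, pow_card_eq_one', one_mul]
  rw [h6, one_pow] at h7
  exact h7.symm

variable {G : Type u} [Group G] [Fintype G]

theorem pow_succ_mem {N : Subgroup G} [hN : N.Normal] (hidx : Odd N.index) {k : ℕ}
    (hk₂ : ∀ g : G, Odd (orderOf g) → g ^ k = g⁻¹) (g : G) : g ^ (k + 1) ∈ N := by
  obtain ⟨a, m, hm, ho⟩ := Nat.exists_eq_two_pow_mul_odd (orderOf_pos g).ne'
  have h1 : orderOf (g ^ (2 ^ a)) = m := by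
    rw [orderOf_pow_of_dvd (by positivity) ⟨m, ho⟩, ho]
    exact Nat.mul_div_cancel_left m (by positivity)
  have h2 := hk₂ (g ^ (2 ^ a)) (by rw [h1]; exact hm)
  have h3 : (g ^ (k + 1)) ^ (2 ^ a) = 1 := by
    rw [← pow_mul, mul_comm, pow_mul, pow_succ, h2, inv_mul_cancel]
  have h4 : ((QuotientGroup.mk' N) (g ^ (k + 1))) ^ (2 ^ a) = 1 := by rw [← map_pow, h3, map_one]
  have h5 : orderOf ((QuotientGroup.mk' N) (g ^ (k + 1))) ∣ 2 ^ a := orderOf_dvd_of_pow_eq_one h4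
  have h6 : orderOf ((QuotientGroup.mk' N) (g ^ (k + 1))) ∣ N.index := orderOf_dvd_natCard _
  have h7 : Nat.Coprime (2 ^ a) N.index := Nat.Coprime.pow_left _ (Nat.coprime_two_left.mpr hidx)
  have h8 := Nat.eq_one_of_dvd_coprimes h7 h5 h6
  exact (QuotientGroup.eq_one_iff _).mp (orderOf_eq_one_iff.mp h8)

theorem indFun_off {N : Subgroup G} [hN : N.Normal] (θ : N → ℂ) {g : G} (hg : g ∉ N) : indFun N θ g = 0 := by
  classical
  unfold indFun
  rw [Finset.sum_eq_zero, mul_zero]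
  intro x _
  unfold extendByZero
  rw [Function.extend_apply']
  · rfl
  · rintro ⟨n, hn⟩
    apply hg
    have h1 := hN.conj_mem n n.2 x
    rw [hn] at h1
    have e : x * (x⁻¹ * g * x) * x⁻¹ = g := by group
    rwa [e] at h1

/-- The irreducible characters over a character of a subgroup. -/
def ovr (N : Subgroup G) [Fintype N] (θ : N → ℂ) : Set (IrrCharacter G) :=
  {χ | classInner (fun n : N => (χ : G → ℂ) n) θ ≠ 0}

section ov
variable {N : Subgroup G} [hN : N.Normal] [Fintype N] (θ : IrrCharacter N)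

theorem inner_ind_eq (χ : IrrCharacter G) : classInner (indFun N (θ : N → ℂ)) (χ : G → ℂ) =
    classInner (fun n : N => (χ : G → ℂ) n) (θ : N → ℂ) := by
  rw [frobenius_reciprocity _ _ (irr_classFun χ), ← classInner_conj_symm]
  obtain ⟨n, hn⟩ := IsCharacter.inner_nat (isCharacter_restrict N (irr_isCharacter χ)) θ
  have h1 : classInner (fun n : N => (χ : G → ℂ) n) (θ : N → ℂ) = n := hn
  rw [h1, Complex.conj_natCast]

theorem ovr_deg (χ : IrrCharacter G) : ind1 (ovr N (θ : N → ℂ)) χ * (χ : G → ℂ) 1 =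
    classInner (fun n : N => (χ : G → ℂ) n) (θ : N → ℂ) * ((H4.inertia hN (θ : N → ℂ)).index * (θ : N → ℂ) 1) := by
  by_cases h : χ ∈ ovr N (θ : N → ℂ)
  · rw [ind1_mem h, one_mul, H4.clifford_degree hN χ χ.2 θ θ.2 h, mul_assoc]
  · rw [ind1_not_mem h]
    have h1 : classInner (fun n : N => (χ : G → ℂ) n) (θ : N → ℂ) = 0 := by
      by_contra hne; exact h hne
    rw [h1]; simp

theorem bc_off {g : G} (hg : g ∉ N) : (fB (ovr N (θ : N → ℂ))).coeff g = 0 := by
  have h1 : (fB (ovr N (θ : N → ℂ))).coeff g = cen (ind1 (ovr N (θ : N → ℂ))) g := ga_coeff _ _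
  rw [h1, cen]
  have h2 : ∑ χ : IrrCharacter G, ind1 (ovr N (θ : N → ℂ)) χ * (χ : G → ℂ) 1 * (χ : G → ℂ) g⁻¹ =
      ((H4.inertia hN (θ : N → ℂ)).index * (θ : N → ℂ) 1) * indFun N (θ : N → ℂ) g⁻¹ := by
    rw [classFun_expansion_apply (IsCharacter.classFun (isCharacter_indFun N (irr_isCharacter θ))) g⁻¹, Finset.mul_sum]
    refine Finset.sum_congr rfl fun χ _ => ?_
    rw [ovr_deg, inner_ind_eq]
    ring
  rw [h2, indFun_off _ (fun h => hg (by simpa using N.inv_mem h)), mul_zero, mul_zero]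

theorem ovr_kernel {x y : G} (hxy : ∀ t : G, t * y * t⁻¹ * x⁻¹ ∉ N) :
    ∑ χ : IrrCharacter G, ind1 (ovr N (θ : N → ℂ)) χ * ((χ : G → ℂ) x * conj ((χ : G → ℂ) y)) = 0 := by
  classical
  have h1 : ∀ χ : IrrCharacter G, ind1 (ovr N (θ : N → ℂ)) χ * ((χ : G → ℂ) x * conj ((χ : G → ℂ) y)) =
      ∑ z : G, (fB (ovr N (θ : N → ℂ))).coeff (z * x⁻¹) * ((χ : G → ℂ) z * conj ((χ : G → ℂ) y)) := by
    intro χ
    have h2 := lin_fB_mul (ovr N (θ : N → ℂ)) χ (gof x)
    rw [lin_single, one_mul, lin_apply] at h2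
    rw [← mul_assoc, ← h2, Finset.sum_mul]
    refine Finset.sum_congr rfl fun z _ => ?_
    rw [ga_coeff_mul_single, mul_one, mul_assoc]
  rw [Finset.sum_congr rfl (fun χ _ => h1 χ), Finset.sum_comm]
  apply Finset.sum_eq_zero
  intro z _
  rw [← Finset.mul_sum, second_orthogonality z y]
  by_cases hz : IsConj z y
  · have hz' := hz.symm
    rw [_root_.isConj_iff] at hz'
    obtain ⟨t, ht⟩ := hz'
    rw [bc_off θ (by rw [← ht]; exact hxy t), zero_mul]
  · rw [if_neg hz, mul_zero]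

theorem conj_of_ovr {χ : IrrCharacter G} (hχ : χ ∈ ovr N (θ : N → ℂ)) {ψ : IrrCharacter N}
    (hψ : classInner (fun n : N => (χ : G → ℂ) n) (ψ : N → ℂ) ≠ 0) : ∃ g : G, (ψ : N → ℂ) = H4.conjBy hN g (θ : N → ℂ) :=
  H4.clifford_conj hN χ χ.2 θ ψ θ.2 ψ.2 hχ hψ

theorem ovr_res_sigma {k : ℕ} (hθ : ∀ n : N, (θ : N → ℂ) (n ^ k) = (θ : N → ℂ) n) {χ : IrrCharacter G}
    (hχ : χ ∈ ovr N (θ : N → ℂ)) (n : N) : (χ : G → ℂ) ((n : G) ^ k) = (χ : G → ℂ) n := by
  have hres := isCharacter_restrict N (irr_isCharacter χ)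
  have h1 := classFun_expansion_apply (IsCharacter.classFun hres) n
  have h2 := classFun_expansion_apply (IsCharacter.classFun hres) (n ^ k)
  have h3 : (χ : G → ℂ) ((n : G) ^ k) = (χ : G → ℂ) ((n ^ k : N) : G) := by rw [Subgroup.coe_pow]
  rw [h3, h1, h2]
  refine Finset.sum_congr rfl fun ψ _ => ?_
  by_cases h0 : classInner (fun n : N => (χ : G → ℂ) n) (ψ : N → ℂ) = 0
  · have h0' : classInner (fun x : N => (χ : G → ℂ) x) (ψ : N → ℂ) = 0 := h0
    rw [h0', zero_mul, zero_mul]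
  · obtain ⟨g, hg⟩ := conj_of_ovr θ hχ h0
    congr 1
    rw [hg, H4.conjBy_apply, H4.conjBy_apply, map_pow, hθ]

theorem ovr_norm {χ : IrrCharacter G} (hχ : χ ∈ ovr N (θ : N → ℂ)) :
    classInner (fun n : N => (χ : G → ℂ) n) (fun n : N => (χ : G → ℂ) n) * (θ : N → ℂ) 1 =
      classInner (fun n : N => (χ : G → ℂ) n) (θ : N → ℂ) * (χ : G → ℂ) 1 := by
  have hres := isCharacter_restrict N (irr_isCharacter χ)
  have h1 := classFun_expansion_apply (IsCharacter.classFun hres) 1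
  have h2 := classInner_eq_sum (g := fun n : N => (χ : G → ℂ) n) (IsCharacter.classFun hres)
  have h3 : classInner (fun n : N => (χ : G → ℂ) n) (fun n : N => (χ : G → ℂ) n) = _ := h2
  have h4 : (χ : G → ℂ) 1 = _ := h1
  rw [h3, h4, Finset.sum_mul, Finset.mul_sum]
  refine Finset.sum_congr rfl fun ψ _ => ?_
  by_cases h0 : classInner (fun n : N => (χ : G → ℂ) n) (ψ : N → ℂ) = 0
  · have h0' : classInner (fun x : N => (χ : G → ℂ) x) (ψ : N → ℂ) = 0 := h0
    simp only [h0', zero_mul, mul_zero]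
  · obtain ⟨g, hg⟩ := conj_of_ovr θ hχ h0
    have h5 : classInner (fun n : N => (χ : G → ℂ) n) (ψ : N → ℂ) = classInner (fun n : N => (χ : G → ℂ) n) (θ : N → ℂ) := by
      rw [hg, H4.inner_restrict_conjBy hN χ (irr_classFun χ)]
    have h6 : (ψ : N → ℂ) 1 = (θ : N → ℂ) 1 := by rw [hg, H4.conjBy_apply, map_one]
    obtain ⟨m, hm⟩ := IsCharacter.inner_nat hres θ
    have hm' : classInner (fun n : N => (χ : G → ℂ) n) (θ : N → ℂ) = m := hm
    have h5' : classInner (fun x : N => (χ : G → ℂ) x) (ψ : N → ℂ) = m := by rw [← hm']; exact h5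
    rw [h6]
    simp only [h5', hm', Complex.conj_natCast]
    ring

theorem sig_unique (hidx : Odd N.index) {k : ℕ} (hk : k.Coprime (Nat.card G))
    (hk₂ : ∀ g : G, Odd (orderOf g) → g ^ k = g⁻¹) (hθ : ∀ n : N, (θ : N → ℂ) (n ^ k) = (θ : N → ℂ) n) :
    ∃! χ : IrrCharacter G, χ ∈ ovr N (θ : N → ℂ) ∧ ∀ g : G, (χ : G → ℂ) (g ^ k) = (χ : G → ℂ) g := by
  classical
  obtain ⟨sg, hsg⟩ : ∃ sg : IrrCharacter G → IrrCharacter G, ∀ χ g, (sg χ : G → ℂ) g = (χ : G → ℂ) (g ^ k) :=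
    ⟨fun χ => ⟨fun g => (χ : G → ℂ) (g ^ k), isIrr_pow hk χ.2⟩, fun _ _ => rfl⟩
  have hθ1 : (θ : N → ℂ) 1 ≠ 0 := IsIrr.one_ne_zero θ.2
  have hG0 : (Nat.card G : ℂ) ≠ 0 := by exact_mod_cast Nat.card_pos.ne'
  have hN0 : (Nat.card N : ℂ) ≠ 0 := by exact_mod_cast Nat.card_pos.ne'
  have hS : ∑ χ : IrrCharacter G, ind1 (ovr N (θ : N → ℂ)) χ * classInner (sg χ : G → ℂ) (χ : G → ℂ) = 1 := by
    have h1 : ∑ χ : IrrCharacter G, ind1 (ovr N (θ : N → ℂ)) χ * classInner (sg χ : G → ℂ) (χ : G → ℂ) =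
        (Nat.card G : ℂ)⁻¹ * ∑ g : G, ∑ χ : IrrCharacter G, ind1 (ovr N (θ : N → ℂ)) χ * ((χ : G → ℂ) (g ^ k) * conj ((χ : G → ℂ) g)) := by
      rw [Finset.sum_comm, Finset.mul_sum]
      refine Finset.sum_congr rfl fun χ _ => ?_
      rw [classInner_def, mul_left_comm, Finset.mul_sum]
      congr 1
      refine Finset.sum_congr rfl fun g _ => ?_
      rw [hsg]
    have h2 : ∑ g : G, ∑ χ : IrrCharacter G, ind1 (ovr N (θ : N → ℂ)) χ * ((χ : G → ℂ) (g ^ k) * conj ((χ : G → ℂ) g)) =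
        ∑ n : N, ∑ χ : IrrCharacter G, ind1 (ovr N (θ : N → ℂ)) χ * ((χ : G → ℂ) n * conj ((χ : G → ℂ) n)) := by
      rw [sum_subgroup N (fun g => ∑ χ : IrrCharacter G, ind1 (ovr N (θ : N → ℂ)) χ * ((χ : G → ℂ) (g ^ k) * conj ((χ : G → ℂ) g)))]
      · refine Finset.sum_congr rfl fun n _ => Finset.sum_congr rfl fun χ _ => ?_
        by_cases hχ : χ ∈ ovr N (θ : N → ℂ)
        · rw [ovr_res_sigma θ hθ hχ]
        · rw [ind1_not_mem hχ, zero_mul, zero_mul]
      · intro g hg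
        apply ovr_kernel
        intro t ht
        apply hg
        have h3 : (QuotientGroup.mk' N) (t * g * t⁻¹ * (g ^ k)⁻¹) = 1 := (QuotientGroup.eq_one_iff _).mpr ht
        have h4 : (QuotientGroup.mk' N) (g ^ (k + 1)) = 1 := (QuotientGroup.eq_one_iff _).mpr (pow_succ_mem hidx hk₂ g)
        rw [map_mul, map_mul, map_mul, map_inv, map_inv, map_pow, mul_inv_eq_one] at h3
        rw [map_pow, pow_succ] at h4
        have h5 : (QuotientGroup.mk' N) t * (QuotientGroup.mk' N) g * ((QuotientGroup.mk' N) t)⁻¹ = ((QuotientGroup.mk' N) g)⁻¹ := by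
          rw [h3]; exact eq_inv_of_mul_eq_one_left h4
        have h6 := eq_one_of_conj_inv (by exact hidx) h5
        exact (QuotientGroup.eq_one_iff _).mp h6
    have h3 : (∑ n : N, ∑ χ : IrrCharacter G, ind1 (ovr N (θ : N → ℂ)) χ * ((χ : G → ℂ) n * conj ((χ : G → ℂ) n))) * (θ : N → ℂ) 1 =
        Nat.card N * (N.index * (θ : N → ℂ) 1) := by
      rw [Finset.sum_comm, Finset.sum_mul, ← indFun_one N (θ : N → ℂ),
        classFun_expansion_apply (IsCharacter.classFun (isCharacter_indFun N (irr_isCharacter θ))) 1, Finset.mul_sum]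
      refine Finset.sum_congr rfl fun χ _ => ?_
      rw [← Finset.mul_sum]
      have h4 : ∑ n : N, (χ : G → ℂ) n * conj ((χ : G → ℂ) n) =
          Nat.card N * classInner (fun n : N => (χ : G → ℂ) n) (fun n : N => (χ : G → ℂ) n) := by
        rw [classInner_def, ← mul_assoc, mul_inv_cancel₀ hN0, one_mul]
      rw [h4, inner_ind_eq]
      by_cases hχ : χ ∈ ovr N (θ : N → ℂ)
      · rw [ind1_mem hχ, one_mul, mul_assoc, ovr_norm θ hχ]
      · have h5 : classInner (fun n : N => (χ : G → ℂ) n) (θ : N → ℂ) = 0 := by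
          by_contra hne; exact hχ hne
        rw [ind1_not_mem hχ, h5]; ring
    have h4 : (Nat.card N : ℂ) * (N.index : ℂ) = Nat.card G := by
      have := N.card_mul_index
      exact_mod_cast this
    rw [h1, h2]
    apply mul_right_cancel₀ hθ1
    rw [mul_assoc, h3, ← mul_assoc, ← mul_assoc, mul_assoc (Nat.card G : ℂ)⁻¹, h4, inv_mul_cancel₀ hG0]
  have hS2 : ∑ χ : IrrCharacter G, ind1 (ovr N (θ : N → ℂ)) χ * classInner (sg χ : G → ℂ) (χ : G → ℂ) =
      ((Finset.univ.filter (fun χ : IrrCharacter G => χ ∈ ovr N (θ : N → ℂ) ∧ sg χ = χ)).card : ℂ) := by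
    rw [Finset.card_filter]
    push_cast
    refine Finset.sum_congr rfl fun χ _ => ?_
    by_cases h1 : χ ∈ ovr N (θ : N → ℂ)
    · rw [ind1_mem h1, one_mul, classInner_irr]
      simp [h1]
    · rw [ind1_not_mem h1, zero_mul]
      simp [h1]
  rw [hS2] at hS
  have hS3 : (Finset.univ.filter (fun χ : IrrCharacter G => χ ∈ ovr N (θ : N → ℂ) ∧ sg χ = χ)).card = 1 := by exact_mod_cast hS
  rw [Finset.card_eq_one] at hS3
  obtain ⟨χ, hχ⟩ := hS3
  have hiff : ∀ ψ : IrrCharacter G, sg ψ = ψ ↔ ∀ g : G, (ψ : G → ℂ) (g ^ k) = (ψ : G → ℂ) g := by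
    intro ψ
    constructor
    · intro h g
      rw [← hsg, h]
    · intro h
      apply Subtype.ext
      funext g
      rw [hsg, h]
  have hmem : χ ∈ Finset.univ.filter (fun χ : IrrCharacter G => χ ∈ ovr N (θ : N → ℂ) ∧ sg χ = χ) := by
    rw [hχ]; exact Finset.mem_singleton_self _
  rw [Finset.mem_filter] at hmem
  refine ⟨χ, ⟨hmem.2.1, (hiff χ).mp hmem.2.2⟩, ?_⟩
  rintro ψ ⟨h1, h2⟩
  have h3 : ψ ∈ Finset.univ.filter (fun χ : IrrCharacter G => χ ∈ ovr N (θ : N → ℂ) ∧ sg χ = χ) := by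
    rw [Finset.mem_filter]
    exact ⟨Finset.mem_univ _, h1, (hiff ψ).mpr h2⟩
  rw [hχ] at h3
  exact Finset.mem_singleton.mp h3

end ov

end Cfsg.Agent.H5
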