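import Cfsg.Agent.H5.W45
import Cfsg.Agent.H5.V4
import Cfsg.Agent.H5.K9
import Cfsg.Agent.H5.W20

set_option autoImplicit false
set_option linter.style.haveILetI false
set_option linter.unusedVariables false
set_option linter.unusedSectionVars false
set_option linter.unusedSimpArgs false

/-! Principal blocks and Galois-fixed characters. -/

namespace Cfsg.Agent.H5

open Cfsg
open scoped ComplexConjugate

universe u v w

variable {G : Type u} [Group G] [Fintype G] {p : ℕ} {M : Ideal AlgInt}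

/-- Constituents of restrictions of principal block characters are in the principal block. -/
theorem under_principal (hM : IsPModular p M) {N : Subgroup G} [hN : N.Normal] [Fintype N] {χ : IrrCharacter G}
    {θ : IrrCharacter N} (h : classInner (fun n : N => (χ : G → ℂ) n) (θ : N → ℂ) ≠ 0) (hχ : χ ∈ principalBlock M G) :
    θ ∈ principalBlock M N := by
  have hprime := isPrime_of_isPModular hM
  have h1 : classInner (fun n : N => (oneC G : G → ℂ) n) (oneC N : N → ℂ) ≠ 0 := by
    have e : (fun n : N => (oneC G : G → ℂ) n) = (oneC N : N → ℂ) := by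
      funext n; rw [oneC_apply, oneC_apply]
    rw [e, classInner_irr_self]
    exact one_ne_zero
  have hc : Cov N (principalBlock M G) (principalBlock M N) := cov_of (oneC_mem hM) (oneC_mem hM) h1
  have h2 := cov_under principal_isPBlock principal_isPBlock hc hχ h
  obtain ⟨x, hx⟩ := h2
  have h3 : (cjB x (principalBlock M N) : Set (IrrCharacter N)) = principalBlock M N := by
    apply cjB_eq_of_fix (IsPBlock.isBU principal_isPBlock) (normalizer_normal N (Subgroup.mem_top x))
    exact e0_fix (M := M) (normalizer_normal N) x (Subgroup.mem_top x)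
  rwa [h3] at hx

theorem centralizer_pow {k : ℕ} (hk : k.Coprime (Nat.card G)) (g : G) :
    Subgroup.centralizer ({g ^ k} : Set G) = Subgroup.centralizer ({g} : Set G) := by
  ext x
  rw [Subgroup.mem_centralizer_singleton_iff, Subgroup.mem_centralizer_singleton_iff]
  constructor
  · intro h
    have h1 : Commute x (g ^ k) := h
    obtain ⟨m, hm⟩ := exists_pow_eq_self_of_coprime (Nat.Coprime.coprime_dvd_right (orderOf_dvd_natCard g) hk)
    have h2 : Commute x ((g ^ k) ^ m) := h1.pow_right m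
    rw [hm] at h2
    exact h2
  · intro h
    have h1 : Commute x g := h
    exact h1.pow_right k

/-- The principal block is stable under Galois automorphisms. -/
theorem principal_pow (hM : IsPModular p M) {k : ℕ} (hk : k.Coprime (Nat.card G)) {χ ψ : IrrCharacter G}
    (hψ : ∀ g, (ψ : G → ℂ) g = (χ : G → ℂ) (g ^ k)) (hχ : χ ∈ principalBlock M G) : ψ ∈ principalBlock M G := by
  have h1 : SameBlock M (fun _ : G => (1 : ℂ)) (χ : G → ℂ) := hχ
  show SameBlock M (fun _ : G => (1 : ℂ)) (ψ : G → ℂ)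
  intro g
  have h2 := h1 (g ^ k)
  unfold centralChar at h2 ⊢
  rw [centralizer_pow hk] at h2
  rw [hψ g, hψ 1, one_pow]
  exact h2

section sig
variable {N : Subgroup G} [hN : N.Normal] [Fintype N] (θ : IrrCharacter N)

/-- multiplicity weighted degree -/
theorem mw_nat (χ : IrrCharacter G) : ∃ n : ℕ, (χ : G → ℂ) 1 * classInner (fun n : N => (χ : G → ℂ) n) (θ : N → ℂ) / (θ : N → ℂ) 1 = n := by
  obtain ⟨m, hm⟩ := IsCharacter.inner_nat (isCharacter_restrict N (irr_isCharacter χ)) θ
  have hm' : classInner (fun n : N => (χ : G → ℂ) n) (θ : N → ℂ) = m := hm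
  have hθ1 : (θ : N → ℂ) 1 ≠ 0 := IsIrr.one_ne_zero θ.2
  by_cases h : classInner (fun n : N => (χ : G → ℂ) n) (θ : N → ℂ) = 0
  · refine ⟨0, ?_⟩
    rw [h]; simp
  · refine ⟨m * m * (H4.inertia hN (θ : N → ℂ)).index, ?_⟩
    rw [H4.clifford_degree hN χ χ.2 θ θ.2 h, hm']
    field_simp
    push_cast
    ring

theorem sig_sum (hM : IsPModular 2 M) (hidx : Odd N.index) {k e : ℕ} (hk : k.Coprime (Nat.card G))
    (hke : k ^ (2 ^ e) ≡ 1 [MOD Nat.card G]) (hk₂ : ∀ g : G, Odd (orderOf g) → g ^ k = g⁻¹)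
    (hθ : ∀ n : N, (θ : N → ℂ) (n ^ k) = (θ : N → ℂ) n) {χ₀ : IrrCharacter G} (hχ₀ : χ₀ ∈ ovr N (θ : N → ℂ))
    (hχ₀k : ∀ g : G, (χ₀ : G → ℂ) (g ^ k) = (χ₀ : G → ℂ) g) :
    MemLocalIdeal M (∑ χ : IrrCharacter G, ind1 (principalBlock M G) χ *
        ((χ : G → ℂ) 1 * classInner (fun n : N => (χ : G → ℂ) n) (θ : N → ℂ) / (θ : N → ℂ) 1) -
      ind1 (principalBlock M G) χ₀ *
        ((χ₀ : G → ℂ) 1 * classInner (fun n : N => (χ₀ : G → ℂ) n) (θ : N → ℂ) / (θ : N → ℂ) 1)) := by
  classical
  have hprime := isPrime_of_isPModular hM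
  obtain ⟨sg, hsg⟩ : ∃ sg : IrrCharacter G → IrrCharacter G, ∀ χ g, (sg χ : G → ℂ) g = (χ : G → ℂ) (g ^ k) :=
    ⟨fun χ => ⟨fun g => (χ : G → ℂ) (g ^ k), isIrr_pow hk χ.2⟩, fun _ _ => rfl⟩
  have hit : ∀ (j : ℕ) (χ : IrrCharacter G) (g : G), ((sg^[j] χ : IrrCharacter G) : G → ℂ) g = (χ : G → ℂ) (g ^ (k ^ j)) := by
    intro j
    induction j with
    | zero => intro χ g; simp
    | succ j ih =>
      intro χ g
      rw [Function.iterate_succ_apply, ih, hsg, ← pow_mul, pow_succ]
  have hper : ∀ χ, sg^[2 ^ e] χ = χ := by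
    intro χ
    apply Subtype.ext
    funext g
    rw [hit]
    congr 1
    have h1 : k ^ 2 ^ e ≡ 1 [MOD orderOf g] := hke.of_dvd (orderOf_dvd_natCard g)
    have h2 := pow_eq_pow_iff_modEq.mpr h1
    rw [h2, pow_one]
  have hinj : Function.Injective sg := by
    intro a b hab
    have h1 := hper a
    have h2 := hper b
    have h3 : 2 ^ e = (2 ^ e - 1) + 1 := (Nat.sub_add_cancel Nat.one_le_two_pow).symm
    rw [h3, Function.iterate_succ_apply] at h1 h2
    rw [← h1, ← h2, hab]
  obtain ⟨π, hπ⟩ : ∃ π : Equiv.Perm (IrrCharacter G), ∀ χ, π χ = sg χ :=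
    ⟨Equiv.ofBijective sg (Finite.injective_iff_bijective.mp hinj), fun _ => rfl⟩
  have hπpow : ∀ (j : ℕ) χ, (π ^ j) χ = sg^[j] χ := by
    intro j
    induction j with
    | zero => intro χ; rfl
    | succ j ih =>
      intro χ
      rw [pow_succ, Equiv.Perm.mul_apply, ih, hπ, Function.iterate_succ_apply]
  have hπ1 : π ^ (2 ^ e) = 1 := by
    ext1 χ
    rw [hπpow, hper]
    rfl
  have hPg : IsPGroup 2 (Subgroup.zpowers π) := by
    rintro ⟨x, hx⟩
    refine ⟨e, ?_⟩
    obtain ⟨i, rfl⟩ := Subgroup.mem_zpowers_iff.mp hx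
    apply Subtype.ext
    show (π ^ i) ^ (2 ^ e) = 1
    rw [← zpow_natCast, zpow_comm, zpow_natCast, hπ1, one_zpow]
  obtain ⟨f, hf⟩ : ∃ f : IrrCharacter G → ℂ, f = fun χ : IrrCharacter G => ind1 (principalBlock M G) χ *
        ((χ : G → ℂ) 1 * classInner (fun n : N => (χ : G → ℂ) n) (θ : N → ℂ) / (θ : N → ℂ) 1) := ⟨_, rfl⟩
  have hcopN : k.Coprime (Nat.card N) := Nat.Coprime.coprime_dvd_right (Subgroup.card_subgroup_dvd_card N) hk
  have hinner : ∀ χ : IrrCharacter G, classInner (fun n : N => (sg χ : G → ℂ) n) (θ : N → ℂ) =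
      classInner (fun n : N => (χ : G → ℂ) n) (θ : N → ℂ) := by
    intro χ
    rw [classInner_def, classInner_def]
    congr 1
    rw [← (powCoprime_bijective' hcopN).sum_comp (fun n : N => (χ : G → ℂ) n * conj ((θ : N → ℂ) n))]
    refine Finset.sum_congr rfl fun n _ => ?_
    rw [hsg, hθ, Subgroup.coe_pow]
  have hprin : ∀ χ : IrrCharacter G, sg χ ∈ principalBlock M G ↔ χ ∈ principalBlock M G := by
    intro χ
    constructor
    · intro h
      have h1 : ∀ j : ℕ, sg^[j + 1] χ ∈ principalBlock M G := by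
        intro j
        induction j with
        | zero => exact h
        | succ j ih =>
          rw [Function.iterate_succ_apply']
          exact principal_pow hM hk (hsg _) ih
      have h2 := h1 (2 ^ e - 1)
      rw [Nat.sub_add_cancel Nat.one_le_two_pow, hper] at h2
      exact h2
    · exact principal_pow hM hk (hsg χ)
  have hfs : ∀ χ, f (sg χ) = f χ := by
    intro χ
    have h1 : ind1 (principalBlock M G) (sg χ) = ind1 (principalBlock M G) χ := by
      by_cases h : χ ∈ principalBlock M G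
      · rw [ind1_mem h, ind1_mem ((hprin χ).mpr h)]
      · rw [ind1_not_mem h, ind1_not_mem (fun h' => h ((hprin χ).mp h'))]
    simp only [hf]
    rw [h1, hinner, hsg, one_pow]
  have hfz : ∀ (x : Subgroup.zpowers π) (χ : IrrCharacter G), f (x • χ) = f χ := by
    rintro ⟨x, hx⟩
    let H : Subgroup (Equiv.Perm (IrrCharacter G)) :=
      { carrier := {y | ∀ χ, f (y χ) = f χ}
        one_mem' := fun χ => rfl
        mul_mem' := fun {a b} ha hb χ => by rw [Equiv.Perm.mul_apply, ha, hb]
        inv_mem' := fun {a} ha χ => by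
          have := ha (a⁻¹ χ)
          rw [← Equiv.Perm.mul_apply, mul_inv_cancel, Equiv.Perm.one_apply] at this
          exact this.symm }
    have h1 : Subgroup.zpowers π ≤ H := by
      rw [Subgroup.zpowers_le]
      intro χ
      rw [hπ, hfs]
    exact h1 hx
  have hfR : ∀ χ, MemLocalRing M (f χ) := by
    intro χ
    obtain ⟨n, hn⟩ := mw_nat θ χ
    simp only [hf]
    rw [hn]
    by_cases h : χ ∈ principalBlock M G
    · rw [ind1_mem h, one_mul]; exact memLocR_natCast n
    · rw [ind1_not_mem h, zero_mul]; exact memLocR_zero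
  have h1 := sum_congr_fixedPoints hM hPg f hfz hfR
  have h2 : (∑ χ : IrrCharacter G, if χ ∈ MulAction.fixedPoints (Subgroup.zpowers π) (IrrCharacter G) then f χ else 0) = f χ₀ := by
    rw [Finset.sum_eq_single χ₀]
    · rw [if_pos]
      intro x
      have h3 : Subgroup.zpowers π ≤ MulAction.stabilizer (Equiv.Perm (IrrCharacter G)) χ₀ := by
        rw [Subgroup.zpowers_le, MulAction.mem_stabilizer_iff]
        show π χ₀ = χ₀
        rw [hπ]
        apply Subtype.ext
        funext g
        rw [hsg, hχ₀k]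
      exact MulAction.mem_stabilizer_iff.mp (h3 x.2)
    · intro χ _ hne
      by_cases h3 : χ ∈ MulAction.fixedPoints (Subgroup.zpowers π) (IrrCharacter G)
      · rw [if_pos h3]
        by_cases h4 : χ ∈ ovr N (θ : N → ℂ)
        · exfalso
          apply hne
          have h5 : sg χ = χ := by
            rw [← hπ]
            exact h3 ⟨π, Subgroup.mem_zpowers π⟩
          obtain ⟨χ₁, -, hu⟩ := sig_unique θ hidx hk hk₂ hθ
          rw [hu χ ⟨h4, fun g => by rw [← hsg, h5]⟩, hu χ₀ ⟨hχ₀, hχ₀k⟩]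
        · have h5 : classInner (fun n : N => (χ : G → ℂ) n) (θ : N → ℂ) = 0 := by
            by_contra hne; exact h4 hne
          simp only [hf]
          rw [h5]; simp
      · rw [if_neg h3]
    · intro h; exact absurd (Finset.mem_univ _) h
  rw [h2] at h1
  rw [hf] at h1
  exact h1

/-- Congruence for the weighted sum over the principal block. -/
theorem mw_congr (hM : IsPModular p M) {θ' : IrrCharacter N} (hs : SameBlock M (θ : N → ℂ) (θ' : N → ℂ)) :
    MemLocalIdeal M (∑ χ : IrrCharacter G, ind1 (principalBlock M G) χ *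
        ((χ : G → ℂ) 1 * classInner (fun n : N => (χ : G → ℂ) n) (θ : N → ℂ) / (θ : N → ℂ) 1) -
      ∑ χ : IrrCharacter G, ind1 (principalBlock M G) χ *
        ((χ : G → ℂ) 1 * classInner (fun n : N => (χ : G → ℂ) n) (θ' : N → ℂ) / (θ' : N → ℂ) 1)) := by
  classical
  have hprime := isPrime_of_isPModular hM
  obtain ⟨z, hz⟩ : ∃ z : N → ℂ, z = fun n : N => blockCoeff (principalBlock M G) (n : G) := ⟨_, rfl⟩
  have hzc : IsClassFunction N z := by
    intro n x
    rw [hz]
    exact blockCoeff_classFun (principalBlock M G) (n : G) (x : G)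
  have hzR : ∀ n, MemLocalRing M (z n) := by
    intro n
    rw [hz]
    exact blockCoeff_memLocR principal_isPBlock _
  have hG0 : (Nat.card G : ℂ) ≠ 0 := by exact_mod_cast Nat.card_pos.ne'
  have hN0 : (Nat.card N : ℂ) ≠ 0 := by exact_mod_cast Nat.card_pos.ne'
  have h4 : (Nat.card N : ℂ) * (N.index : ℂ) = Nat.card G := by
    have := N.card_mul_index
    exact_mod_cast this
  have key : ∀ η : IrrCharacter N, (N.index : ℂ) * omega (η : N → ℂ) z = ∑ χ : IrrCharacter G, ind1 (principalBlock M G) χ *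
        ((χ : G → ℂ) 1 * classInner (fun n : N => (χ : G → ℂ) n) (η : N → ℂ) / (η : N → ℂ) 1) := by
    intro η
    have hη1 : (η : N → ℂ) 1 ≠ 0 := IsIrr.one_ne_zero η.2
    have h1 : omega (η : N → ℂ) z = (∑ n : N, z n * (η : N → ℂ) n) / (η : N → ℂ) 1 := rfl
    have h2 : ∑ n : N, z n * (η : N → ℂ) n = (Nat.card G : ℂ)⁻¹ * ∑ χ : IrrCharacter G, ind1 (principalBlock M G) χ * (χ : G → ℂ) 1 *
        (Nat.card N * classInner (fun n : N => (χ : G → ℂ) n) (η : N → ℂ)) := by
      have h3 : ∀ n : N, z n * (η : N → ℂ) n = (Nat.card G : ℂ)⁻¹ * ∑ χ : IrrCharacter G, ind1 (principalBlock M G) χ * (χ : G → ℂ) 1 *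
          (conj ((χ : G → ℂ) n) * (η : N → ℂ) n) := by
        intro n
        simp only [hz]
        rw [blockCoeff_eq_cen, cen, mul_assoc, Finset.sum_mul]
        congr 1
        refine Finset.sum_congr rfl fun χ _ => ?_
        rw [IsCharacter.inv_eq_conj (irr_isCharacter χ)]
        ring
      rw [Finset.sum_congr rfl (fun n _ => h3 n), ← Finset.mul_sum, Finset.sum_comm]
      congr 1
      refine Finset.sum_congr rfl fun χ _ => ?_
      rw [← Finset.mul_sum]
      congr 1
      rw [← inner_ind_eq, frobenius_reciprocity _ _ (irr_classFun χ), classInner_def, ← mul_assoc, mul_inv_cancel₀ hN0, one_mul]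
      exact Finset.sum_congr rfl fun n _ => mul_comm _ _
    rw [h1, h2, Finset.mul_sum, Finset.sum_div, Finset.mul_sum]
    refine Finset.sum_congr rfl fun χ _ => ?_
    rw [← h4]
    have hi0 : (N.index : ℂ) ≠ 0 := by
      intro h
      rw [h, mul_zero] at h4
      exact hG0 h4.symm
    field_simp
  rw [← key, ← key, ← mul_sub]
  exact memLocI_mul_left (memLocR_natCast _) (omega_congr hzc hzR hs)

theorem sig_block (hM : IsPModular 2 M) (hidx : Odd N.index) {k e : ℕ} (hk : k.Coprime (Nat.card G))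
    (hke : k ^ (2 ^ e) ≡ 1 [MOD Nat.card G]) (hk₂ : ∀ g : G, Odd (orderOf g) → g ^ k = g⁻¹)
    (hθ : ∀ n : N, (θ : N → ℂ) (n ^ k) = (θ : N → ℂ) n) {χ₀ : IrrCharacter G} (hχ₀ : χ₀ ∈ ovr N (θ : N → ℂ))
    (hχ₀k : ∀ g : G, (χ₀ : G → ℂ) (g ^ k) = (χ₀ : G → ℂ) g) (hB : θ ∈ principalBlock M N) : χ₀ ∈ principalBlock M G := by
  classical
  have hprime := isPrime_of_isPModular hM
  have hone : (oneC G) ∈ ovr N (oneC N : N → ℂ) := by
    show classInner (fun n : N => (oneC G : G → ℂ) n) (oneC N : N → ℂ) ≠ 0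
    have e : (fun n : N => (oneC G : G → ℂ) n) = (oneC N : N → ℂ) := by
      funext n; rw [oneC_apply, oneC_apply]
    rw [e, classInner_irr_self]
    exact one_ne_zero
  have h1 := sig_sum (oneC N) hM hidx hk hke hk₂ (fun n => by rw [oneC_apply, oneC_apply]) hone
    (fun g => by rw [oneC_apply, oneC_apply])
  have h2 := sig_sum θ hM hidx hk hke hk₂ hθ hχ₀ hχ₀k
  have h3 : SameBlock M (oneC N : N → ℂ) (θ : N → ℂ) := hB
  have h4 := mw_congr (G := G) (oneC N) hM h3
  have h5 : ind1 (principalBlock M G) (oneC G) *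
        ((oneC G : G → ℂ) 1 * classInner (fun n : N => (oneC G : G → ℂ) n) (oneC N : N → ℂ) / (oneC N : N → ℂ) 1) = 1 := by
    have e : (fun n : N => (oneC G : G → ℂ) n) = (oneC N : N → ℂ) := by
      funext n; rw [oneC_apply, oneC_apply]
    rw [e, classInner_irr_self, ind1_mem (oneC_mem hM), oneC_apply, oneC_apply]
    norm_num
  rw [h5] at h1
  by_contra hcon
  rw [ind1_not_mem hcon, zero_mul, sub_zero] at h2
  have h6 := memLocI_add h4 h2
  rw [sub_add_cancel] at h6
  have h7 := memLocI_sub h6 h1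
  have h8 : MemLocalIdeal M (((1 : ℤ) : ℂ)) := by
    have e : (((1 : ℤ) : ℂ)) = (∑ χ : IrrCharacter G, ind1 (principalBlock M G) χ *
        ((χ : G → ℂ) 1 * classInner (fun n : N => (χ : G → ℂ) n) (oneC N : N → ℂ) / (oneC N : N → ℂ) 1)) -
        ((∑ χ : IrrCharacter G, ind1 (principalBlock M G) χ *
        ((χ : G → ℂ) 1 * classInner (fun n : N => (χ : G → ℂ) n) (oneC N : N → ℂ) / (oneC N : N → ℂ) 1)) - 1) := by
      push_cast; ring
    rw [e]; exact h7
  rw [memLocI_intCast_iff hM] at h8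
  have h9 : (2 : ℤ) ∣ 1 := by exact_mod_cast h8
  omega

end sig

end Cfsg.Agent.H5
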