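import Cfsg.Agent.H5.W5
import Cfsg.Agent.H5.V3
import Cfsg.Agent.H5.V5
import Cfsg.Agent.H2.ActStab
import Cfsg.Agent.L0.Core

set_option autoImplicit false
set_option linter.style.haveILetI false
set_option linter.unusedVariables false
set_option linter.unusedSectionVars false
set_option linter.unusedSimpArgs false

/-! Stable blocks of a normal subgroup containing the centralizer of a defect group. -/

namespace Cfsg.Agent.H5

open Cfsg

universe u v w

section fong
variable {G : Type u} [Group G] [Fintype G] {p : ℕ} {M : Ideal AlgInt} [hM' : M.IsPrime]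

theorem cov_unique_of_centralizer (hM : IsPModular p M) {K : Subgroup G} [hK : K.Normal] {c : MonoidAlgebra (KK M) G}
    (hc : IsBl M K c) (hst : c ∈ KFix (KK M) (⊤ : Subgroup G)) {D : Subgroup G} (hD : Df p M K c D)
    (hCD : Subgroup.centralizer (D : Set G) ≤ K) {b b' : MonoidAlgebra (KK M) G} (hb : IsBl M (⊤ : Subgroup G) b)
    (hb' : IsBl M (⊤ : Subgroup G) b') (h : c * b ≠ 0) (h' : c * b' ≠ 0) : b = b' := by
  obtain ⟨hf, -⟩ := fm1_rel hM hc hD
  have key : ∀ c₁ : MonoidAlgebra (KK M) G, IsBl M (Subgroup.normalizer (D : Set G)) c₁ →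
      ktr (Subgroup.centralizer (D : Set G)) c * c₁ ≠ 0 → c₁ = ktr (Subgroup.centralizer (D : Set G)) c := by
    intro c₁ hc₁ hne
    have hfix : ktr (Subgroup.centralizer (D : Set G)) c ∈ KFix (KK M) (Subgroup.normalizer (D : Set G)) :=
      ktr_KFix le_rfl (KFix_mono le_top hst)
    have hsup : c₁ ∈ KSup (KK M) (Subgroup.centralizer (D : Set G)) :=
      idem_sup_centralizer hM hD.1 Subgroup.le_normalizer le_rfl hc₁.sup hc₁.fix hc₁.idem
    have h1 : c₁ ∈ KSup (KK M) (Subgroup.normalizer (D : Set G) ⊓ K) :=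
      KSup_mono (le_inf (centralizer_le_normalizer D) hCD) hsup
    have hcomm : ktr (Subgroup.centralizer (D : Set G)) c * c₁ = c₁ * ktr (Subgroup.centralizer (D : Set G)) c :=
      commute_of_fix_sup hfix hc₁.sup
    have h2 : c₁ * ktr (Subgroup.centralizer (D : Set G)) c = ktr (Subgroup.centralizer (D : Set G)) c := by
      rcases hf.prim c₁ h1 (KFix_mono inf_le_left hc₁.fix) hc₁.idem with h | h
      · exact h
      · rw [hcomm] at hne; exact absurd h hne
    have h3 : ktr (Subgroup.centralizer (D : Set G)) c * c₁ = c₁ := by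
      rcases hc₁.prim _ (KSup_mono (centralizer_le_normalizer D) (ktr_mem_KSup _ _)) hfix hf.idem with h | h
      · exact h
      · exact absurd h hne
    rw [← h2, ← hcomm, h3]
  obtain ⟨c₁, hc₁, h1, h2⟩ := hk2 hM hD.1 hD.2.1 hc hb hD.2.2.1 h
  obtain ⟨c₂, hc₂, h3, h4⟩ := hk2 hM hD.1 hD.2.1 hc hb' hD.2.2.1 h'
  have h5 := key c₁ hc₁ h2
  have h6 := key c₂ hc₂ h4
  rw [h5] at h1
  rw [h6] at h3
  exact ind_unique hM hD.1 hf.ne hb hb' h1 h3

theorem isBl_top_of_unique {K : Subgroup G} {c : MonoidAlgebra (KK M) G}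
    (hc : IsBl M K c) (hst : c ∈ KFix (KK M) (⊤ : Subgroup G))
    (huniq : ∀ b b' : MonoidAlgebra (KK M) G, IsBl M (⊤ : Subgroup G) b → IsBl M (⊤ : Subgroup G) b' → c * b ≠ 0 →
      c * b' ≠ 0 → b = b') : IsBl M (⊤ : Subgroup G) c := by
  obtain ⟨b, hb, hcb⟩ := exists_Bl_of_idem (KSup_top c) hst hc.idem hc.ne
  have hcomm : b * c = c * b := commute_of_fix_sup hb.fix (KSup_top c)
  have h1 : c - b = 0 := by
    by_contra hne
    have h2 : (c - b) * (c - b) = c - b := by
      rw [sub_mul, mul_sub, mul_sub, hc.idem, hb.idem, hcb, hcomm, hcb]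
      abel
    obtain ⟨b', hb', hcb'⟩ := exists_Bl_of_idem (KSup_top (c - b)) ((KFix (KK M) _).sub_mem hst hb.fix) h2 hne
    have h3 : b * b' = 0 := by
      rw [← hcb', ← mul_assoc, mul_sub, hb.idem, hcomm, hcb, sub_self, zero_mul]
    have h4 : c * b' = b' := by
      rw [sub_mul, h3, sub_zero] at hcb'
      exact hcb'
    have h5 := huniq b b' hb hb' (by rw [hcb]; exact hb.ne) (by rw [h4]; exact hb'.ne)
    rw [← h5, hb.idem] at h3
    exact hb.ne h3
  have h2 : c = b := sub_eq_zero.mp h1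
  rw [h2]
  exact hb

/-- Fong's theorem on stable characters of the `p'`-core. -/
theorem fong_block (hM : IsPModular p M) {N : Subgroup G} [hN : N.Normal] (hs : IsPSolvable p (G ⧸ N))
    (hcore : pPrimeCore p (G ⧸ N) = ⊥) {c : MonoidAlgebra (KK M) G} (hc : IsBl M N c)
    (hst : c ∈ KFix (KK M) (⊤ : Subgroup G)) : IsBl M (⊤ : Subgroup G) c := by
  haveI : Fact p.Prime := ⟨hM.1⟩
  haveI := Fintype.ofFinite (G ⧸ N)
  set K : Subgroup G := (pCore p (G ⧸ N)).comap (QuotientGroup.mk' N) with hKdef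
  have hNK : N ≤ K := by
    intro n hn
    rw [hKdef, Subgroup.mem_comap]
    have : (QuotientGroup.mk' N) n = 1 := (QuotientGroup.eq_one_iff n).mpr hn
    rw [this]
    exact Subgroup.one_mem _
  haveI hKn : K.Normal := by
    haveI : (pCore p (G ⧸ N)).Normal := inferInstance
    exact Subgroup.Normal.comap this _
  have hpow : ∀ g ∈ K, ∃ k : ℕ, g ^ p ^ k ∈ N := by
    intro g hg
    obtain ⟨k, hk⟩ := Cfsg.Agent.L0.pCore_isPGroup p (G ⧸ N) ⟨_, hg⟩
    refine ⟨k, ?_⟩
    have h1 := congrArg Subtype.val hk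
    have h2 : (QuotientGroup.mk' N) (g ^ p ^ k) = 1 := by
      rw [map_pow]; exact h1
    exact (QuotientGroup.eq_one_iff _).mp h2
  have hreg : ∀ g ∈ K, ¬ p ∣ orderOf g → g ∈ N := by
    intro g hg ho
    obtain ⟨k, hk⟩ := hpow g hg
    have hcop : (orderOf g).Coprime (p ^ k) := Nat.Coprime.pow_right k ((Nat.Prime.coprime_iff_not_dvd hM.1).mpr ho).symm
    obtain ⟨m, hm⟩ := exists_pow_eq_self_of_coprime hcop.symm
    rw [← hm]
    exact Subgroup.pow_mem _ hk m
  have hKN : K ≤ Subgroup.normalizer (N : Set G) := le_trans le_top (normalizer_normal N)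
  have hcK : IsBl M K c := by
    have h1 := isBl_osum_reg hM hNK hKN hreg hc
    rwa [(osum_of_stable hc (KFix_mono le_top hst)).1] at h1
  obtain ⟨D, hD⟩ := exists_df hM hcK
  have h1 := defect_covers hM hNK hKN hc (KFix_mono le_top hst) hD.2.1 hD.2.2.2 (R := D ⊔ N) le_sup_left le_sup_right
    (sup_le hD.2.1 hNK)
  have h2 : K ≤ D ⊔ N := le_of_pquot hM.1 le_sup_right hNK hKN hpow h1
  have hCD : Subgroup.centralizer (D : Set G) ≤ K := by
    intro x hx
    rw [hKdef, Subgroup.mem_comap]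
    apply psolv_centralizer_le hM.1 hs hcore
    rw [Subgroup.mem_centralizer_iff]
    intro y hy
    obtain ⟨z, rfl⟩ := QuotientGroup.mk'_surjective N y
    have hz : z ∈ K := hy
    obtain ⟨d, hd, n, hn, rfl⟩ := exists_mul_of_mem_sup (le_trans hD.2.1 hKN) (h2 hz)
    have h3 : (QuotientGroup.mk' N) n = 1 := (QuotientGroup.eq_one_iff n).mpr hn
    rw [map_mul, h3, mul_one, ← map_mul, ← map_mul, (Subgroup.mem_centralizer_iff.mp hx) d hd]
  exact isBl_top_of_unique hcK hst (fun b b' hb hb' h h' => cov_unique_of_centralizer hM hcK hst hD hCD hb hb' h h')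

theorem card_mul_relIndex {H K : Subgroup G} (h : H ≤ K) : Nat.card H * H.relIndex K = Nat.card K := by
  have h1 := Subgroup.relIndex_mul_relIndex ⊥ H K bot_le h
  rwa [Subgroup.relIndex_bot_left, Subgroup.relIndex_bot_left] at h1

theorem sylow_of_df_stable (hM : IsPModular p M) {N : Subgroup G} [hN : N.Normal] (hNp : ¬ p ∣ Nat.card N)
    {c : MonoidAlgebra (KK M) G} (hc : IsBl M N c) (hst : c ∈ KFix (KK M) (⊤ : Subgroup G)) {D : Subgroup G}
    (hD : Df p M (⊤ : Subgroup G) c D) : ¬ p ∣ D.index := by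
  have h1 := defect_covers hM le_top (normalizer_normal N) hc hst hD.2.1 hD.2.2.2 (R := D ⊔ N) le_sup_left le_sup_right
    le_top
  rw [Subgroup.relIndex_top_right] at h1
  have h2 : D.relIndex (D ⊔ N) * (D ⊔ N).index = D.index := Subgroup.relIndex_mul_index le_sup_left
  rw [← h2]
  intro h3
  rcases (hM.1.dvd_mul).mp h3 with h4 | h4
  · apply hNp
    have e1 : D.relIndex (D ⊔ N) * Nat.card D = Nat.card (D ⊔ N : Subgroup G) := by
      rw [mul_comm]; exact card_mul_relIndex le_sup_left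
    have e2 : N.relIndex (D ⊔ N) * Nat.card N = Nat.card (D ⊔ N : Subgroup G) := by
      rw [mul_comm]; exact card_mul_relIndex le_sup_right
    have e3 : N.relIndex (D ⊔ N) = N.relIndex D := by
      rw [sup_comm]; exact Subgroup.relIndex_sup_left D N
    have e4 : N.relIndex D * Nat.card (N ⊓ D : Subgroup G) = Nat.card D := by
      rw [mul_comm, ← Subgroup.inf_relIndex_right]
      exact card_mul_relIndex inf_le_right
    have e5 : D.relIndex (D ⊔ N) * Nat.card (N ⊓ D : Subgroup G) = Nat.card N := by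
      have hpos : 0 < N.relIndex D := Nat.pos_of_ne_zero (fun h => by rw [h, zero_mul] at e4; exact Nat.card_pos.ne e4)
      apply Nat.eq_of_mul_eq_mul_left hpos
      calc N.relIndex D * (D.relIndex (D ⊔ N) * Nat.card (N ⊓ D : Subgroup G)) =
          D.relIndex (D ⊔ N) * (N.relIndex D * Nat.card (N ⊓ D : Subgroup G)) := by ring
        _ = N.relIndex D * Nat.card N := by rw [e4, e1, ← e2, e3]
    exact h4.trans (Dvd.intro _ e5)
  · exact h1 h4

end fong

end Cfsg.Agent.H5
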