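import Cfsg.Agent.H5.W43
import Cfsg.Agent.H5.Infl
import Cfsg.Agent.H4.FrobSchur
import Cfsg.Agent.H4.Count

set_option linter.all false
set_option autoImplicit false

namespace Cfsg.Agent.H5.W63

open Cfsg Cfsg.Agent.H5
open scoped Pointwise ComplexConjugate

universe u
variable {G : Type u} [Group G]

theorem count_ge [Fintype G] (H : Subgroup G) (t : G) (ht : t ∉ H) (ht2 : t * t ∈ H) :
    2 * Nat.card H ≤ Nat.card {g : G // g * g ∈ H} := by
  classical
  let Hf : Finset G := Finset.univ.filter (fun g => g ∈ H)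
  let D : Finset G := Finset.univ.filter (fun c => c ∈ H ∧ t * c * t⁻¹ ∈ H)
  let F : G × G → G := fun x => x.1 * t * x.2 * x.1⁻¹
  have hfib : ∀ a ∈ (Hf ×ˢ D).image F, ((Hf ×ˢ D).filter (fun x => F x = a)).card ≤ D.card := by
    intro a ha
    obtain ⟨⟨h0, c0⟩, hm, rfl⟩ := Finset.mem_image.1 ha
    simp only [Finset.mem_product, Hf, D, Finset.mem_filter, Finset.mem_univ, true_and] at hm
    apply Finset.card_le_card_of_injOn (fun x => t⁻¹ * (h0⁻¹ * x.1) * t)
    · intro x hx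
      obtain ⟨h, c⟩ := x
      simp only [Finset.coe_filter, Set.mem_setOf_eq, Finset.mem_product, Hf, D, Finset.mem_filter, Finset.mem_univ, true_and, F] at hx ⊢
      obtain ⟨⟨h1, h2, h3⟩, h4⟩ := hx
      have e : t⁻¹ * (h0⁻¹ * h) * t = c0 * (h0⁻¹ * h) * c⁻¹ := by
        have h5 : h0⁻¹ * (h * t * c * h⁻¹) * h * c⁻¹ = h0⁻¹ * (h0 * t * c0 * h0⁻¹) * h * c⁻¹ := by rw [h4]
        have h6 : h0⁻¹ * h * t = t * c0 * h0⁻¹ * h * c⁻¹ := by
          calc h0⁻¹ * h * t = h0⁻¹ * (h * t * c * h⁻¹) * h * c⁻¹ := by group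
            _ = h0⁻¹ * (h0 * t * c0 * h0⁻¹) * h * c⁻¹ := h5
            _ = t * c0 * h0⁻¹ * h * c⁻¹ := by group
        calc t⁻¹ * (h0⁻¹ * h) * t = t⁻¹ * (h0⁻¹ * h * t) := by group
          _ = t⁻¹ * (t * c0 * h0⁻¹ * h * c⁻¹) := by rw [h6]
          _ = c0 * (h0⁻¹ * h) * c⁻¹ := by group
      have m1 : t⁻¹ * (h0⁻¹ * h) * t ∈ H := by
        rw [e]
        exact mul_mem (mul_mem hm.2.1 (mul_mem (inv_mem hm.1) h1)) (inv_mem h2)
      have m2 : t * (t⁻¹ * (h0⁻¹ * h) * t) * t⁻¹ ∈ H := by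
        have : t * (t⁻¹ * (h0⁻¹ * h) * t) * t⁻¹ = h0⁻¹ * h := by group
        rw [this]; exact mul_mem (inv_mem hm.1) h1
      exact ⟨m1, m2⟩
    · intro x hx y hy hxy
      obtain ⟨h, c⟩ := x
      obtain ⟨h', c'⟩ := y
      simp only [Finset.coe_filter, Set.mem_setOf_eq, F] at hx hy
      have h1 : h = h' := by
        have := congrArg (fun w => h0 * (t * w * t⁻¹)) hxy
        simp only at this
        have e1 : h0 * (t * (t⁻¹ * (h0⁻¹ * h) * t) * t⁻¹) = h := by group
        have e2 : h0 * (t * (t⁻¹ * (h0⁻¹ * h') * t) * t⁻¹) = h' := by group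
        rw [e1, e2] at this; exact this
      subst h1
      have h2 := hx.2.trans hy.2.symm
      have h3 : c = c' := by
        have := mul_right_cancel h2
        exact mul_left_cancel this
      rw [h3]
  have hcard := Finset.card_le_mul_card_image (f := F) (Hf ×ˢ D) D.card hfib
  rw [Finset.card_product] at hcard
  have hDpos : 0 < D.card := Finset.card_pos.2 ⟨1, by simp [D]⟩
  have h1 : Hf.card ≤ ((Hf ×ˢ D).image F).card := by
    rw [mul_comm] at hcard
    exact Nat.le_of_mul_le_mul_left hcard hDpos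
  have hdisj : Disjoint Hf ((Hf ×ˢ D).image F) := by
    rw [Finset.disjoint_left]
    intro g hg hg2
    obtain ⟨⟨h, c⟩, hm, rfl⟩ := Finset.mem_image.1 hg2
    simp only [Finset.mem_product, Hf, D, Finset.mem_filter, Finset.mem_univ, true_and, F] at hm hg
    apply ht
    have : t = h⁻¹ * (h * t * c * h⁻¹) * h * c⁻¹ := by group
    rw [this]
    exact mul_mem (mul_mem (mul_mem (inv_mem hm.1) hg) hm.1) (inv_mem hm.2.1)
  have hsub : Hf ∪ ((Hf ×ˢ D).image F) ⊆ Finset.univ.filter (fun g : G => g * g ∈ H) := by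
    intro g hg
    rw [Finset.mem_filter]
    refine ⟨Finset.mem_univ _, ?_⟩
    rcases Finset.mem_union.1 hg with hg | hg
    · simp only [Hf, Finset.mem_filter, Finset.mem_univ, true_and] at hg
      exact mul_mem hg hg
    · obtain ⟨⟨h, c⟩, hm, rfl⟩ := Finset.mem_image.1 hg
      simp only [Finset.mem_product, Hf, D, Finset.mem_filter, Finset.mem_univ, true_and, F] at hm ⊢
      have : h * t * c * h⁻¹ * (h * t * c * h⁻¹) = h * ((t * c * t⁻¹) * (t * t) * c) * h⁻¹ := by group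
      rw [this]
      exact mul_mem (mul_mem hm.1 (mul_mem (mul_mem hm.2.2 ht2) hm.2.1)) (inv_mem hm.1)
  have h2 := Finset.card_le_card hsub
  rw [Finset.card_union_of_disjoint hdisj] at h2
  have h3 : Nat.card H = Hf.card := by
    rw [Nat.card_eq_fintype_card]
    exact Fintype.card_subtype _
  have h4 : Nat.card {g : G // g * g ∈ H} = (Finset.univ.filter (fun g : G => g * g ∈ H)).card := by
    rw [Nat.card_eq_fintype_card, Fintype.card_subtype]
  rw [h3, h4]; omega

/-- the Frobenius–Schur sum of the permutation character -/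
theorem fs_sum [Fintype G] (H : Subgroup G) [Fintype H] :
    ∑ χ : IrrCharacter G, H4.fsInd (χ : G → ℂ) * classInner (fun h : H => (χ : G → ℂ) h) (fun _ : H => (1 : ℂ))
      = (Nat.card H : ℂ)⁻¹ * (Nat.card {g : G // g * g ∈ H} : ℂ) := by
  classical
  have h1 : ∑ χ : IrrCharacter G, H4.fsInd (χ : G → ℂ) * classInner (fun h : H => (χ : G → ℂ) h) (fun _ : H => (1 : ℂ))
      = (Nat.card H : ℂ)⁻¹ * ∑ h : H, (Nat.card {s : G // s * s = (h : G)} : ℂ) := by
    simp only [H4.card_sqrt, classInner, map_one, mul_one]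
    rw [Finset.sum_comm, Finset.mul_sum]
    apply Finset.sum_congr rfl
    intro χ _
    rw [Finset.mul_sum, Finset.mul_sum, Finset.mul_sum]
    apply Finset.sum_congr rfl
    intro h _
    ring
  rw [h1]
  congr 1
  have h2 : Nat.card {g : G // g * g ∈ H} = ∑ h : H, Nat.card {s : G // s * s = (h : G)} := by
    rw [← Nat.card_sigma]
    apply Nat.card_congr
    refine ⟨fun g => ⟨⟨g.1 * g.1, g.2⟩, ⟨g.1, rfl⟩⟩, fun x => ⟨x.2.1, by rw [x.2.2]; exact x.1.2⟩, fun _ => rfl, ?_⟩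
    rintro ⟨⟨h, hh⟩, ⟨s, hs⟩⟩
    simp only at hs
    subst hs
    rfl
  rw [h2]; push_cast; rfl

end Cfsg.Agent.H5.W63
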