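import Cfsg.Agent.H5.W63

set_option linter.all false
set_option autoImplicit false

namespace Cfsg.Agent.H5.W64

open Cfsg Cfsg.Agent.H5
open scoped Pointwise ComplexConjugate

universe u
variable {G : Type u} [Group G]

theorem main [Fintype G] (H : Subgroup G) : Nat.card {χ : Cfsg.IrrCharacter G // Cfsg.classInner (Cfsg.indFun H (fun _ : H => (1 : ℂ))) (χ : G → ℂ) ≠ 0 ∧ (∀ g : G, (starRingEnd ℂ) ((χ : G → ℂ) g) = (χ : G → ℂ) g) ∧ (Nat.card G : ℂ)⁻¹ * ∑ g : G, (χ : G → ℂ) (g * g) = 1} = 1 ↔ Odd H.normalCore.index := by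
  classical
  haveI : Fintype H := Fintype.ofFinite _
  haveI : Fintype H.normalCore := Fintype.ofFinite _
  let triv : IrrCharacter G := ⟨_, isIrrCharacter_trivial⟩
  let trivH : IrrCharacter H := ⟨_, isIrrCharacter_trivial⟩
  let trivN : IrrCharacter H.normalCore := ⟨_, isIrrCharacter_trivial⟩
  have hrec : ∀ χ : IrrCharacter G, classInner (indFun H (fun _ : H => (1 : ℂ))) (χ : G → ℂ) =
      conj (classInner (fun h : H => (χ : G → ℂ) h) (fun _ : H => (1 : ℂ))) := by
    intro χ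
    rw [frobenius_reciprocity H _ (irr_classFun χ), classInner_conj_symm]
  have hnat : ∀ χ : IrrCharacter G, ∃ n : ℕ, classInner (fun h : H => (χ : G → ℂ) h) (fun _ : H => (1 : ℂ)) = n := by
    intro χ
    exact IsCharacter.inner_nat (isCharacter_restrict H (irr_isCharacter χ)) trivH
  choose n hn using hnat
  have hne : ∀ χ : IrrCharacter G, classInner (indFun H (fun _ : H => (1 : ℂ))) (χ : G → ℂ) ≠ 0 ↔ n χ ≠ 0 := by
    intro χ
    rw [hrec, hn]; simp
  have hfs : ∀ χ : IrrCharacter G, ∃ e : ℤ, H4.fsInd (χ : G → ℂ) = e ∧ (e = 0 ∨ e = 1 ∨ e = -1) := by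
    intro χ
    rcases H4.fsInd_irr χ with h | h | h
    · exact ⟨0, by rw [h]; simp, Or.inl rfl⟩
    · exact ⟨1, by rw [h]; simp, Or.inr (Or.inl rfl)⟩
    · exact ⟨-1, by rw [h]; simp, Or.inr (Or.inr rfl)⟩
  choose e he he' using hfs
  have hntriv : n triv = 1 := by
    have h1 := hn triv
    have h2 : classInner (fun h : H => (triv : G → ℂ) h) (fun _ : H => (1 : ℂ)) = 1 := classInner_irr_self trivH
    rw [h2] at h1; exact_mod_cast h1.symm
  have htrivS : classInner (indFun H (fun _ : H => (1 : ℂ))) (triv : G → ℂ) ≠ 0 ∧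
      (∀ g : G, (starRingEnd ℂ) ((triv : G → ℂ) g) = (triv : G → ℂ) g) ∧
      (Nat.card G : ℂ)⁻¹ * ∑ g : G, (triv : G → ℂ) (g * g) = 1 := by
    refine ⟨(hne triv).2 (by rw [hntriv]; exact one_ne_zero), fun g => by show conj (1 : ℂ) = 1; simp, ?_⟩
    show (Nat.card G : ℂ)⁻¹ * ∑ g : G, (1 : ℂ) = 1
    rw [Finset.sum_const, nsmul_eq_mul, mul_one, Finset.card_univ, ← Nat.card_eq_fintype_card]
    exact inv_mul_cancel₀ (by exact_mod_cast Nat.card_pos.ne')
  constructor
  · intro hcard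
    rw [← Nat.not_even_iff_odd]
    intro hev
    haveI : Fact (Nat.Prime 2) := ⟨Nat.prime_two⟩
    have h2d : 2 ∣ Nat.card (G ⧸ H.normalCore) := even_iff_two_dvd.1 hev
    obtain ⟨q, hq⟩ := exists_prime_orderOf_dvd_card' 2 h2d
    obtain ⟨t0, rfl⟩ := QuotientGroup.mk_surjective q
    have ht0 : t0 ∉ H.normalCore := by
      intro h
      rw [(QuotientGroup.eq_one_iff t0).2 h, orderOf_one] at hq
      omega
    have ht0' : t0 * t0 ∈ H.normalCore := by
      rw [← QuotientGroup.eq_one_iff, QuotientGroup.mk_mul, ← pow_two, ← hq]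
      exact pow_orderOf_eq_one _
    have hx : ∃ x : G, x * t0 * x⁻¹ ∉ H := by
      by_contra h
      push Not at h
      exact ht0 h
    obtain ⟨x, hx⟩ := hx
    have hx2 : (x * t0 * x⁻¹) * (x * t0 * x⁻¹) ∈ H := by
      have : (x * t0 * x⁻¹) * (x * t0 * x⁻¹) = x * (t0 * t0) * x⁻¹ := by group
      rw [this]
      exact ht0' x
    have hge := W63.count_ge H _ hx hx2
    have hsum := W63.fs_sum H
    have hsum2 : ((∑ χ : IrrCharacter G, e χ * (n χ : ℤ) : ℤ) : ℂ) = (Nat.card H : ℂ)⁻¹ * (Nat.card {g : G // g * g ∈ H} : ℂ) := by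
      rw [← hsum]
      push_cast
      apply Finset.sum_congr rfl
      intro χ _
      rw [he, hn]
    have hle : (∑ χ : IrrCharacter G, e χ * (n χ : ℤ)) ≤ 1 := by
      rw [← Finset.add_sum_erase _ _ (Finset.mem_univ triv)]
      have h1 : e triv * (n triv : ℤ) ≤ 1 := by
        rw [hntriv]
        rcases he' triv with h | h | h <;> rw [h] <;> norm_num
      have h2 : ∑ χ ∈ Finset.univ.erase triv, e χ * (n χ : ℤ) ≤ 0 := by
        apply Finset.sum_nonpos
        intro χ hχ
        rcases he' χ with h | h | h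
        · rw [h]; simp
        · by_cases h0 : n χ = 0
          · rw [h0]; simp
          · exfalso
            have hfs1 : H4.fsInd (χ : G → ℂ) = 1 := by rw [he, h]; simp
            have hreal := (H4.fsInd_irr_ne_zero_iff χ).1 (by rw [hfs1]; exact one_ne_zero)
            obtain ⟨hsub, -⟩ := Nat.card_eq_one_iff_unique.1 hcard
            have hS : (⟨χ, (hne χ).2 h0, fun g => Complex.conj_eq_iff_im.2 (hreal g), hfs1⟩ :
              {χ : Cfsg.IrrCharacter G // Cfsg.classInner (Cfsg.indFun H (fun _ : H => (1 : ℂ))) (χ : G → ℂ) ≠ 0 ∧ (∀ g : G, (starRingEnd ℂ) ((χ : G → ℂ) g) = (χ : G → ℂ) g) ∧ (Nat.card G : ℂ)⁻¹ * ∑ g : G, (χ : G → ℂ) (g * g) = 1}) = ⟨triv, htrivS⟩ := Subsingleton.elim _ _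
            have := congrArg Subtype.val hS
            exact (Finset.ne_of_mem_erase hχ) this
        · rw [h]
          have : (0 : ℤ) ≤ n χ := Int.natCast_nonneg _
          linarith
      linarith
    have hH0 : (Nat.card H : ℂ) ≠ 0 := by exact_mod_cast Nat.card_pos.ne'
    have h3 : ((∑ χ : IrrCharacter G, e χ * (n χ : ℤ) : ℤ) : ℂ) * (Nat.card H : ℂ) = (Nat.card {g : G // g * g ∈ H} : ℂ) := by
      rw [hsum2]; field_simp
    have h4 : (∑ χ : IrrCharacter G, e χ * (n χ : ℤ)) * (Nat.card H : ℤ) = (Nat.card {g : G // g * g ∈ H} : ℤ) := by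
      exact_mod_cast h3
    have hHp : 0 < (Nat.card H : ℤ) := by exact_mod_cast Nat.card_pos
    have h5 : (2 * Nat.card H : ℤ) ≤ (Nat.card {g : G // g * g ∈ H} : ℤ) := by exact_mod_cast hge
    nlinarith
  · intro hodd
    rw [Nat.card_eq_one_iff_unique]
    refine ⟨⟨?_⟩, ⟨⟨triv, htrivS⟩⟩⟩
    have key : ∀ χ : IrrCharacter G, classInner (indFun H (fun _ : H => (1 : ℂ))) (χ : G → ℂ) ≠ 0 →
        (∀ g : G, (starRingEnd ℂ) ((χ : G → ℂ) g) = (χ : G → ℂ) g) → χ = triv := by
      intro χ h1 h2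
      have h3 : classInner (fun h : H => (χ : G → ℂ) h) (trivH : H → ℂ) ≠ 0 := by
        have := (hne χ).1 h1
        show classInner (fun h : H => (χ : G → ℂ) h) (fun _ : H => (1 : ℂ)) ≠ 0
        rw [hn]; exact_mod_cast this
      have h4 := inner_trans (N := H.normalCore) (A := H) H.normalCore_le (irr_isCharacter χ) h3 (θ := trivN) (by
        have : classInner (trivN : H.normalCore → ℂ) (trivN : H.normalCore → ℂ) = 1 := classInner_irr_self trivN
        show classInner (fun _ : H.normalCore => (1 : ℂ)) (fun _ : H.normalCore => (1 : ℂ)) ≠ 0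
        intro h
        have h' : classInner (fun _ : H.normalCore => (1 : ℂ)) (fun _ : H.normalCore => (1 : ℂ)) = 1 := this
        rw [h] at h'; exact zero_ne_one h')
      have h5 := ker_of_inner χ h4
      obtain ⟨θ, hθ⟩ := irr_deflate χ.2 h5
      have h6 : (θ : G ⧸ H.normalCore → ℂ) = fun _ => 1 := by
        apply H4.real_eq_one_of_odd hodd
        intro g
        obtain ⟨g, rfl⟩ := QuotientGroup.mk_surjective g
        have h7 := congrFun hθ g
        have h8 := h2 g
        rw [h7] at h8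
        exact Complex.conj_eq_iff_im.1 h8
      apply Subtype.ext
      rw [hθ, h6]
      rfl
    intro a b
    apply Subtype.ext
    rw [key a.1 a.2.1 a.2.2.1, key b.1 b.2.1 b.2.2.1]

end Cfsg.Agent.H5.W64
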